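import Cfsg.Agent.Lib.Recog.SymNine.Local.Cubic
import Cfsg.Agent.Lib.Block.ThreeCube
import Cfsg.Agent.Lib.Comp.Signalizer

/-!
If the centralisers of all nontrivial elements of `J` normalise `J`, then `J` is normal.
-/

set_option autoImplicit false

namespace CfsgLib.Recog.SymNine.Local

open Subgroup CfsgLib.Block.ThreeCube

variable {G : Type*} [Group G] [Finite G] {F : Frame G}

namespace Frame

theorem mem_left_hom {v w : W} (hv : v.right = 1) (hw : w.right = 1) :
    (v * w).left = v.left * w.left := by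
  rw [SemidirectProduct.mul_left, hv, map_one, MulAut.one_apply]

/-- the kernel of the cubic transfer normalises `J` -/
theorem cubic_ker_le (hloc : F.Loc) {V : F.K →* Multiplicative (ZMod 3)}
    (hV : ∀ (k : F.K) (w : W), F.Rel (k : G) w → (V k = 1 ↔ w.right = 1)) :
    V.ker.map F.K.subtype ≤ F.N := by
  classical
  haveI : Fact (Nat.Prime 3) := ⟨Nat.prime_three⟩
  obtain ⟨M, hM⟩ : ∃ M, V.ker.map F.K.subtype = M := ⟨_, rfl⟩
  rw [hM]
  -- description of the intersection with the normaliser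
  have hmem : ∀ g w, F.Rel g w → (g ∈ M ↔ w.right = 1 ∧ sgnProd w = 1) := by
    intro g w h
    rw [← hM]
    constructor
    · rintro ⟨k, hk, rfl⟩
      exact ⟨(hV k w h).mp (MonoidHom.mem_ker.mp hk), ((mem_K_iff hloc h).mp k.2).2⟩
    · rintro ⟨hr, hd⟩
      have hp : sgnPerm w = 1 := by
        show Equiv.Perm.sign w.right = 1
        rw [hr, map_one]
      exact ⟨⟨g, (mem_K_iff hloc h).mpr ⟨hp, hd⟩⟩, MonoidHom.mem_ker.mpr ((hV _ w h).mpr hr), rfl⟩
  have hJM : F.J ≤ M := fun g hg => by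
    obtain ⟨w, hw⟩ := F.rel_of_mem (le_normalizer hg)
    have h := hw.inJ_iff.mp hg
    exact (hmem g w hw).mpr ⟨h.1, (mu_of_inJ w h).2.1⟩
  let H : Subgroup M := F.N.subgroupOf M
  let T : Subgroup M := F.J.subgroupOf M
  have hTH : T ≤ H := fun m hm => le_normalizer (mem_subgroupOf.mp hm)
  have hTcard : Nat.card T = 27 :=
    (Nat.card_congr (subgroupOfEquivOfLe hJM).toEquiv).trans F.card_J
  have hcent : ∀ t ∈ T, t ≠ 1 → centralizer ({t} : Set M) ≤ H := fun t ht ht1 m hm =>
    mem_subgroupOf.mpr (hloc t ht (fun e => ht1 (Subtype.ext e))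
      (mem_centralizer_singleton_iff.mpr (congrArg Subtype.val (mem_centralizer_singleton_iff.mp hm))))
  intro g hg
  suffices hH : H = ⊤ from mem_subgroupOf.mp (show (⟨g, hg⟩ : M) ∈ H from hH ▸ mem_top _)
  let wv : H → W := fun n => F.ι ⟨((n : M) : G), mem_subgroupOf.mp n.2⟩
  have hwv : ∀ n : H, F.Rel ((n : M) : G) (wv n) := fun n => ⟨_, rfl⟩
  have hw1 : ∀ n : H, (wv n).right = 1 ∧ sgnProd (wv n) = 1 := fun n =>
    (hmem _ _ (hwv n)).mp (n : M).2
  cases hbe : F.be with
  | false =>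
    have hHT : H = T := le_antisymm (fun m hm => by
      refine mem_subgroupOf.mpr ((hwv ⟨m, hm⟩).inJ_iff.mpr (inJ_of_mem F.bz _ ?_ (hw1 ⟨m, hm⟩).1
        (hw1 ⟨m, hm⟩).2))
      have := (hwv ⟨m, hm⟩).mem_set
      rwa [hbe] at this) hTH
    have hTcomm : ∀ a ∈ T, ∀ b ∈ T, a * b = b * a := fun a ha b hb =>
      Subtype.ext (J_comm (mem_subgroupOf.mp ha) (mem_subgroupOf.mp hb))
    have hT3 : ∀ a ∈ T, a ^ 3 = 1 := fun a ha => Subtype.ext (by
      show (a : G) ^ 3 = 1
      rw [pow_succ, pow_two, J_cube (mem_subgroupOf.mp ha)])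
    letI : CommGroup T :=
      { (inferInstance : Group T) with
        mul_comm := fun a b => Subtype.ext (hTcomm a a.2 b b.2) }
    haveI : T.FiniteIndex := finiteIndex_of_finite
    let U : M →* T := MonoidHom.transfer (MonoidHom.id T)
    have hfix : ∀ t : T, (t : M) ≠ 1 → ∀ k : M, k⁻¹ * (t : M) * k ∈ T → k ∈ T := by
      intro t ht1 k hk
      have hkN : (k : G)⁻¹ ∈ F.N := ti hloc (mem_subgroupOf.mp t.2) (fun e => ht1 (Subtype.ext e))
        (by rw [inv_inv]; exact mem_subgroupOf.mp hk)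
      exact hHT ▸ mem_subgroupOf.mpr (inv_inv (k : G) ▸ inv_mem hkN)
    have hUT : ∀ t : T, U t = t := by
      intro t
      by_cases ht1 : (t : M) = 1
      · rw [ht1, map_one]; exact Subtype.ext ht1.symm
      · refine (transfer_of_prime_single T (MonoidHom.id T) 3 (hT3 _ t.2) t.2 fun k hk hkT => ?_)
        exact absurd (hfix t ht1 k hk) hkT
    have hindex : T.index % 3 = 1 := by
      have hP : IsPGroup 3 T := fun a => ⟨1, Subtype.ext (hT3 a a.2)⟩
      have h := hP.card_modEq_card_fixedPoints (M ⧸ T)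
      rw [← index_eq_card] at h
      have h1 : Nat.card (MulAction.fixedPoints T (M ⧸ T)) = 1 := by
        obtain ⟨t, ht1⟩ : ∃ t : T, (t : M) ≠ 1 := by
          by_contra hcon
          push Not at hcon
          rw [(Subgroup.eq_bot_iff_forall T).mpr fun a ha => hcon ⟨a, ha⟩, Subgroup.card_bot] at hTcard
          omega
        rw [Nat.card_eq_one_iff_unique]
        refine ⟨⟨fun a b => Subtype.ext ?_⟩, ⟨⟨((1 : M) : M ⧸ T), fun s => ?_⟩⟩⟩
        · have key : ∀ c : MulAction.fixedPoints T (M ⧸ T), (c : M ⧸ T) = ((1 : M) : M ⧸ T) := by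
            rintro ⟨c, hc⟩
            obtain ⟨k, rfl⟩ := QuotientGroup.mk_surjective c
            refine QuotientGroup.eq.mpr ?_
            rw [mul_one]
            exact inv_mem (hfix t ht1 k ((smul_eq_iff T (t : M) k).mp (hc t)))
          rw [key a, key b]
        · exact (smul_eq_iff T (s : M) 1).mpr (by simpa using s.2)
      rw [h1] at h
      exact h
    have hM' : Nat.card U.ker = T.index := by
      have h1 := card_mul_index U.ker
      rw [index_ker, (MonoidHom.range_eq_top.mpr fun t : T => ⟨(t : M), hUT t⟩ : U.range = ⊤),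
        Subgroup.card_top] at h1
      have h2 := card_mul_index T
      rw [← h1, mul_comm (Nat.card U.ker)] at h2
      exact (Nat.eq_of_mul_eq_mul_left Nat.card_pos h2).symm
    have hdis : ∀ m ∈ T, m ∈ U.ker → m = 1 := fun m hm hk => by
      have := hUT ⟨m, hm⟩
      rw [show U m = 1 from MonoidHom.mem_ker.mp hk] at this
      exact (congrArg Subtype.val this).symm
    have hker : U.ker = ⊥ := by
      have hEA : Cfsg.IsElementaryAbelian 3 T :=
        ⟨⟨⟨fun a b => Subtype.ext (hTcomm a a.2 b b.2)⟩⟩, hT3⟩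
      have hne : T ≠ ⊥ := fun e => by rw [e, Subgroup.card_bot] at hTcard; omega
      have hX : ¬ 3 ∣ Nat.card U.ker := by
        rw [hM']; omega
      have hTN : T ≤ normalizer (U.ker : Set M) := by
        rw [Subgroup.normalizer_eq_top]; exact le_top
      rw [CfsgLib.Comp.eq_iSup_centralizer_hyperplane hEA hne hX hTN]
      refine iSup_eq_bot.mpr fun ⟨B, hBT, hB⟩ => ?_
      obtain ⟨t, ht, ht1⟩ : ∃ t ∈ B, t ≠ 1 := by
        by_contra hcon
        push Not at hcon
        rw [(Subgroup.eq_bot_iff_forall B).mpr hcon, relIndex_bot_left, hTcard] at hB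
        omega
      refine eq_bot_iff.mpr fun n hn => Subgroup.mem_bot.mpr (hdis n ?_ hn.1)
      exact hHT ▸ hcent t (hBT ht) ht1 (centralizer_le (Set.singleton_subset_iff.mpr ht) hn.2)
    rw [hHT]
    refine index_eq_one.mp ?_
    rw [← hM', hker, Subgroup.card_bot]
  | true =>
    have hevn : ∀ n : H, Evn (wv n).left := fun n => evn_of_mem _ (hw1 n).1 (hw1 n).2
    let e : H →* Mdl := MonoidHom.mk' (fun n => ⟨(wv n).left, hevn n⟩) fun m n => Subtype.ext (by
      show (wv (m * n)).left = (wv m).left * (wv n).left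
      rw [(hwv (m * n)).unique ((hwv m).mul (hwv n)), mem_left_hom (hw1 m).1 (hw1 n).1])
    have hbij : Function.Bijective e := by
      refine ⟨fun m n h => ?_, fun a => ?_⟩
      · have hl : (wv m).left = (wv n).left := congrArg Subtype.val h
        have hw : wv m = wv n := SemidirectProduct.ext hl ((hw1 m).1.trans (hw1 n).1.symm)
        exact Subtype.ext (Subtype.ext ((hwv m).eq (hw ▸ hwv n)))
      · obtain ⟨hm, hd, -, -⟩ := mem_of_evn a.1 a.2 F.bz
        obtain ⟨x, hx⟩ := F.exists_rel (w := (⟨a.1, 1⟩ : W)) (by rwa [hbe])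
        let n : H := ⟨⟨x, (hmem x _ hx).mpr ⟨rfl, hd⟩⟩, mem_subgroupOf.mpr hx.1⟩
        refine ⟨n, Subtype.ext ?_⟩
        exact congrArg SemidirectProduct.left ((hwv n).unique hx)
    have hnorm : normalizer (T : Set M) = H := by
      refine le_antisymm (fun m hm => ?_) (fun m hm => mem_normalizer_iff.mpr fun t =>
        mem_normalizer_iff.mp (mem_subgroupOf.mp hm) (t : G))
      obtain ⟨t, ht, ht1⟩ : ∃ t ∈ T, t ≠ 1 := by
        by_contra hcon
        push Not at hcon
        rw [(Subgroup.eq_bot_iff_forall T).mpr hcon, Subgroup.card_bot] at hTcard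
        omega
      exact mem_subgroupOf.mpr (ti hloc (mem_subgroupOf.mp ht) (fun e => ht1 (Subtype.ext e))
        ((mem_normalizer_iff.mp hm t).mp ht))
    exact CfsgLib.Block.ThreeCube.eq_top H T ⟨(MulEquiv.ofBijective e hbij).symm⟩ hTH hTcard hnorm hcent

/-- If every centraliser of a nontrivial element of `J` normalises `J`, then `J` is normal. -/
theorem normal_of_local (F : Frame G) (hloc : F.Loc) : F.J.Normal := by
  classical
  obtain ⟨V, hV⟩ := exists_cubic hloc
  have hle := cubic_ker_le hloc hV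
  rw [← normalizer_eq_top_iff, eq_top_iff]
  intro g _
  haveI := F.K_normal
  have hJK : ∀ j ∈ F.J, j ∈ F.K := fun j hj => by
    obtain ⟨w, hw⟩ := F.rel_of_mem (le_normalizer hj)
    have h := mu_of_inJ w (hw.inJ_iff.mp hj)
    exact (mem_K_iff hloc hw).mpr ⟨h.1, h.2.1⟩
  have hgK : ∀ j : F.J, g * (j : G) * g⁻¹ ∈ F.K := fun j =>
    (F.K_normal).conj_mem _ (hJK j j.2) g
  let f : F.J →* Multiplicative (ZMod 3) := V.comp (MonoidHom.mk' (fun j => (⟨_, hgK j⟩ : F.K))
    fun a b => Subtype.ext (by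
      show g * ((a : G) * b) * g⁻¹ = g * a * g⁻¹ * (g * b * g⁻¹)
      group))
  obtain ⟨t, htk, ht1⟩ : ∃ t, f t = 1 ∧ t ≠ 1 := by
    by_contra hcon
    push Not at hcon
    have hinj : Function.Injective f := (injective_iff_map_eq_one f).mpr hcon
    have := Nat.card_le_card_of_injective f hinj
    rw [F.card_J] at this
    simp at this
  have hN : g * (t : G) * g⁻¹ ∈ F.N := hle ⟨⟨_, hgK t⟩, MonoidHom.mem_ker.mpr htk, rfl⟩
  obtain ⟨w, hw⟩ := F.rel_of_mem hN
  have hr : w.right = 1 := (hV ⟨_, hgK t⟩ w hw).mp htk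
  have h3 : g * (t : G) * g⁻¹ * (g * (t : G) * g⁻¹) * (g * (t : G) * g⁻¹) = 1 := by
    rw [show g * (t : G) * g⁻¹ * (g * (t : G) * g⁻¹) * (g * (t : G) * g⁻¹) =
      g * ((t : G) * t * t) * g⁻¹ by group, J_cube t.2]
    group
  refine ti hloc t.2 (fun e => ht1 (Subtype.ext e)) (hw.inJ_iff.mpr (inJ_of_right w hr ?_))
  rw [show (9 : ℕ) = 3 * 3 from rfl, pow_mul, pow_succ w 2, pow_two w,
    ((hw.mul hw).mul hw).eq_one_iff.mp h3, one_pow]

end Frame

end CfsgLib.Recog.SymNine.Local
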