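import Cfsg.Agent.Lib.Recog.SymNine.Local.Model
import Cfsg.Agent.Lib.Block.ThreeCube

/-!
The monomial group acting on nine points: the permutations preserving the three blocks.
-/

set_option autoImplicit false

namespace CfsgLib.Recog.SymNine.Local

open CfsgLib.Block.ThreeCube

/-- the image of a point -/
def nineMap (w : W) (x : Fin 3 × Fin 3) : Fin 3 × Fin 3 :=
  (w.right x.1, dPermFun (comp (w.right x.1) w.left) x.2)

theorem comp_mul' (i : Fin 3) (a b : Tri) : comp i (a * b) = comp i a * comp i b := by
  fin_cases i <;> rfl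

theorem nineMap_mul (v w : W) (x : Fin 3 × Fin 3) :
    nineMap (v * w) x = nineMap v (nineMap w x) := by
  refine Prod.ext rfl ?_
  show dPermFun (comp ((v.right * w.right) x.1) (v.left * permTri v.right w.left)) x.2 = _
  rw [comp_mul', dPermFun_mul, comp_permTri]
  simp [nineMap]

theorem nineMap_one (x : Fin 3 × Fin 3) : nineMap 1 x = x := by
  revert x; decide +kernel

/-- the action on nine points -/
def nine : W →* Equiv.Perm (Fin 3 × Fin 3) :=
  MonoidHom.mk'
    (fun w =>
      { toFun := nineMap w
        invFun := nineMap w⁻¹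
        left_inv := fun x => by rw [← nineMap_mul, inv_mul_cancel, nineMap_one]
        right_inv := fun x => by rw [← nineMap_mul, mul_inv_cancel, nineMap_one] })
    fun v w => Equiv.ext fun x => nineMap_mul v w x

theorem nine_apply (w : W) (x : Fin 3 × Fin 3) : nine w x = nineMap w x := rfl

theorem nine_ker : ∀ w : W, (∀ x, nineMap w x = x) → w = 1 := by decide +kernel

theorem nine_injective : Function.Injective nine :=
  (injective_iff_map_eq_one nine).mpr fun w h => nine_ker w fun x => by
    rw [← nine_apply, h]; rfl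

theorem exists_dPerm : ∀ f : Equiv.Perm (Fin 3), ∃ a, dPermFun a = f := by decide +kernel

/-- a permutation preserving the blocks comes from the monomial group -/
theorem mem_range_nine (π : Equiv.Perm (Fin 3 × Fin 3))
    (h : ∀ i k, (π (i, k)).1 = (π (i, 0)).1) : π ∈ nine.range := by
  have hsurj : Function.Surjective fun i => (π (i, 0)).1 := fun j => by
    obtain ⟨⟨i, k⟩, hx⟩ := π.surjective (j, 0)
    refine ⟨i, ?_⟩
    show (π (i, 0)).1 = j
    rw [← h i k, hx]
  obtain ⟨p, hp⟩ : ∃ p : Equiv.Perm (Fin 3), ∀ i, p i = (π (i, 0)).1 :=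
    ⟨Equiv.ofBijective _ ⟨Finite.injective_iff_surjective.mpr hsurj, hsurj⟩, fun _ => rfl⟩
  have hf : ∀ i, Function.Injective fun k => (π (i, k)).2 := fun i a b e => by
    have := π.injective (Prod.ext ((h i a).trans (h i b).symm) e : π (i, a) = π (i, b))
    exact (congrArg Prod.snd this)
  choose a ha using fun j => exists_dPerm
    (Equiv.ofBijective _ ⟨hf (p.symm j), Finite.injective_iff_surjective.mp (hf (p.symm j))⟩)
  refine ⟨⟨(a 0, a 1, a 2), p⟩, Equiv.ext fun x => ?_⟩
  obtain ⟨i, k⟩ := x
  have hc : comp (p i) (a 0, a 1, a 2) = a (p i) := by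
    generalize p i = j
    fin_cases j <;> rfl
  show (p i, dPermFun (comp (p i) (a 0, a 1, a 2)) k) = π (i, k)
  refine Prod.ext ((hp i).trans (h i k).symm) ?_
  rw [hc, ha, p.symm_apply_apply]
  rfl

theorem nine_x₀ : ∀ i k : Fin 3, nineMap x₀ (i, k) = (i, k - 1) := by decide +kernel

theorem comm_inJ : ∀ w : W, w * x₀ = x₀ * w → negs w = 0 := by decide +kernel

theorem plus_right : ∀ w : W, w.right = 1 → w * w * w = 1 → InJ w := by decide +kernel

end CfsgLib.Recog.SymNine.Local
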