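import Cfsg.Agent.Lib.Recog.SymNine.Group
import Cfsg.Agent.Lib.Recog.SymNine.Local.Main
import Cfsg.Agent.Lib.Recog.SymNine.Local.NineModel

/-!
A cube with all point centralisers local gives a frame: the normaliser acts on the nine cosets of
`⟨e₁, e₂⟩ S`, with `S` a Sylow 2-subgroup of the stabiliser of the line of `e₀`.
-/

set_option autoImplicit false

namespace CfsgLib.Recog.SymNine.Local

open Subgroup
open CfsgLib.Recog.SymNine

universe u

variable {G : Type u} [Group G] [Finite G] {X : Mon → Bool} (C : Cube G X)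

/-- fixing the line of the first basis vector -/
abbrev FixLine (m : Mon) : Prop := src m.1 0 = 0

theorem fixLine_comp : ∀ m n : Mon, FixLine m → FixLine n → FixLine (comp m n) := by
  decide +kernel

theorem fixLine_inv : ∀ m n : Mon, comp n m = monOne → FixLine m → FixLine n := by decide +kernel

theorem fixLine_iff : ∀ m : Mon, FixLine m ↔ act m e0 = e0 ∨ act m e0 = -e0 := by decide +kernel

theorem fixLine_four : ∀ m : Mon, FixLine m → comp (comp m m) (comp m m) = monOne := by
  decide +kernel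

theorem act_plane : ∀ m : Mon, FixLine m → ∀ v : V, get v 0 = 0 → get (act m v) 0 = 0 := by
  decide +kernel

theorem decomp : ∀ v : V, v = v.1.val • e0 + (0, v.2.1, v.2.2) := by decide +kernel

theorem get_add_zero : ∀ v w : V, get v 0 = 0 → get w 0 = 0 →
    get (v + w) 0 = 0 ∧ get (-v) 0 = 0 := by
  decide +kernel

theorem exists_unit : ∀ m : Mon, ∃ i : Fin 3,
    act m e0 = ![e0, e1, e2] i ∨ act m e0 = -(![e0, e1, e2] i) := by decide +kernel

theorem exists_moving : ∀ i : Fin 3, ∃ q : Fin 6,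
    act (q, false, false, false) e0 = ![e0, e1, e2] i ∧ act (q, false, false, false) x0 = x0 := by
  decide +kernel

theorem unit_inj : ∀ i j : Fin 3, ![e0, e1, e2] i = ![e0, e1, e2] j ∨
    ![e0, e1, e2] i = -(![e0, e1, e2] j) → i = j := by decide +kernel

theorem perm_x0 : ∀ q : Fin 6, act (q, false, false, false) x0 = x0 := by decide +kernel

theorem neg_smul_e0 : ∀ a b : Fin 3, get ((-(a.val : ℤ)) • e0 - (-(b.val : ℤ)) • e0) 0 = 0 →
    a = b := by decide +kernel

theorem neg_shift : ∀ k : Fin 3, get ((-((k - 1 : Fin 3).val : ℤ)) • e0 -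
    (x0 + (-(k.val : ℤ)) • e0)) 0 = 0 := by decide +kernel

theorem exists_shift : ∀ v : V, ∃ k : Fin 3, get ((-(k.val : ℤ)) • e0 - v) 0 = 0 := by
  decide +kernel

theorem act_neg' : ∀ m : Mon, ∀ v : V, act m (-v) = -act m v := by decide +kernel

theorem zero_coord : ∀ (i : Fin 3) (q : Fin 6), act (q, false, false, false) e0 = ![e0, e1, e2] i →
    ∀ w : V, get w 0 = 0 → get (act (q, false, false, false) w) i = get 0 i := by decide +kernel

theorem three_zero : ∀ v : V, v + v + v = 0 := by decide +kernel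

theorem comp_one_inj : ∀ r r' : Fin 6, comp monOne (r, false, false, false) =
    comp monOne (r', false, false, false) → r = r' := by decide +kernel

theorem card_negs_zero : Fintype.card (V × Fin 6) = Fintype.card {w : W // negs w = 0} := by
  rw [Fintype.card_subtype]
  decide +kernel

theorem pt_zero_of (v : V) : v = 0 → C.pt v = 1 := fun h => h ▸ C.pt_zero

/-- the element of the normaliser given by a point -/
def ptN (v : V) : C.N := ⟨C.pt v, le_normalizer ⟨v, rfl⟩⟩

theorem ptN_add (v w : V) : ptN C (v + w) = ptN C v * ptN C w := Subtype.ext (C.pt_add v w)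

theorem ptN_neg (v : V) : ptN C (-v) = (ptN C v)⁻¹ := Subtype.ext (C.pt_neg v)

theorem actOf_ptN (v : V) : C.actOf (ptN C v) = monOne := C.actOf_eq (C.acts_pt v)

theorem actOf_one : C.actOf 1 = monOne := C.actOf_eq (by simpa using Acts.one (pt := C.pt))

theorem conj_ptN (n : C.N) (v : V) : n * ptN C v * n⁻¹ = ptN C (act (C.actOf n) v) :=
  Subtype.ext (C.actOf_spec n v)

/-- the stabiliser of the first line -/
def lineStab : Subgroup C.N where
  carrier := {n | FixLine (C.actOf n)}
  one_mem' := by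
    show FixLine (C.actOf 1)
    rw [actOf_one]; rfl
  mul_mem' := fun {a b} ha hb => by
    show FixLine (C.actOf (a * b))
    rw [C.actOf_mul]; exact fixLine_comp _ _ ha hb
  inv_mem' := fun {a} ha => fixLine_inv _ _ (by rw [← C.actOf_mul, inv_mul_cancel, actOf_one]) ha

theorem exists_complement : ∃ S : Subgroup C.N, S ≤ lineStab C ∧
    (∀ v, ptN C v ∈ S → v = 0) ∧ ∀ n ∈ lineStab C, ∃ v, ∃ s ∈ S, n = ptN C v * s := by
  classical
  haveI : Fact (Nat.Prime 2) := ⟨Nat.prime_two⟩
  let L := lineStab C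
  let J' : Subgroup L := (C.J.subgroupOf C.N).subgroupOf L
  haveI : (C.J.subgroupOf C.N).Normal := normal_in_normalizer
  haveI : J'.Normal := inferInstanceAs ((C.J.subgroupOf C.N).subgroupOf L).Normal
  have hJ' : ∀ a : L, a ∈ J' ↔ ∃ v, ptN C v = (a : C.N) := fun a =>
    ⟨fun ⟨v, hv⟩ => ⟨v, Subtype.ext hv⟩, fun ⟨v, hv⟩ => ⟨v, congrArg Subtype.val hv⟩⟩
  have hQ : IsPGroup 2 (L ⧸ J') := by
    intro q
    obtain ⟨a, rfl⟩ := QuotientGroup.mk_surjective q
    refine ⟨2, ?_⟩
    rw [← QuotientGroup.mk_pow, QuotientGroup.eq_one_iff, hJ']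
    have h4 : C.actOf (((a ^ (2 ^ 2) : L) : C.N)) = monOne := by
      rw [show ((a ^ (2 ^ 2) : L) : C.N) = ((a : C.N) * a) * ((a : C.N) * a) by
        rw [SubmonoidClass.coe_pow, show (2 : ℕ) ^ 2 = 2 + 2 from rfl,
          pow_add, pow_two], C.actOf_mul, C.actOf_mul]
      exact fixLine_four _ a.2
    obtain ⟨v, hv⟩ := C.eq_pt_of_acts_one (h4 ▸ C.actOf_spec ((a ^ (2 ^ 2) : L) : C.N))
    exact ⟨v, Subtype.ext hv⟩
  let P : Sylow 2 L := default
  let P' := P.mapSurjective (QuotientGroup.mk'_surjective J')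
  have htop : (P' : Subgroup (L ⧸ J')) = ⊤ := (P'.is_maximal'
    (IsPGroup.to_subgroup hQ ⊤) le_top).symm
  refine ⟨(P : Subgroup L).map L.subtype, map_subtype_le _, fun v hv => ?_, fun n hn => ?_⟩
  · obtain ⟨a, ha, hav⟩ := hv
    obtain ⟨k, hk⟩ := P.isPGroup' ⟨a, ha⟩
    have ha3 : a ^ 3 = 1 := Subtype.ext (by
      rw [SubmonoidClass.coe_pow, show (a : C.N) = ptN C v from hav, OneMemClass.coe_one]
      exact Subtype.ext (C.pt_cube v))
    have hak : a ^ (2 ^ k) = 1 := congrArg Subtype.val hk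
    have ha1 : a = 1 := orderOf_eq_one_iff.mp (Nat.eq_one_of_dvd_coprimes
      ((Nat.coprime_pow_left_iff (Nat.succ_pos k) 2 3).mpr (by norm_num) |>.coprime_dvd_left
        (pow_dvd_pow 2 (Nat.le_succ k))) (orderOf_dvd_of_pow_eq_one hak)
      (orderOf_dvd_of_pow_eq_one ha3))
    refine C.pt_inj ?_
    rw [C.pt_zero, show C.pt v = ((a : C.N) : G) from (congrArg Subtype.val hav).symm, ha1]
    rfl
  · have hmem : ((⟨n, hn⟩ : L) : L ⧸ J') ∈ (P' : Subgroup (L ⧸ J')) := htop ▸ mem_top _
    obtain ⟨b, hb, hbn⟩ := hmem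
    have h1 : b⁻¹ * ⟨n, hn⟩ ∈ J' := QuotientGroup.eq.mp hbn
    obtain ⟨v, hv⟩ := (hJ' _).mp h1
    refine ⟨act (C.actOf (b : C.N)) v, b, ⟨b, hb, rfl⟩, ?_⟩
    rw [← conj_ptN, hv]
    push_cast
    group

/-- the points with vanishing first coordinate times the complement -/
def pointStab (S : Subgroup C.N) (hS : S ≤ lineStab C) : Subgroup C.N where
  carrier := {n | ∃ v, get v 0 = 0 ∧ ∃ s ∈ S, n = ptN C v * s}
  one_mem' := ⟨0, rfl, 1, S.one_mem, by rw [mul_one]; exact Subtype.ext C.pt_zero.symm⟩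
  mul_mem' := by
    rintro _ _ ⟨v, hv, s, hs, rfl⟩ ⟨w, hw, t, ht, rfl⟩
    refine ⟨v + act (C.actOf s) w, (get_add_zero _ _ hv (act_plane _ (hS hs) _ hw)).1, s * t,
      S.mul_mem hs ht, ?_⟩
    rw [ptN_add, ← conj_ptN]
    group
  inv_mem' := by
    rintro _ ⟨v, hv, s, hs, rfl⟩
    refine ⟨act (C.actOf s⁻¹) (-v), act_plane _ (hS (S.inv_mem hs)) _ (get_add_zero v v hv hv).2,
      s⁻¹, S.inv_mem hs, ?_⟩
    rw [← conj_ptN, ptN_neg, inv_inv, mul_inv_rev]
    group

theorem exists_frame_hom (hX : ∀ q : Fin 6, X (q, false, false, false) = true) :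
    ∃ F : Frame G, F.J = C.J := by
  classical
  obtain ⟨S, hSle, hdisj, hdec⟩ := exists_complement C
  let M := pointStab C S hSle
  have hML : M ≤ lineStab C := by
    rintro _ ⟨v, -, s, hs, rfl⟩
    exact (lineStab C).mul_mem (show FixLine (C.actOf (ptN C v)) by rw [actOf_ptN]; rfl) (hSle hs)
  have hMpt : ∀ v, ptN C v ∈ M → get v 0 = 0 := by
    rintro v ⟨w, hw, s, hs, e⟩
    have hs' : ptN C (-w + v) = s := by rw [ptN_add, ptN_neg, e, inv_mul_cancel_left]
    have h0 := hdisj _ (hs' ▸ hs)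
    rwa [show v = w from (neg_add_eq_zero.mp h0).symm]
  choose q hq hqx using exists_moving
  choose g hg using fun i => C.exists_lift (q i, false, false, false) (hX (q i))
  let t : Fin 3 → C.N := fun i => ⟨g i, C.mem_normalizer.2 (hg i).norms⟩
  have ht : ∀ i, C.actOf (t i) = (q i, false, false, false) := fun i => C.actOf_eq (hg i)
  have hpe : ∀ a b : V, ptN C a = ptN C b → a = b := fun a b e => C.pt_inj (congrArg Subtype.val e)
  have hline : ∀ n i, (t i)⁻¹ * n ∈ lineStab C →
      act (C.actOf n) e0 = ![e0, e1, e2] i ∨ act (C.actOf n) e0 = -(![e0, e1, e2] i) := by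
    intro n i h
    have e : n = t i * ((t i)⁻¹ * n) := by group
    rcases (fixLine_iff _).mp h with h' | h'
    · left
      rw [e, C.actOf_mul, act_comp, h', ht, hq]
    · right
      rw [e, C.actOf_mul, act_comp, h', ht]
      rw [act_neg', hq]
  have hexists : ∀ n, ∃ i, (t i)⁻¹ * n ∈ lineStab C := by
    intro n
    obtain ⟨i, hi⟩ := exists_unit (C.actOf n)
    refine ⟨i, (fixLine_iff _).mpr ?_⟩
    have e : t i * ((t i)⁻¹ * n) = n := by group
    have key : act (C.actOf (t i)) (act (C.actOf ((t i)⁻¹ * n)) e0) = act (C.actOf n) e0 := by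
      rw [← act_comp, ← C.actOf_mul, e]
    have hinj : ∀ a b, act (C.actOf (t i)) a = act (C.actOf (t i)) b → a = b := fun a b h => by
      have := congrArg (fun v => ptN C v) h
      simp only [← conj_ptN, mul_left_inj, mul_right_inj] at this
      exact hpe _ _ this
    have hneg : act (C.actOf (t i)) (-e0) = -(![e0, e1, e2] i) := by
      rw [act_neg', ht, hq]
    rcases hi with h | h
    · exact Or.inl (hinj _ _ (by rw [key, h, ht, hq]))
    · exact Or.inr (hinj _ _ (by rw [key, h, hneg]))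
  -- the nine points
  let lab : Fin 3 × Fin 3 → C.N ⧸ M := fun x =>
    ((t x.1 * ptN C ((-(x.2.val : ℤ)) • e0) : C.N) : C.N ⧸ M)
  have hpL : ∀ v, ptN C v ∈ lineStab C := fun v =>
    show FixLine (C.actOf (ptN C v)) by rw [actOf_ptN]; rfl
  have hlabinj : Function.Injective lab := by
    rintro ⟨i, a⟩ ⟨j, b⟩ e
    have h := QuotientGroup.eq.mp e
    have hij : i = j := by
      have h' : (t i)⁻¹ * t j ∈ lineStab C := by
        have := mul_mem (mul_mem (hpL ((-(a.val : ℤ)) • e0)) (hML h))
          (inv_mem (hpL ((-(b.val : ℤ)) • e0)))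
        simpa [mul_assoc] using this
      have := hline (t j) i h'
      rw [ht, hq] at this
      exact (unit_inj j i this).symm
    subst hij
    have h2 : ptN C (-((-(a.val : ℤ)) • e0) + (-(b.val : ℤ)) • e0) ∈ M := by
      rw [ptN_add, ptN_neg]
      simpa [mul_assoc] using h
    have h3 := hMpt _ h2
    rw [neg_add_eq_sub] at h3
    rw [neg_smul_e0 b a h3]
  have hlabsurj : Function.Surjective lab := by
    intro x
    obtain ⟨n, rfl⟩ := QuotientGroup.mk_surjective x
    obtain ⟨i, hi⟩ := hexists n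
    obtain ⟨v, s, hs, e⟩ := hdec _ hi
    obtain ⟨k, hk⟩ := exists_shift v
    refine ⟨(i, k), QuotientGroup.eq.mpr ?_⟩
    refine ⟨-((-(k.val : ℤ)) • e0) + v, ?_, s, hs, ?_⟩
    · rw [neg_add_eq_sub, ← neg_sub]
      exact (get_add_zero _ _ hk hk).2
    · calc (t i * ptN C ((-(k.val : ℤ)) • e0))⁻¹ * n
          = (ptN C ((-(k.val : ℤ)) • e0))⁻¹ * ((t i)⁻¹ * n) := by group
        _ = _ := by rw [e, ptN_add, ptN_neg, mul_assoc]
  let L : Fin 3 × Fin 3 ≃ C.N ⧸ M := Equiv.ofBijective lab ⟨hlabinj, hlabsurj⟩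
  let ρ : C.N →* Equiv.Perm (Fin 3 × Fin 3) :=
    L.symm.permCongrHom.toMonoidHom.comp (MulAction.toPermHom C.N (C.N ⧸ M))
  have hρ : ∀ n x, lab (ρ n x) = n • lab x := by
    intro n x
    show L (L.symm (n • L x)) = n • L x
    exact L.apply_symm_apply _
  have hblock : ∀ n i k, (ρ n (i, k)).1 = (ρ n (i, 0)).1 := by
    intro n i k
    have e1 := hρ n (i, k)
    have e2 := hρ n (i, 0)
    obtain ⟨a, ha⟩ : ∃ a, ρ n (i, k) = a := ⟨_, rfl⟩
    obtain ⟨b, hb⟩ : ∃ b, ρ n (i, 0) = b := ⟨_, rfl⟩
    rw [ha] at e1 ⊢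
    rw [hb] at e2 ⊢
    have f1 : ∀ (x : Fin 3 × Fin 3) (c : Fin 3), lab x = n • lab (i, c) →
        (t x.1)⁻¹ * (n * t i) ∈ lineStab C := fun x c h => by
      have h' := hML (QuotientGroup.eq.mp h)
      have := mul_mem (mul_mem (hpL ((-(x.2.val : ℤ)) • e0)) h')
        (inv_mem (hpL ((-(c.val : ℤ)) • e0)))
      simpa [mul_assoc] using this
    have h1 := f1 a k e1
    have h2 := f1 b 0 e2
    have h3 : (t a.1)⁻¹ * t b.1 ∈ lineStab C := by
      have := mul_mem h1 (inv_mem h2)
      simpa [mul_assoc] using this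
    have := hline (t b.1) a.1 h3
    rw [ht, hq] at this
    exact (unit_inj b.1 a.1 this).symm
  let ρ' : C.N →* nine.range := ρ.codRestrict _ fun n => mem_range_nine _ (hblock n)
  let ι : C.N →* W := (MonoidHom.ofInjective nine_injective).symm.toMonoidHom.comp ρ'
  have hι : ∀ n, nine (ι n) = ρ n := fun n =>
    congrArg Subtype.val ((MonoidHom.ofInjective nine_injective).apply_symm_apply (ρ' n))
  -- the image of `x`
  have hιx : ι (ptN C x0) = x₀ := by
    refine nine_injective (Equiv.ext fun x => ?_)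
    obtain ⟨i, k⟩ := x
    rw [hι, nine_apply, nine_x₀]
    refine hlabinj ?_
    rw [hρ]
    show ((ptN C x0 * (t i * ptN C ((-(k.val : ℤ)) • e0)) : C.N) : C.N ⧸ M) =
      ((t i * ptN C ((-((k - 1 : Fin 3).val : ℤ)) • e0) : C.N) : C.N ⧸ M)
    have hc : ptN C x0 * t i = t i * ptN C x0 := by
      have h := conj_ptN C (t i) x0
      rw [ht, hqx] at h
      exact (mul_inv_eq_iff_eq_mul.mp h).symm
    rw [← mul_assoc, hc, mul_assoc, ← ptN_add]
    refine QuotientGroup.eq.mpr
      ⟨-(x0 + (-(k.val : ℤ)) • e0) + (-((k - 1 : Fin 3).val : ℤ)) • e0, ?_, 1, S.one_mem, ?_⟩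
    · rw [neg_add_eq_sub]; exact neg_shift k
    · rw [mul_one, ptN_add, ptN_add, ptN_neg, ptN_add]; group
  -- faithfulness
  have hkerJ : ∀ u, ι (ptN C u) = 1 → u = 0 := by
    intro u hu
    refine ext_get fun i => ?_
    have h := hρ (ptN C u) (i, 0)
    rw [← hι, hu, map_one, Equiv.Perm.one_apply] at h
    have h' := QuotientGroup.eq.mp h
    have hz : ptN C ((-((0 : Fin 3).val : ℤ)) • e0) = 1 := by
      rw [show (-((0 : Fin 3).val : ℤ)) • e0 = (0 : V) by decide +kernel]
      exact Subtype.ext C.pt_zero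
    simp only [lab, hz, mul_one, smul_eq_mul] at h'
    obtain ⟨w, hw⟩ : ∃ w, act (q i, false, false, false) w = u :=
      Finite.injective_iff_surjective.mp (fun a b e => hpe _ _ (by
        have := congrArg (fun v => ptN C v) e
        simp only [← ht, ← conj_ptN, mul_left_inj, mul_right_inj] at this
        exact this)) u
    have hw0 : get w 0 = 0 := hMpt _ (by
      rwa [show (t i)⁻¹ * (ptN C u * t i) = ptN C w by
        rw [← hw, ← ht, ← conj_ptN]; group] at h')
    rw [← hw]
    exact zero_coord i _ (hq i) w hw0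
  have hιinj : Function.Injective ι := by
    refine (injective_iff_map_eq_one ι).mpr fun n hn => ?_
    have hm : C.actOf n = monOne := by
      refine act_injective fun v => ?_
      have h := hkerJ (act (C.actOf n) v + -v) (by
        rw [ptN_add, ← conj_ptN, ptN_neg, map_mul, map_mul, map_mul, hn, map_inv, map_inv, hn]
        simp)
      rw [act_one]
      exact add_neg_eq_zero.mp h
    obtain ⟨u, hu⟩ := C.eq_pt_of_acts_one (hm ▸ C.actOf_spec n)
    have e : ptN C u = n := Subtype.ext hu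
    have hu0 := hkerJ u (e ▸ hn)
    rw [← e, hu0]
    exact Subtype.ext C.pt_zero
  have hright : ∀ u, InJ (ι (ptN C u)) := by
    intro u
    have hcube : ι (ptN C u) * ι (ptN C u) * ι (ptN C u) = 1 := by
      rw [← map_mul, ← map_mul, ← ptN_add, ← ptN_add,
        show u + u + u = 0 from three_zero u, show ptN C (0 : V) = 1 from Subtype.ext C.pt_zero,
        map_one]
    refine plus_right _ (Equiv.ext fun i => ?_) hcube
    show (ι (ptN C u)).right i = i
    have h := hρ (ptN C u) (i, 0)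
    rw [← hι, nine_apply] at h
    have h' := hML (QuotientGroup.eq.mp h)
    have hL : (t (nineMap (ι (ptN C u)) (i, 0)).1)⁻¹ * t i ∈ lineStab C := by
      obtain ⟨v, hv⟩ : ∃ v, act (q i, false, false, false) v = u :=
        Finite.injective_iff_surjective.mp (fun a b e => hpe _ _ (by
          have := congrArg (fun v => ptN C v) e
          simp only [← ht, ← conj_ptN, mul_left_inj, mul_right_inj] at this
          exact this)) u
      have e2 : ptN C u * t i = t i * ptN C v := by
        rw [← hv, ← ht, ← conj_ptN]; group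
      have := mul_mem (mul_mem (hpL ((-((nineMap (ι (ptN C u)) (i, 0)).2.val : ℤ)) • e0)) h')
        (inv_mem (mul_mem (hpL v) (hpL ((-((0 : Fin 3).val : ℤ)) • e0))))
      dsimp only [lab] at this
      rw [smul_eq_mul, ← mul_assoc (ptN C u) (t i), e2] at this
      simpa [mul_assoc] using this
    have := hline (t i) _ hL
    rw [ht, hq] at this
    exact (unit_inj i _ this).symm
  have hlift : ∀ w : W, negs w = 0 → ∃ n, ι n = w := by
    let gq : Fin 6 → C.N := fun r =>
      ⟨(C.exists_lift _ (hX r)).choose, C.mem_normalizer.2 (C.exists_lift _ (hX r)).choose_spec.norms⟩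
    have hgq : ∀ r, C.actOf (gq r) = (r, false, false, false) := fun r =>
      C.actOf_eq (C.exists_lift _ (hX r)).choose_spec
    have hcomm : ∀ v r, negs (ι (ptN C v * gq r)) = 0 := by
      intro v r
      refine comm_inJ _ ?_
      rw [← hιx, ← map_mul, ← map_mul]
      refine congrArg ι ?_
      have h := conj_ptN C (gq r) x0
      rw [hgq, perm_x0] at h
      rw [mul_assoc, mul_inv_eq_iff_eq_mul.mp h, ← mul_assoc, ← mul_assoc, ← ptN_add, ← ptN_add,
        add_comm]
    have hinj : Function.Injective fun p : V × Fin 6 =>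
        (⟨ι (ptN C p.1 * gq p.2), hcomm p.1 p.2⟩ : {w : W // negs w = 0}) := by
      rintro ⟨v, r⟩ ⟨v', r'⟩ e
      have e1 : ι (ptN C v * gq r) = ι (ptN C v' * gq r') :=
        congrArg (fun z : {w : W // negs w = 0} => z.1) e
      have e' := hιinj e1
      have hr : r = r' := by
        have h := congrArg C.actOf e'
        rw [C.actOf_mul, C.actOf_mul, actOf_ptN, actOf_ptN, hgq, hgq] at h
        exact comp_one_inj r r' h
      subst hr
      rw [hpe _ _ (mul_right_cancel e' : ptN C v = ptN C v')]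
    have hsurj := ((Fintype.bijective_iff_injective_and_card _).mpr ⟨hinj, card_negs_zero⟩).2
    intro w hw
    obtain ⟨p, hp⟩ := hsurj ⟨w, hw⟩
    exact ⟨_, congrArg Subtype.val hp⟩
  refine ⟨⟨C.J, ι, hιinj, fun n => ⟨?_, fun h => ?_⟩, hlift⟩, rfl⟩
  · rintro ⟨u, hu⟩
    rw [← show ptN C u = n from Subtype.ext hu]
    exact hright u
  · refine C.cent _ fun v => ?_
    have hv := hright v
    have hc : ι n * ι (ptN C v) = ι (ptN C v) * ι n := by
      refine SemidirectProduct.ext ?_ ?_
      · rw [SemidirectProduct.mul_left, SemidirectProduct.mul_left, h.1, hv.1, map_one,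
          MulAut.one_apply, MulAut.one_apply]
        exact CfsgLib.Block.ThreeCube.plus_comm _ _ h.2 hv.2
      · rw [SemidirectProduct.mul_right, SemidirectProduct.mul_right, h.1, hv.1]
    rw [← map_mul, ← map_mul] at hc
    exact congrArg Subtype.val (hιinj hc)

/-- a cube all of whose point centralisers are local is normal -/
theorem cube_normal (hX : ∀ q : Fin 6, X (q, false, false, false) = true) (hloc : C.Local) :
    C.J.Normal := by
  obtain ⟨F, hF⟩ := exists_frame_hom C hX
  rw [← hF]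
  refine F.normal_of_local fun j hj hj1 g hg => ?_
  rw [hF] at hj
  obtain ⟨v, rfl⟩ := hj
  have hv : v ≠ 0 := fun e => hj1 (by rw [e, C.pt_zero])
  have := C.mem_normalizer.2 (hloc v hv g (mem_centralizer_singleton_iff.mp hg))
  rw [← hF] at this
  exact this

end CfsgLib.Recog.SymNine.Local
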