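import Mathlib

/-!
Values of the transfer at elements whose fixed cosets are understood.
-/

set_option autoImplicit false

namespace CfsgLib.Recog.SymNine.Local

open MulAction
open Function (minimalPeriod IsPeriodicPt IsFixedPt)

variable {G A : Type*} [Group G] [Finite G] [CommGroup A] (H : Subgroup G) (ϕ : H →* A)

open scoped Classical in
/-- the transfer value attached to a coset fixed by `g` -/
noncomputable def fixVal (g : G) (q : G ⧸ H) : A :=
  if h : q.out⁻¹ * g * q.out ∈ H then ϕ ⟨_, h⟩ else 1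

theorem fixVal_eq (g k : G) (hk : k⁻¹ * g * k ∈ H) :
    fixVal H ϕ g (k : G ⧸ H) = ϕ ⟨k⁻¹ * g * k, hk⟩ := by
  obtain ⟨n, hn⟩ := QuotientGroup.mk_out_eq_mul H k
  have h1 : (k : G ⧸ H).out⁻¹ * g * (k : G ⧸ H).out =
      ((n⁻¹ * ⟨k⁻¹ * g * k, hk⟩ * n : H) : G) := by
    rw [hn]; push_cast; group
  have hm : (k : G ⧸ H).out⁻¹ * g * (k : G ⧸ H).out ∈ H := h1 ▸ SetLike.coe_mem _
  rw [fixVal, dif_pos hm, show (⟨_, hm⟩ : H) = n⁻¹ * ⟨k⁻¹ * g * k, hk⟩ * n from Subtype.ext h1,
    map_mul, map_mul, map_inv, mul_right_comm, inv_mul_cancel, one_mul]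

theorem smul_eq_iff (g k : G) : g • (k : G ⧸ H) = (k : G ⧸ H) ↔ k⁻¹ * g * k ∈ H := by
  show ((g * k : G) : G ⧸ H) = (k : G ⧸ H) ↔ _
  rw [eq_comm, QuotientGroup.eq, mul_assoc]

/-- A function invariant under the action of a `p`-group, with values killed by `p`, has the same
product over a finite set as over its fixed points. -/
theorem prod_eq_prod_fixed {S X : Type*} [Group S] [MulAction S X] [Fintype X] (p : ℕ)
    [Fact p.Prime] (hS : IsPGroup p S) [Finite S] [DecidableEq X]
    [DecidablePred (· ∈ fixedPoints S X)] (f : X → A) (hf : ∀ (s : S) x, f (s • x) = f x)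
    (hp : ∀ x, f x ^ p = 1) :
    ∏ x, f x = ∏ x ∈ Finset.univ.filter (· ∈ fixedPoints S X), f x := by
  classical
  rw [← Finset.prod_filter_mul_prod_filter_not Finset.univ (· ∈ fixedPoints S X) f]
  convert mul_one _ using 2
  rw [← Finset.prod_fiberwise _ (fun x => (Quotient.mk (orbitRel S X) x)) f]
  refine Finset.prod_eq_one fun o _ => ?_
  set s := (Finset.univ.filter fun x => ¬ x ∈ fixedPoints S X).filter
    fun x => (Quotient.mk (orbitRel S X) x) = o
  rcases s.eq_empty_or_nonempty with he | ⟨x₀, hx₀⟩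
  · rw [he, Finset.prod_empty]
  have hx : x₀ ∉ fixedPoints S X ∧ (Quotient.mk (orbitRel S X) x₀) = o := by
    simpa [s] using hx₀
  have hs : ∀ y, y ∈ s ↔ y ∈ orbit S x₀ := by
    intro y
    simp only [s, Finset.mem_filter, Finset.mem_univ, true_and, ← hx.2, Quotient.eq]
    rw [orbitRel_apply]
    refine ⟨fun h => h.2, fun h => ⟨fun hy => hx.1 ?_, h⟩⟩
    obtain ⟨t, rfl⟩ := h
    have h1 : x₀ = t • x₀ := (inv_smul_smul t x₀).symm.trans (hy t⁻¹)
    intro u
    calc u • x₀ = u • (t • x₀) := congrArg (u • ·) h1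
      _ = x₀ := (hy u).trans h1.symm
  rw [Finset.prod_congr rfl fun y hy => show f y = f x₀ by
      obtain ⟨t, rfl⟩ := (hs y).mp hy
      exact hf t x₀, Finset.prod_const]
  obtain ⟨n, hn⟩ := hS.card_orbit x₀
  have hcard : s.card = Nat.card (orbit S x₀) := by
    rw [← Nat.card_eq_finsetCard]
    exact Nat.card_congr (Equiv.subtypeEquivRight hs)
  rw [hcard, hn]
  cases n with
  | zero =>
    exfalso
    rw [pow_zero, Nat.card_eq_one_iff_unique] at hn
    exact hx.1 fun t => congrArg Subtype.val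
      (hn.1.elim ⟨t • x₀, mem_orbit _ t⟩ ⟨x₀, mem_orbit_self x₀⟩)
  | succ n => rw [pow_succ', pow_mul, hp, one_pow]

/-- The transfer at an element of prime order as a product over its fixed cosets. -/
theorem transfer_of_prime [Fintype (G ⧸ H)] (p : ℕ) [Fact p.Prime] (g : G) (hg : g ^ p = 1)
    [DecidablePred fun q : G ⧸ H => g • q = q] :
    MonoidHom.transfer ϕ g = ∏ q ∈ Finset.univ.filter (fun q : G ⧸ H => g • q = q),
      fixVal H ϕ g q := by
  classical
  haveI : H.FiniteIndex := Subgroup.finiteIndex_of_finite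
  haveI := Fintype.ofFinite (Quotient (orbitRel (Subgroup.zpowers g) (G ⧸ H)))
  rw [MonoidHom.transfer_eq_prod_quotient_orbitRel_zpowers_quot]
  let Q := Quotient (orbitRel (Subgroup.zpowers g) (G ⧸ H))
  rw [← Finset.prod_filter_mul_prod_filter_not (Finset.univ : Finset Q)
    (fun o => g • o.out = o.out)]
  have hper : ∀ q : G ⧸ H, ¬ g • q = q → minimalPeriod (g • ·) q = p := by
    intro q hq
    refine Function.minimalPeriod_eq_prime (p := p) ?_ hq
    rw [IsPeriodicPt, IsFixedPt, smul_iterate]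
    show (g ^ p) • q = q
    rw [hg, one_smul]
  have h2 : ∀ o ∈ (Finset.univ : Finset Q).filter (fun o => ¬ g • o.out = o.out),
      ϕ ⟨o.out.out⁻¹ * g ^ minimalPeriod (g • ·) o.out * o.out.out,
        QuotientGroup.out_conj_pow_minimalPeriod_mem H g o.out⟩ = 1 := by
    intro o ho
    rw [← map_one ϕ]
    congr 1
    apply Subtype.ext
    simp [hper _ (Finset.mem_filter.mp ho).2, hg]
  rw [Finset.prod_eq_one h2, mul_one]
  refine Finset.prod_bij (fun o _ => o.out) (fun o ho => by simpa using ho)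
    (fun a _ b _ hab => by rw [← Quotient.out_eq a, ← Quotient.out_eq b, hab])
    (fun q hq => ?_) (fun o ho => ?_)
  · have hq' : g • q = q := by simpa using hq
    have hout : (Quotient.mk (orbitRel (Subgroup.zpowers g) (G ⧸ H)) q).out = q := by
      have h := Quotient.mk_out (s := orbitRel (Subgroup.zpowers g) (G ⧸ H)) q
      obtain ⟨⟨t, ht⟩, h'⟩ := orbitRel_apply.mp h
      rw [← h']
      have hst : Subgroup.zpowers g ≤ stabilizer G q := Subgroup.zpowers_le.mpr hq'
      exact hst ht
    exact ⟨Quotient.mk _ q, by simp [hout, hq'], hout⟩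
  · have hfix : g • o.out = o.out := (Finset.mem_filter.mp ho).2
    have h1 : minimalPeriod (g • ·) o.out = 1 := Function.minimalPeriod_eq_one_iff_isFixedPt.mpr hfix
    have hm : o.out.out⁻¹ * g * o.out.out ∈ H := by
      have := QuotientGroup.out_conj_pow_minimalPeriod_mem H g o.out
      rwa [h1, pow_one] at this
    rw [fixVal, dif_pos hm]
    congr 1
    apply Subtype.ext
    simp [h1]

/-- The transfer at an element of prime order whose only fixed coset is the base one. -/
theorem transfer_of_prime_single (p : ℕ) [Fact p.Prime] {g : G} (hg : g ^ p = 1) (hgH : g ∈ H)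
    (h : ∀ k : G, ∀ hk : k⁻¹ * g * k ∈ H, k ∉ H → ϕ ⟨k⁻¹ * g * k, hk⟩ = 1) :
    MonoidHom.transfer ϕ g = ϕ ⟨g, hgH⟩ := by
  classical
  haveI := Fintype.ofFinite (G ⧸ H)
  rw [transfer_of_prime H ϕ p g hg, Finset.prod_eq_single (((1 : G) : G ⧸ H))]
  · rw [fixVal_eq H ϕ g 1 (by simpa using hgH)]
    congr 1; apply Subtype.ext; simp
  · intro q hq hne
    obtain ⟨k, rfl⟩ := QuotientGroup.mk_surjective q
    have hk : k⁻¹ * g * k ∈ H := (smul_eq_iff H g k).mp (by simpa using hq)
    rw [fixVal_eq H ϕ g k hk]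
    exact h k hk fun hkH => hne (QuotientGroup.eq.mpr (by simpa using hkH))
  · intro hn
    exact absurd (by rw [Finset.mem_filter]; exact ⟨Finset.mem_univ _,
      (smul_eq_iff H g 1).mpr (by simpa using hgH)⟩) hn

/-- The transfer at an element centralised by a `p`-group `S` whose normaliser lies in `H`. -/
theorem transfer_of_central (p : ℕ) [Fact p.Prime] (S : Subgroup G) (hS : IsPGroup p S)
    (hSH : S ≤ H) {g : G} (hg : g ^ p = 1) (hgS : g ∈ S) (hcomm : ∀ s ∈ S, g * s = s * g)
    (hA : ∀ h : H, ϕ h ^ p = 1)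
    (hfix : ∀ k : G, (∀ s ∈ S, k⁻¹ * s * k ∈ H) → k ∈ H) :
    MonoidHom.transfer ϕ g = ϕ ⟨g, hSH hgS⟩ := by
  classical
  haveI := Fintype.ofFinite (G ⧸ H)
  rw [transfer_of_prime H ϕ p g hg]
  let X : SubMulAction S (G ⧸ H) :=
    { carrier := {q | g • q = q}
      smul_mem' := fun s q (hq : g • q = q) => by
        show g • ((s : G) • q) = (s : G) • q
        rw [smul_smul, hcomm s s.2, mul_smul, hq] }
  haveI := Fintype.ofFinite X
  rw [Finset.prod_subtype (p := fun q : G ⧸ H => q ∈ X) (F := inferInstance)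
    (Finset.univ.filter fun q : G ⧸ H => g • q = q) (fun q => by simp [X]; rfl) (fixVal H ϕ g)]
  rw [prod_eq_prod_fixed (S := S) (X := X) p hS (fun q => fixVal H ϕ g q.1) ?_ ?_]
  · rw [Finset.prod_eq_single (⟨((1 : G) : G ⧸ H), (smul_eq_iff H g 1).mpr
      (by simpa using hSH hgS)⟩ : X)]
    · rw [fixVal_eq H ϕ g 1 (by simpa using hSH hgS)]
      congr 1; apply Subtype.ext; simp
    · rintro ⟨q, hq⟩ hmem hne
      exfalso
      obtain ⟨k, rfl⟩ := QuotientGroup.mk_surjective q
      rw [Finset.mem_filter] at hmem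
      have hk : k ∈ H := hfix k fun s hs => (smul_eq_iff H s k).mp
        (congrArg Subtype.val (hmem.2 ⟨s, hs⟩))
      exact hne (Subtype.ext (QuotientGroup.eq.mpr (by simpa using hk)))
    · intro hn
      refine absurd (Finset.mem_filter.mpr ⟨Finset.mem_univ _, fun s => Subtype.ext ?_⟩) hn
      exact (smul_eq_iff H (s : G) 1).mpr (by simpa using hSH s.2)
  · rintro s ⟨q, hq⟩
    obtain ⟨k, rfl⟩ := QuotientGroup.mk_surjective q
    have hk := (smul_eq_iff H g k).mp hq
    have he : ((s : G) * k)⁻¹ * g * ((s : G) * k) = k⁻¹ * g * k := by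
      calc ((s : G) * k)⁻¹ * g * ((s : G) * k) = k⁻¹ * (s : G)⁻¹ * (g * s) * k := by group
        _ = k⁻¹ * g * k := by rw [hcomm s s.2]; group
    show fixVal H ϕ g (((s : G) * k : G) : G ⧸ H) = fixVal H ϕ g (k : G ⧸ H)
    rw [fixVal_eq H ϕ g _ (he ▸ hk), fixVal_eq H ϕ g k hk]
    congr 1; exact Subtype.ext he
  · rintro ⟨q, hq⟩
    unfold fixVal
    split_ifs
    exacts [hA _, one_pow p]

/-- The transfer at an element of order `p²`: cosets fixed by its `p`-th power come in multiples
of `p²` for each value. -/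
theorem transfer_of_sq (p : ℕ) [Fact p.Prime] {g : G} (hg : g ^ (p * p) = 1) (hgH : g ∈ H)
    (P : Subgroup G) (hPH : P ≤ H) (hgP : g ∈ P) (hcomm : ∀ s ∈ P, g ^ p * s = s * g ^ p)
    (hA : ∀ h : H, ϕ h ^ p = 1) (hone : ∀ k : G, k⁻¹ * g * k ∈ H → k ∈ H)
    (hstab : ∀ k : G, k⁻¹ * g ^ p * k ∈ H → k ∉ H →
      p ^ 2 ∣ Nat.card (orbit P (k : G ⧸ H))) :
    MonoidHom.transfer ϕ g = ϕ ⟨g, hgH⟩ := by
  classical
  haveI : H.FiniteIndex := Subgroup.finiteIndex_of_finite
  haveI := Fintype.ofFinite (G ⧸ H)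
  haveI := Fintype.ofFinite (Quotient (orbitRel (Subgroup.zpowers g) (G ⧸ H)))
  rw [MonoidHom.transfer_eq_prod_quotient_orbitRel_zpowers_quot]
  set b : G ⧸ H := ((1 : G) : G ⧸ H) with hb
  let mk := Quotient.mk (orbitRel (Subgroup.zpowers g) (G ⧸ H))
  have hbfix : g • b = b := (smul_eq_iff H g 1).mpr (by simpa using hgH)
  have hbout : (mk b).out = b := by
    have h := Quotient.mk_out (s := orbitRel (Subgroup.zpowers g) (G ⧸ H)) b
    obtain ⟨⟨t, ht⟩, h'⟩ := orbitRel_apply.mp h
    rw [show (mk b).out = _ from h'.symm]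
    have hst : Subgroup.zpowers g ≤ stabilizer G b := Subgroup.zpowers_le.mpr hbfix
    exact hst ht
  rw [← Finset.mul_prod_erase Finset.univ _ (Finset.mem_univ (mk b))]
  have hbase : ϕ ⟨(mk b).out.out⁻¹ * g ^ minimalPeriod (g • ·) (mk b).out * (mk b).out.out,
      QuotientGroup.out_conj_pow_minimalPeriod_mem H g (mk b).out⟩ = ϕ ⟨g, hgH⟩ := by
    have h1 : minimalPeriod (g • ·) (mk b).out = 1 := by
      rw [hbout]; exact Function.minimalPeriod_eq_one_iff_isFixedPt.mpr hbfix
    obtain ⟨n, hn⟩ := QuotientGroup.mk_out_eq_mul H (1 : G)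
    have he : (mk b).out.out = (n : G) := by rw [hbout, hb, hn, one_mul]
    calc _ = ϕ (n⁻¹ * ⟨g, hgH⟩ * n) := by congr 1; apply Subtype.ext; simp [h1, he]
      _ = _ := by rw [map_mul, map_mul, map_inv, mul_right_comm, inv_mul_cancel, one_mul]
  rw [hbase]
  refine mul_eq_left.mpr ?_
  set x := g ^ p with hx
  let val := fun q : G ⧸ H => fixVal H ϕ x q
  have hfix1 : ∀ q : G ⧸ H, g • q = q → q = b := by
    intro q hq
    obtain ⟨k, rfl⟩ := QuotientGroup.mk_surjective q
    exact QuotientGroup.eq.mpr (by simpa using hone k ((smul_eq_iff H g k).mp hq))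
  have hper : ∀ q : G ⧸ H, q ≠ b → x • q = q → minimalPeriod (g • ·) q = p := by
    intro q hq hxq
    refine Function.minimalPeriod_eq_prime (p := p) ?_ (fun h => hq (hfix1 q h))
    rw [IsPeriodicPt, IsFixedPt, smul_iterate]
    exact hxq
  -- the contributions
  have hterm : ∀ o ∈ Finset.univ.erase (mk b),
      ϕ ⟨o.out.out⁻¹ * g ^ minimalPeriod (g • ·) o.out * o.out.out,
        QuotientGroup.out_conj_pow_minimalPeriod_mem H g o.out⟩ =
      if x • o.out = o.out then val o.out else 1 := by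
    intro o ho
    have hob : o.out ≠ b := fun e => (Finset.mem_erase.mp ho).1 (by
      rw [← Quotient.out_eq o, e])
    split_ifs with hxo
    · have hm : o.out.out⁻¹ * x * o.out.out ∈ H := by
        have := QuotientGroup.out_conj_pow_minimalPeriod_mem H g o.out
        rwa [hper _ hob hxo] at this
      simp only [val, fixVal, dif_pos hm]
      congr 1; apply Subtype.ext; simp [hper _ hob hxo, hx]
    · rw [← map_one ϕ]
      congr 1; apply Subtype.ext
      set n := minimalPeriod (g • ·) o.out with hn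
      have hd : n ∣ p ^ 2 := by
        refine IsPeriodicPt.minimalPeriod_dvd ?_
        rw [IsPeriodicPt, IsFixedPt, smul_iterate]
        show (g ^ p ^ 2) • o.out = o.out
        rw [sq, hg, one_smul]
      obtain ⟨i, hi, hi'⟩ := (Nat.dvd_prime_pow Fact.out).mp hd
      have hnp : ¬ n ∣ p := by
        intro hnp
        apply hxo
        have h : IsPeriodicPt (g • ·) p o.out :=
          (Function.isPeriodicPt_iff_minimalPeriod_dvd.mpr hnp)
        rw [IsPeriodicPt, IsFixedPt, smul_iterate] at h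
        exact h
      have : i = 2 := by
        interval_cases i
        · exact absurd (by rw [hi', pow_zero]; exact one_dvd _) hnp
        · exact absurd (by rw [hi', pow_one]) hnp
        · rfl
      have h2 : g ^ n = 1 := by rw [hi', this, sq, hg]
      simp [← hn, h2]
  rw [Finset.prod_congr rfl hterm, ← Finset.prod_filter]
  rw [← Finset.prod_fiberwise_of_maps_to (t := Finset.univ.image val)
    (g := fun o : Quotient (orbitRel (Subgroup.zpowers g) (G ⧸ H)) => val o.out)
    (fun o _ => Finset.mem_image_of_mem val (Finset.mem_univ o.out))]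
  refine Finset.prod_eq_one fun a ha => ?_
  obtain ⟨q₀, -, rfl⟩ := Finset.mem_image.mp ha
  rw [Finset.prod_congr rfl fun o ho => (Finset.mem_filter.mp ho).2, Finset.prod_const]
  obtain ⟨hval : val q₀ ^ p = 1⟩ : Nonempty (val q₀ ^ p = 1) := ⟨by
    simp only [val, fixVal]; split_ifs
    exacts [hA _, one_pow p]⟩
  set O := ((Finset.univ.erase (mk b)).filter fun o => x • o.out = o.out).filter
    fun o => val o.out = val q₀
  suffices p ∣ O.card by
    obtain ⟨m, hm⟩ := this
    rw [hm, pow_mul, hval, one_pow]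
  -- the cosets above these orbits
  have hval_eq : ∀ (s : G), x * s = s * x → ∀ q : G ⧸ H, x • q = q → val (s • q) = val q := by
    intro s hs q hq
    obtain ⟨k, rfl⟩ := QuotientGroup.mk_surjective q
    have hk := (smul_eq_iff H x k).mp hq
    have he : (s * k)⁻¹ * x * (s * k) = k⁻¹ * x * k := by
      calc (s * k)⁻¹ * x * (s * k) = k⁻¹ * s⁻¹ * (x * s) * k := by group
        _ = k⁻¹ * x * k := by rw [hs]; group
    show fixVal H ϕ x ((s * k : G) : G ⧸ H) = fixVal H ϕ x (k : G ⧸ H)
    rw [fixVal_eq H ϕ x _ (he ▸ hk), fixVal_eq H ϕ x k hk]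
    congr 1; exact Subtype.ext he
  have hxs : ∀ (s : G), x * s = s * x → ∀ q : G ⧸ H, x • q = q → x • (s • q) = s • q := by
    intro s hs q hq
    rw [smul_smul, hs, mul_smul, hq]
  let Y : SubMulAction P (G ⧸ H) :=
    { carrier := {q | x • q = q ∧ q ≠ b ∧ val q = val q₀}
      smul_mem' := fun s q hq => by
        refine ⟨hxs s (hcomm s s.2) q hq.1, fun e => hq.2.1 ?_,
          (hval_eq s (hcomm s s.2) q hq.1).trans hq.2.2⟩
        have e' : (s : G) • q = b := e
        rw [← inv_smul_smul (s : G) q, e', hb]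
        exact (smul_eq_iff H _ 1).mpr (by simpa using H.inv_mem (hPH s.2)) }
  let F := Finset.univ.filter fun q : G ⧸ H => x • q = q ∧ q ≠ b ∧ val q = val q₀
  have hFY : Nat.card Y = F.card := by
    rw [← Nat.card_eq_finsetCard]
    exact Nat.card_congr (Equiv.subtypeEquivRight fun q => by simp [F, Y]; rfl)
  -- `p ^ 2` divides the number of these cosets
  have hdvd : p ^ 2 ∣ F.card := by
    haveI := Fintype.ofFinite (Quotient (orbitRel P Y))
    rw [← hFY, Nat.card_congr (selfEquivSigmaOrbits P Y), Nat.card_sigma]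
    refine Finset.dvd_sum fun o _ => ?_
    obtain ⟨k, hk⟩ := QuotientGroup.mk_surjective (o.out : Y).1
    have hmem : x • (k : G ⧸ H) = k ∧ (k : G ⧸ H) ≠ b ∧ val (k : G ⧸ H) = val q₀ := by
      rw [hk]; exact (o.out : Y).2
    have h := hstab k ((smul_eq_iff H x k).mp hmem.1)
      (fun hkH => hmem.2.1 (QuotientGroup.eq.mpr (by simpa using hkH)))
    rw [Nat.card_congr (orbitEquivQuotientStabilizer P (o.out : Y)),
      SubMulAction.stabilizer_of_subMul]
    rwa [hk, Nat.card_congr (orbitEquivQuotientStabilizer P ((o.out : Y) : G ⧸ H))] at h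
  -- they form `O.card` orbits of length `p`
  have hgx : x * g = g * x := by rw [hx, ← pow_succ, ← pow_succ']
  have hmaps : ∀ q ∈ F, mk q ∈ O := by
    intro q hq
    obtain ⟨hxq, hqb, hqv⟩ : x • q = q ∧ q ≠ b ∧ val q = val q₀ := by simpa [F] using hq
    have h := Quotient.mk_out (s := orbitRel (Subgroup.zpowers g) (G ⧸ H)) q
    obtain ⟨⟨t, ht⟩, h'⟩ := orbitRel_apply.mp h
    have htx : x * t = t * x := by
      obtain ⟨i, rfl⟩ := Subgroup.mem_zpowers_iff.mp ht
      exact (Commute.zpow_right hgx i).eq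
    have e : (mk q).out = t • q := h'.symm
    simp only [O, Finset.mem_filter, Finset.mem_erase, Finset.mem_univ, and_true]
    refine ⟨⟨fun heq => hqb ?_, by rw [e]; exact hxs t htx q hxq⟩,
      by rw [e, hval_eq t htx q hxq, hqv]⟩
    rw [← inv_smul_smul t q, ← e, heq, hbout]
    have hst : Subgroup.zpowers g ≤ stabilizer G b := Subgroup.zpowers_le.mpr hbfix
    exact hst (Subgroup.inv_mem _ ht)
  have hfib : ∀ o ∈ O, (F.filter fun q => mk q = o).card = p := by
    intro o ho
    obtain ⟨⟨hne, hxo⟩, hov⟩ : (o ≠ mk b ∧ x • o.out = o.out) ∧ val o.out = val q₀ := by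
      simpa [O] using ho
    have hob : o.out ≠ b := fun e => hne (by rw [← Quotient.out_eq o, e])
    rw [← hper _ hob hxo, minimalPeriod_eq_card, ← Nat.card_eq_fintype_card,
      ← Nat.card_eq_finsetCard]
    refine Nat.card_congr (Equiv.subtypeEquivRight fun q => ?_)
    simp only [F, Finset.mem_filter, Finset.mem_univ, true_and]
    constructor
    · rintro ⟨-, hq⟩
      refine orbitRel_apply.mp (Quotient.eq.mp ?_)
      rw [Quotient.out_eq]
      exact hq
    · intro hq
      have hmq : mk q = o := by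
        rw [← Quotient.out_eq o]
        exact Quotient.eq.mpr (orbitRel_apply.mpr hq)
      obtain ⟨⟨t, ht⟩, rfl⟩ := hq
      have htx : x * t = t * x := by
        obtain ⟨i, rfl⟩ := Subgroup.mem_zpowers_iff.mp ht
        exact (Commute.zpow_right hgx i).eq
      refine ⟨⟨hxs t htx _ hxo, fun e => hob ?_, (hval_eq t htx _ hxo).trans hov⟩, hmq⟩
      have hst : Subgroup.zpowers g ≤ stabilizer G b := Subgroup.zpowers_le.mpr hbfix
      rw [← inv_smul_smul t o.out, show t • o.out = b from e]
      exact hst (Subgroup.inv_mem _ ht)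
  have hcard : F.card = O.card * p := by
    rw [Finset.card_eq_sum_card_fiberwise hmaps, Finset.sum_congr rfl hfib, Finset.sum_const,
      smul_eq_mul]
  have hp : 0 < p := Nat.Prime.pos Fact.out
  rw [hcard, sq] at hdvd
  exact Nat.dvd_of_mul_dvd_mul_right hp hdvd

end CfsgLib.Recog.SymNine.Local
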