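import Mathlib
import Cfsg.Agent.Lib.TISylow.Structure
import Cfsg.Agent.Lib.ClassK.Core
import Cfsg.Agent.Lib.Geom.RedundantPSL
import Cfsg.Agent.Lib.Recog.SymNine.Local.Transfer
import Cfsg.Agent.S3331

/-!
A group with a central involution `u` and a self-centralising (modulo `u`) Sylow subgroup of order
nine with local centralisers: the automizers `⟨-1⟩`, four-group and a reflection force it normal.
-/

set_option autoImplicit false

namespace CfsgLib.Recog.SymNine.Local

open Subgroup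

variable {Y : Type*} [Group Y] [Finite Y]

/-- A central involution `u` and `U` of order nine with local centralisers. -/
structure CentHyp (u : Y) (U : Subgroup Y) : Prop where
  u_ne : u ≠ 1
  u_sq : u * u = 1
  central : ∀ y : Y, u * y = y * u
  card : Nat.card U = 9
  cube : ∀ t ∈ U, t * t * t = 1
  self : ∀ y : Y, (∀ t ∈ U, t * y = y * t) → ∃ t ∈ U, y = t ∨ y = t * u
  loc : ∀ t ∈ U, t ≠ 1 → centralizer ({t} : Set Y) ≤ normalizer (U : Set Y)
  norm27 : ¬ 27 ∣ Nat.card (normalizer (U : Set Y))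

variable {u : Y} {U : Subgroup Y}

namespace CentHyp

theorem normalZ (h : CentHyp u U) : (zpowers u).Normal := by
  refine ⟨fun n hn g => ?_⟩
  obtain ⟨i, rfl⟩ := mem_zpowers_iff.mp hn
  have hc : Commute g (u ^ i) := (Commute.zpow_right (show Commute g u from (h.central g).symm) i)
  rw [hc.eq, mul_inv_cancel_right]
  exact zpow_mem (mem_zpowers u) i

omit [Finite Y] in
theorem mem_Z (h : CentHyp u U) {y : Y} : y ∈ zpowers u ↔ y = 1 ∨ y = u := by
  refine ⟨fun hy => ?_, ?_⟩
  · obtain ⟨i, rfl⟩ := mem_zpowers_iff.mp hy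
    rcases Int.even_or_odd' i with ⟨j, rfl | rfl⟩
    · left; rw [zpow_mul, zpow_two, h.u_sq, one_zpow]
    · right; rw [zpow_add, zpow_mul, zpow_two, h.u_sq, one_zpow, one_mul, zpow_one]
  · rintro (e | e) <;> rw [e]
    exacts [one_mem _, mem_zpowers u]

theorem card_Z (h : CentHyp u U) : Nat.card (zpowers u) = 2 := by
  rw [Nat.card_zpowers, orderOf_eq_prime (p := 2) (by rw [pow_two, h.u_sq]) h.u_ne]

omit [Finite Y] in
theorem u_cube (h : CentHyp u U) {t : Y} (ht : t * t * t = 1) : t * u * (t * u) * (t * u) = u := by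
  have e : t * u * (t * u) * (t * u) = t * (u * t) * (u * (t * u)) := by group
  rw [e, h.central t, ← mul_assoc t t u, ← mul_assoc u t u, h.central t, mul_assoc t u u, h.u_sq,
    mul_one, mul_assoc (t * t) u t, h.central t, ← mul_assoc, ht, one_mul]

omit [Finite Y] in
/-- an element of order three is determined modulo `u` -/
theorem eq_of_mk [(zpowers u).Normal] (h : CentHyp u U) {a b : Y} (ha : a * a * a = 1)
    (hb : b * b * b = 1) (he : (a : Y ⧸ zpowers u) = b) : a = b := by
  rcases h.mem_Z.mp (QuotientGroup.eq.mp he) with e | e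
  · exact inv_mul_eq_one.mp e
  · exfalso
    rw [inv_mul_eq_iff_eq_mul] at e
    rw [e, h.u_cube ha] at hb
    exact h.u_ne hb

/-- the image of `U` -/
abbrev bar (_h : CentHyp u U) [(zpowers u).Normal] : Subgroup (Y ⧸ zpowers u) :=
  U.map (QuotientGroup.mk' (zpowers u))

theorem card_bar [(zpowers u).Normal] (h : CentHyp u U) : Nat.card h.bar = 9 := by
  rw [← h.card]
  refine (Nat.card_congr (Equiv.ofBijective
    (fun t : U => (⟨_, mem_map_of_mem (QuotientGroup.mk' (zpowers u)) t.2⟩ : h.bar)) ⟨?_, ?_⟩)).symm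
  · intro a b hab
    exact Subtype.ext (h.eq_of_mk (h.cube a a.2) (h.cube b b.2) (congrArg Subtype.val hab))
  · rintro ⟨_, t, ht, rfl⟩
    exact ⟨⟨t, ht⟩, rfl⟩

omit [Finite Y] in
theorem mem_normalizer_of_mk [(zpowers u).Normal] (h : CentHyp u U) {y : Y}
    (hy : (y : Y ⧸ zpowers u) ∈ normalizer (h.bar : Set (Y ⧸ zpowers u))) :
    y ∈ normalizer (U : Set Y) := by
  have hconj : ∀ t : Y, t * t * t = 1 → y * t * y⁻¹ * (y * t * y⁻¹) * (y * t * y⁻¹) = 1 :=
    fun t ht => by
      rw [show y * t * y⁻¹ * (y * t * y⁻¹) * (y * t * y⁻¹) = y * (t * t * t) * y⁻¹ by group, ht]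
      group
  refine mem_normalizer_iff.mpr fun t => ⟨fun ht => ?_, fun ht => ?_⟩
  · obtain ⟨s, hs, hse⟩ := (mem_normalizer_iff.mp hy (t : Y ⧸ zpowers u)).mp ⟨t, ht, rfl⟩
    rwa [← h.eq_of_mk (h.cube s hs) (hconj t (h.cube t ht)) hse]
  · obtain ⟨s, hs, hse⟩ := (mem_normalizer_iff.mp hy (t : Y ⧸ zpowers u)).mpr
      ⟨y * t * y⁻¹, ht, by simp⟩
    have h3 : t * t * t = 1 := by
      have := h.cube _ ht
      rw [show y * t * y⁻¹ * (y * t * y⁻¹) * (y * t * y⁻¹) = y * (t * t * t) * y⁻¹ by group,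
        conj_eq_one_iff] at this
      exact this
    rwa [← h.eq_of_mk (h.cube s hs) h3 hse]

omit [Finite Y] in
theorem normalizer_bar [(zpowers u).Normal] (h : CentHyp u U) :
    normalizer (h.bar : Set (Y ⧸ zpowers u)) =
      (normalizer (U : Set Y)).map (QuotientGroup.mk' (zpowers u)) := by
  refine le_antisymm (fun q hq => ?_) ?_
  · obtain ⟨y, rfl⟩ := QuotientGroup.mk_surjective q
    exact mem_map_of_mem _ (h.mem_normalizer_of_mk hq)
  · exact le_normalizer_map _

theorem card_normalizer_bar [(zpowers u).Normal] (h : CentHyp u U) :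
    2 * Nat.card (normalizer (h.bar : Set (Y ⧸ zpowers u))) =
      Nat.card (normalizer (U : Set Y)) := by
  rw [h.normalizer_bar]
  have hle : zpowers u ≤ normalizer (U : Set Y) := by
    refine zpowers_le.mpr (mem_normalizer_iff.mpr fun t => ?_)
    rw [h.central t, mul_inv_cancel_right]
  set f := (QuotientGroup.mk' (zpowers u)).domRestrict (normalizer (U : Set Y))
  have hr : f.range = (normalizer (U : Set Y)).map (QuotientGroup.mk' (zpowers u)) :=
    MonoidHom.domRestrict_range _ _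
  have hk : f.ker = (zpowers u).subgroupOf (normalizer (U : Set Y)) := by
    ext x
    show ((x : Y) : Y ⧸ zpowers u) = 1 ↔ _
    rw [QuotientGroup.eq_one_iff, mem_subgroupOf]
  rw [← hr, ← index_ker, hk, ← h.card_Z,
    ← Nat.card_congr (subgroupOfEquivOfLe hle).toEquiv, card_mul_index]

theorem normalizer_top [(zpowers u).Normal] (h : CentHyp u U)
    (e : normalizer (h.bar : Set (Y ⧸ zpowers u)) = ⊤) : normalizer (U : Set Y) = ⊤ :=
  (Subgroup.eq_top_iff' _).mpr fun y => h.mem_normalizer_of_mk (e ▸ mem_top _)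

theorem exists_setup [(zpowers u).Normal] (h : CentHyp u U) :
    ∃ P : Sylow 3 (Y ⧸ zpowers u), (P : Subgroup (Y ⧸ zpowers u)) = h.bar ∧ TISylow.Setup P := by
  have : Fact (Nat.Prime 3) := ⟨Nat.prime_three⟩
  have hne : Nat.card (Y ⧸ zpowers u) ≠ 0 := Nat.card_pos.ne'
  have hfac : (Nat.card (Y ⧸ zpowers u)).factorization 3 = 2 := by
    have h1 : 3 ^ 2 ∣ Nat.card (Y ⧸ zpowers u) := by
      show 9 ∣ _
      rw [← h.card_bar]
      exact card_subgroup_dvd_card h.bar
    have h2 : ¬ 3 ^ (2 + 1) ∣ Nat.card (Y ⧸ zpowers u) := fun hd => by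
      have hq := Sylow.prime_dvd_card_quotient_normalizer (H := h.bar) hd h.card_bar
      apply h.norm27
      rw [← h.card_normalizer_bar]
      refine Dvd.dvd.mul_left ?_ _
      rw [← card_mul_index (h.bar.subgroupOf (normalizer (h.bar : Set (Y ⧸ zpowers u)))),
        Nat.card_congr (subgroupOfEquivOfLe le_normalizer).toEquiv, h.card_bar]
      rw [index_eq_card]
      exact mul_dvd_mul_left 9 hq
    have a := (Nat.Prime.pow_dvd_iff_le_factorization Nat.prime_three hne).mp h1
    have b := mt (Nat.Prime.pow_dvd_iff_le_factorization Nat.prime_three hne).mpr h2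
    omega
  refine ⟨Sylow.ofCard h.bar (by rw [hfac]; exact h.card_bar), rfl, ⟨?_, ?_, ?_, ?_⟩⟩
  · exact h.card_bar
  · rintro _ ⟨t, ht, rfl⟩
    rw [← map_pow, pow_succ, pow_two, h.cube t ht, map_one]
  · intro q hq
    obtain ⟨y, rfl⟩ := QuotientGroup.mk_surjective q
    have hy : ∀ t ∈ U, t * y = y * t := fun t ht => by
      have h1 : (t : Y ⧸ zpowers u) * (y : Y ⧸ zpowers u) = (y : Y ⧸ zpowers u) * t :=
        mem_centralizer_iff.mp hq (t : Y ⧸ zpowers u) ⟨t, ht, rfl⟩
      have h3 : y⁻¹ * t * y * (y⁻¹ * t * y) * (y⁻¹ * t * y) = 1 := by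
        rw [show y⁻¹ * t * y * (y⁻¹ * t * y) * (y⁻¹ * t * y) = y⁻¹ * (t * t * t) * y by group,
          h.cube t ht]
        group
      have h4 := h.eq_of_mk h3 (h.cube t ht) (by
        simp only [QuotientGroup.mk_mul, QuotientGroup.mk_inv, mul_assoc, h1, inv_mul_cancel_left])
      conv_rhs => rw [← h4]
      group
    obtain ⟨t, ht, e | e⟩ := h.self y hy
    · exact ⟨t, ht, by rw [e]; rfl⟩
    · exact ⟨t, ht, QuotientGroup.eq.mpr (by rw [e]; simp)⟩
  · rintro _ ⟨t, ht, rfl⟩ hne q hq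
    obtain ⟨y, rfl⟩ := QuotientGroup.mk_surjective q
    have h1 : (y : Y ⧸ zpowers u) * t = t * (y : Y ⧸ zpowers u) :=
      mem_centralizer_singleton_iff.mp hq
    have h3 : y * t * y⁻¹ * (y * t * y⁻¹) * (y * t * y⁻¹) = 1 := by
      rw [show y * t * y⁻¹ * (y * t * y⁻¹) * (y * t * y⁻¹) = y * (t * t * t) * y⁻¹ by group,
        h.cube t ht]
      group
    have h4 := h.eq_of_mk h3 (h.cube t ht) (by
      simp only [QuotientGroup.mk_mul, QuotientGroup.mk_inv, h1, mul_inv_cancel_right])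
    show (y : Y ⧸ zpowers u) ∈ normalizer (h.bar : Set (Y ⧸ zpowers u))
    rw [h.normalizer_bar]
    refine mem_map_of_mem _ (h.loc t ht (fun e => hne (by rw [e, map_one])) ?_)
    exact mem_centralizer_singleton_iff.mpr (mul_inv_eq_iff_eq_mul.mp h4)

omit [Finite Y] in
theorem mk_eq_of_cases [(zpowers u).Normal] {n t : Y} (h : n = t ∨ n = t * u) :
    (n : Y ⧸ zpowers u) = t := by
  rcases h with rfl | rfl
  · rfl
  · exact QuotientGroup.eq.mpr (by simp)

/-- automizer `⟨-1⟩` -/
theorem top_two (h : CentHyp u U) (hcard : Nat.card (normalizer (U : Set Y)) = 36)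
    (hinv : ∀ n ∈ normalizer (U : Set Y), (∃ t ∈ U, n = t ∨ n = t * u) ∨
      ∀ t ∈ U, n * t * n⁻¹ = t⁻¹) :
    normalizer (U : Set Y) = ⊤ := by
  have := h.normalZ
  obtain ⟨P, hP, S⟩ := h.exists_setup
  have hc := h.card_normalizer_bar
  refine h.normalizer_top ?_
  rw [← hP] at hc ⊢
  refine S.eq_top_two (by omega) fun q hq => ?_
  rw [hP, h.normalizer_bar] at hq
  obtain ⟨n, hn, rfl⟩ := hq
  rcases hinv n hn with ⟨t, ht, e⟩ | e
  · left
    rw [hP]
    exact ⟨t, ht, (mk_eq_of_cases e).symm⟩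
  · right
    rw [hP]
    rintro _ ⟨t, ht, rfl⟩
    rw [← map_inv, ← map_mul, ← map_mul, e t ht, map_inv]

/-- automizer a four-group -/
theorem top_klein (h : CentHyp u U) (hcard : Nat.card (normalizer (U : Set Y)) = 72)
    (hsq : ∀ n ∈ normalizer (U : Set Y), ∃ t ∈ U, n * n = t ∨ n * n = t * u) :
    normalizer (U : Set Y) = ⊤ := by
  have := h.normalZ
  obtain ⟨P, hP, S⟩ := h.exists_setup
  have hc := h.card_normalizer_bar
  refine h.normalizer_top ?_
  rw [← hP] at hc ⊢
  refine S.eq_top_klein (by omega) fun q hq => ?_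
  rw [hP, h.normalizer_bar] at hq
  obtain ⟨n, hn, rfl⟩ := hq
  obtain ⟨t, ht, e⟩ := hsq n hn
  rw [hP, ← map_mul]
  exact ⟨t, ht, (mk_eq_of_cases e).symm⟩

end CentHyp

/-- A `p`-group normalising a group of prime order `q` contains an element centralising it, unless
its order divides `q - 1`. -/
theorem exists_centralizing {G : Type*} [Group G] [Finite G] {q : ℕ} [Fact q.Prime]
    (Q W : Subgroup G) (hQ : Nat.card Q = q) (hW : W ≤ normalizer (Q : Set G))
    (hd : ¬ Nat.card W ∣ q - 1) : ∃ w ∈ W, w ≠ 1 ∧ ∀ y ∈ Q, w * y = y * w := by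
  classical
  by_contra hcon
  push Not at hcon
  apply hd
  haveI : IsCyclic Q := isCyclic_of_prime_card hQ
  let f : W →* MulAut Q := (normalizerMonoidHom Q).comp (Subgroup.inclusion hW)
  have hf : Function.Injective f := by
    refine (injective_iff_map_eq_one f).mpr fun w hw => ?_
    by_contra hne
    obtain ⟨y, hy, hyw⟩ := hcon w w.2 (fun e => hne (Subtype.ext e))
    apply hyw
    have h0 : Subgroup.inclusion hW w ∈ (normalizerMonoidHom Q).ker := hw
    rw [normalizerMonoidHom_ker, mem_subgroupOf, mem_centralizer_iff] at h0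
    exact (h0 y hy).symm
  have hcard : Nat.card (MulAut Q) = q - 1 := by
    rw [IsCyclic.card_mulAut, hQ, Nat.totient_prime Fact.out]
  rw [← hcard]
  exact card_dvd_of_injective f hf

namespace CentHyp

theorem no_prime [(zpowers u).Normal] (h : CentHyp u U) (hcard : Nat.card (normalizer (U : Set Y)) ∣ 36)
    {q : ℕ} [Fact q.Prime] (hq2 : q ≠ 2) (hq3 : q ≠ 3) (Q : Sylow q (Y ⧸ zpowers u))
    (hQ : Nat.card (Q : Subgroup (Y ⧸ zpowers u)) = q) (k : ℕ) (hk : ¬ 3 ^ k ∣ q - 1)
    (hdvd : 3 ^ k ∣ Nat.card (normalizer ((Q : Subgroup (Y ⧸ zpowers u)) : Set (Y ⧸ zpowers u)))) :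
    False := by
  have : Fact (Nat.Prime 3) := ⟨Nat.prime_three⟩
  obtain ⟨P, hP, S⟩ := h.exists_setup
  obtain ⟨W₀, hW₀⟩ := Sylow.exists_subgroup_card_pow_prime 3 hdvd
  set W := W₀.map (Subgroup.subtype _) with hWdef
  have hW : Nat.card W = 3 ^ k := by
    rw [hWdef, card_map_of_injective (subtype_injective _), hW₀]
  obtain ⟨w, hw, hw1, hcomm⟩ := exists_centralizing _ W hQ (map_subtype_le W₀) (by rwa [hW])
  obtain ⟨R, hR⟩ := (IsPGroup.of_card (n := k) hW).exists_le_sylow
  obtain ⟨g, rfl⟩ := MulAction.exists_smul_eq (Y ⧸ zpowers u) P R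
  have hw' := hR hw
  rw [Sylow.coe_subgroup_smul, Subgroup.mem_pointwise_smul_iff_inv_smul_mem] at hw'
  obtain ⟨y, hy⟩ : ∃ y : (Q : Subgroup (Y ⧸ zpowers u)), orderOf y = q :=
    exists_prime_orderOf_dvd_card' q (by rw [hQ])
  have hconj : g⁻¹ * (y : Y ⧸ zpowers u) * g ∈
      normalizer ((P : Subgroup (Y ⧸ zpowers u)) : Set (Y ⧸ zpowers u)) := by
    refine S.loc (g⁻¹ * w * g) (by simpa [MulAut.smul_def] using hw') ?_
      (mem_centralizer_singleton_iff.mpr ?_)
    · intro e
      apply hw1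
      rw [show w = g * (g⁻¹ * w * g) * g⁻¹ by group, e, mul_one, mul_inv_cancel]
    · rw [show g⁻¹ * (y : Y ⧸ zpowers u) * g * (g⁻¹ * w * g) =
        g⁻¹ * ((y : Y ⧸ zpowers u) * w) * g by group, ← hcomm y y.2]
      group
  have hord : orderOf (⟨_, hconj⟩ :
      normalizer ((P : Subgroup (Y ⧸ zpowers u)) : Set (Y ⧸ zpowers u))) = q := by
    refine (orderOf_coe _).symm.trans (Eq.trans ?_ ((orderOf_coe y).trans hy))
    have e := orderOf_injective (MulAut.conj g⁻¹).toMonoidHom (MulEquiv.injective _) (y : Y ⧸ _)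
    simpa using e
  have h18 : q ∣ 36 := by
    have h1 := orderOf_dvd_natCard (⟨_, hconj⟩ :
      normalizer ((P : Subgroup (Y ⧸ zpowers u)) : Set (Y ⧸ zpowers u)))
    rw [hord, hP] at h1
    exact (h1.trans (Dvd.intro_left 2 h.card_normalizer_bar)).trans hcard
  have h36 : q ∣ 2 ^ 2 * 3 ^ 2 := h18
  rcases (Fact.out : q.Prime).dvd_mul.mp h36 with h2 | h2
  · exact hq2 ((Nat.prime_dvd_prime_iff_eq Fact.out Nat.prime_two).mp (Fact.out (p := q.Prime) |>.dvd_of_dvd_pow h2))
  · exact hq3 ((Nat.prime_dvd_prime_iff_eq Fact.out Nat.prime_three).mp (Fact.out (p := q.Prime) |>.dvd_of_dvd_pow h2))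

omit [Finite Y] in
theorem mem_U_of_cube (h : CentHyp u U) [Finite Y] {n : Y} (hn : n ∈ normalizer (U : Set Y))
    (h3 : n * n * n = 1) : n ∈ U := by
  have := h.normalZ
  obtain ⟨P, hP, S⟩ := h.exists_setup
  have h1 : (n : Y ⧸ zpowers u) ∈ (P : Subgroup (Y ⧸ zpowers u)) := by
    refine S.nine.toHyp.mem_of_mem _ ?_ ?_
    · rw [hP, h.normalizer_bar]; exact mem_map_of_mem _ hn
    · rw [← QuotientGroup.mk_pow, pow_succ, pow_two, h3, QuotientGroup.mk_one]
  rw [hP] at h1
  obtain ⟨s, hs, e⟩ := h1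
  rwa [← h.eq_of_mk (h.cube s hs) h3 e]

theorem ti (h : CentHyp u U) {g t : Y} (ht : t ∈ U) (ht1 : t ≠ 1) (hg : g * t * g⁻¹ ∈ U) :
    g ∈ normalizer (U : Set Y) := by
  have := h.normalZ
  obtain ⟨P, hP, S⟩ := h.exists_setup
  refine h.mem_normalizer_of_mk ?_
  rw [← hP]
  refine S.nine.toHyp.mem_normalizer (t := (t : Y ⧸ zpowers u)) ?_ ?_ ?_
  · rw [hP]; exact ⟨t, ht, rfl⟩
  · intro e
    exact ht1 (h.eq_of_mk (h.cube t ht) (by simp) (by simpa using e))
  · rw [hP]; exact ⟨g * t * g⁻¹, hg, by simp⟩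

theorem mult_three_cube : ∀ m : Multiplicative (ZMod 3), m ^ 3 = 1 := by decide

/-- automizer a reflection, or trivial: transfer, then `S3331` -/
theorem top_refl (h : CentHyp u U) (hcard : Nat.card (normalizer (U : Set Y)) ∣ 36)
    (ψ : normalizer (U : Set Y) →* Multiplicative (ZMod 3))
    (c : Y) (hc : c ∈ U) (hψc : ψ ⟨c, le_normalizer hc⟩ ≠ 1)
    (a : Y) (ha : a ∈ U) (ha1 : a ≠ 1) (hψa : ψ ⟨a, le_normalizer ha⟩ = 1)
    (hfix : ∀ n : normalizer (U : Set Y), ψ n = 1 → (n : Y) * a = a * n →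
      ∃ t ∈ U, (n : Y) = t ∨ (n : Y) = t * u) :
    normalizer (U : Set Y) = ⊤ := by
  classical
  have : Fact (Nat.Prime 3) := ⟨Nat.prime_three⟩
  have := h.normalZ
  obtain ⟨P, hP, S⟩ := h.exists_setup
  haveI : (normalizer (U : Set Y)).FiniteIndex := finiteIndex_of_finite
  have hexp := mult_three_cube
  set V := MonoidHom.transfer ψ
  have hV3 : ∀ g : Y, g * g * g = 1 → ∀ hgU : g ∈ U, V g = ψ ⟨g, le_normalizer hgU⟩ := by
    intro g hg3 hgU
    by_cases hg1 : g = 1
    · subst hg1; rw [map_one]; exact (map_one ψ).symm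
    refine transfer_of_prime_single _ ψ 3 (by rw [pow_succ, pow_two, hg3]) _ fun k hk hk' => ?_
    exfalso
    have h3 : k⁻¹ * g * k * (k⁻¹ * g * k) * (k⁻¹ * g * k) = 1 := by
      rw [show k⁻¹ * g * k * (k⁻¹ * g * k) * (k⁻¹ * g * k) = k⁻¹ * (g * g * g) * k by group, hg3]
      group
    have hmem := h.mem_U_of_cube hk h3
    exact hk' (inv_inv k ▸ inv_mem (h.ti hgU hg1 (by rwa [inv_inv])))
  have hVN : ∀ n : normalizer (U : Set Y), V n = ψ n := by
    intro n
    have h4 : (n : Y) ^ 4 * (n : Y) ^ 4 * (n : Y) ^ 4 * ((n : Y) ^ 4) ^ 6 = 1 := by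
      have h36 : (n : Y) ^ 36 = 1 := by
        obtain ⟨m, hm⟩ := hcard
        rw [hm, pow_mul, ← SubmonoidClass.coe_pow, pow_card_eq_one', OneMemClass.coe_one, one_pow]
      rw [← pow_add, ← pow_add, ← pow_mul, ← pow_add]; exact h36
    have h12 : ((n : Y) ^ 4) * (n : Y) ^ 4 * (n : Y) ^ 4 = 1 := by
      have hmem : (n : Y) ^ 4 ∈ normalizer (U : Set Y) := pow_mem n.2 4
      have hq : ((((n : Y) ^ 4 : Y) : Y ⧸ zpowers u)) ^ 9 = 1 := by
        rw [← QuotientGroup.mk_pow, ← pow_mul]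
        obtain ⟨m, hm⟩ := hcard
        rw [show (4 * 9 : ℕ) = 36 from rfl, hm, pow_mul, ← SubmonoidClass.coe_pow,
          pow_card_eq_one', OneMemClass.coe_one, one_pow, QuotientGroup.mk_one]
      have hqP : ((((n : Y) ^ 4 : Y) : Y ⧸ zpowers u)) ∈ (P : Subgroup (Y ⧸ zpowers u)) := by
        have hz : IsPGroup 3 (zpowers ((((n : Y) ^ 4 : Y) : Y ⧸ zpowers u))) := by
          obtain ⟨i, -, hi⟩ := (Nat.dvd_prime_pow Nat.prime_three).mp
            (show orderOf ((((n : Y) ^ 4 : Y) : Y ⧸ zpowers u)) ∣ 3 ^ 2 from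
              orderOf_dvd_of_pow_eq_one hq)
          exact IsPGroup.of_card (n := i) (by rw [Nat.card_zpowers, hi])
        have hN : ((((n : Y) ^ 4 : Y) : Y ⧸ zpowers u)) ∈
            normalizer ((P : Subgroup (Y ⧸ zpowers u)) : Set (Y ⧸ zpowers u)) := by
          rw [hP, h.normalizer_bar]; exact mem_map_of_mem _ hmem
        have hsup := hz.to_sup_of_normal_right' P.isPGroup' (zpowers_le.mpr hN)
        exact (P.is_maximal' hsup le_sup_right).le (mem_sup_left (mem_zpowers _))
      rw [hP] at hqP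
      obtain ⟨s, hs, e⟩ := hqP
      rcases h.mem_Z.mp (QuotientGroup.eq.mp e) with e' | e'
      · rw [← inv_mul_eq_one.mp e']; exact h.cube s hs
      · exfalso
        rw [inv_mul_eq_iff_eq_mul] at e'
        rw [e'] at h4
        rw [h.u_cube (h.cube s hs)] at h4
        have hsix : (s * u) ^ 6 = 1 := by
          rw [show (6 : ℕ) = 3 * 2 from rfl, pow_mul, pow_succ (s * u) 2, pow_two (s * u),
            h.u_cube (h.cube s hs), pow_two, h.u_sq]
        rw [hsix, mul_one] at h4
        exact h.u_ne h4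
    have hmemU : (n : Y) ^ 4 ∈ U := h.mem_U_of_cube (pow_mem n.2 4) h12
    have e4 : V n ^ 4 = ψ n ^ 4 := by
      rw [← map_pow, ← map_pow, hV3 _ h12 hmemU]
      congr 1
    rwa [pow_succ, hexp, one_mul, pow_succ (ψ n), hexp, one_mul] at e4
  -- the kernel
  let K := V.ker
  have hVc : V c = ψ ⟨c, le_normalizer hc⟩ := hVN ⟨c, le_normalizer hc⟩
  have hZK : zpowers u ≤ K := by
    refine zpowers_le.mpr (MonoidHom.mem_ker.mpr ?_)
    have e : V u ^ 2 = 1 := by rw [pow_two, ← map_mul, h.u_sq, map_one]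
    have e3 := hexp (V u)
    rw [pow_succ, e, one_mul] at e3
    exact e3
  have hKidx : K.index = 3 := by
    rw [show K = V.ker from rfl, index_ker]
    have hd : Nat.card V.range ∣ 3 := by
      have := card_subgroup_dvd_card V.range
      simpa using this
    refine ((Nat.dvd_prime Nat.prime_three).mp hd).resolve_left fun h1 => hψc ?_
    rw [← hVc]
    exact (Subgroup.eq_bot_of_card_eq _ h1 ▸ (⟨c, rfl⟩ : V c ∈ V.range) : V c ∈ (⊥ : Subgroup _))
  let K' := K.map (QuotientGroup.mk' (zpowers u))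
  have hK'n : K'.Normal := (inferInstance : K.Normal).map _ (QuotientGroup.mk'_surjective _)
  have hK'idx : K'.index = 3 := by
    rw [index_map_eq _ (QuotientGroup.mk'_surjective _) (by rw [QuotientGroup.ker_mk']; exact hZK),
      hKidx]
  have haK : a ∈ K := MonoidHom.mem_ker.mpr ((hVN ⟨a, le_normalizer ha⟩).trans hψa)
  let abar : K' := ⟨(a : Y ⧸ zpowers u), mem_map_of_mem _ haK⟩
  have ha3 : abar ^ 3 = 1 := Subtype.ext (by
    show ((a : Y ⧸ zpowers u)) ^ 3 = 1
    rw [← QuotientGroup.mk_pow, pow_succ, pow_two, h.cube a ha, QuotientGroup.mk_one])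
  have ha1' : abar ≠ 1 := fun e => ha1 (h.eq_of_mk (h.cube a ha) (by simp)
    ((congrArg Subtype.val e).trans (QuotientGroup.mk_one (zpowers u)).symm))
  let X := zpowers abar
  have hX : Nat.card X = 3 := by rw [Nat.card_zpowers, orderOf_eq_prime ha3 ha1']
  have hCX : centralizer (X : Set K') = X := by
    refine le_antisymm ?_ ?_
    · rintro ⟨q, hq⟩ hqc
      obtain ⟨y, hyK, rfl⟩ := hq
      have e := congrArg Subtype.val (mem_centralizer_iff.mp hqc abar (mem_zpowers abar))
      have e1 : (a : Y ⧸ zpowers u) * y = (y : Y ⧸ zpowers u) * a := e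
      have hya : y * a * y⁻¹ = a := h.eq_of_mk (by
        rw [show y * a * y⁻¹ * (y * a * y⁻¹) * (y * a * y⁻¹) = y * (a * a * a) * y⁻¹ by group,
          h.cube a ha]; group) (h.cube a ha) (by
        simp only [QuotientGroup.mk_mul, QuotientGroup.mk_inv, ← e1, mul_inv_cancel_right])
      have hyN : y ∈ normalizer (U : Set Y) := h.loc a ha ha1
        (mem_centralizer_singleton_iff.mpr (mul_inv_eq_iff_eq_mul.mp hya))
      have hψy : ψ ⟨y, hyN⟩ = 1 := (hVN ⟨y, hyN⟩).symm.trans (MonoidHom.mem_ker.mp hyK)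
      obtain ⟨t, ht, hyt⟩ := hfix ⟨y, hyN⟩ hψy (mul_inv_eq_iff_eq_mul.mp hya)
      let r := ψ.comp (Subgroup.inclusion (le_normalizer : U ≤ normalizer (U : Set Y)))
      have hrc : Nat.card r.ker = 3 := by
        have hd : Nat.card r.range ∣ 3 := by simpa using card_subgroup_dvd_card r.range
        have hr1 : Nat.card r.range = 3 := ((Nat.dvd_prime Nat.prime_three).mp hd).resolve_left
          fun h1 => hψc (Subgroup.eq_bot_of_card_eq _ h1 ▸ (⟨⟨c, hc⟩, rfl⟩ :
            r ⟨c, hc⟩ ∈ r.range) : r ⟨c, hc⟩ ∈ (⊥ : Subgroup _))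
        have := card_mul_index r.ker
        rw [index_ker, hr1, h.card] at this
        omega
      have htr : (⟨t, ht⟩ : U) ∈ r.ker := by
        have htV : V t = 1 := by
          rcases (show y = t ∨ y = t * u from hyt) with e' | e'
          · rw [← e']; exact MonoidHom.mem_ker.mp hyK
          · have := MonoidHom.mem_ker.mp hyK
            rw [e', map_mul, show V u = 1 from MonoidHom.mem_ker.mp (hZK (mem_zpowers u)),
              mul_one] at this
            exact this
        exact MonoidHom.mem_ker.mpr ((hVN ⟨t, le_normalizer ht⟩).symm.trans htV)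
      have hker : r.ker = zpowers (⟨a, ha⟩ : U) := by
        refine (eq_of_le_of_card_ge (zpowers_le.mpr
          (show (⟨a, ha⟩ : U) ∈ r.ker from MonoidHom.mem_ker.mpr hψa)) ?_).symm
        rw [hrc, Nat.card_zpowers]
        exact (orderOf_eq_prime (x := (⟨a, ha⟩ : U)) (p := 3)
          (Subtype.ext (by simpa [pow_succ] using h.cube a ha))
          (fun e' => ha1 (congrArg Subtype.val e'))).ge
      rw [hker] at htr
      obtain ⟨i, hi⟩ := mem_zpowers_iff.mp htr
      refine mem_zpowers_iff.mpr ⟨i, Subtype.ext ?_⟩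
      have hti : a ^ i = t := by simpa using congrArg Subtype.val hi
      show ((a : Y ⧸ zpowers u)) ^ i = (y : Y ⧸ zpowers u)
      rw [← QuotientGroup.mk_zpow, hti, mk_eq_of_cases hyt]
    · exact zpowers_le.mpr (mem_centralizer_iff.mpr fun z hz => by
        obtain ⟨i, rfl⟩ := mem_zpowers_iff.mp hz
        exact (Commute.zpow_self abar i).eq)
  -- normal `3'`-subgroups are trivial
  have hcore : ∀ M : Subgroup K', M.Normal → (Nat.card M).Coprime 3 → M = ⊥ := by
    intro M hM hMc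
    have hle := ClassK.le_pPrimeCore hM hMc
    suffices Cfsg.pPrimeCore 3 K' = ⊥ from le_bot_iff.mp (this ▸ hle)
    haveI := ClassK.pPrimeCore_characteristic (G := K') (p := 3)
    haveI : ((Cfsg.pPrimeCore 3 K').map K'.subtype).Normal :=
      ConjAct.normal_of_characteristic_of_normal
    have hb : (Cfsg.pPrimeCore 3 K').map K'.subtype = ⊥ := by
      refine S.nine.toHyp.eq_bot_of_inf S.self_centralizing S.card_eq _ ?_
      refine inf_eq_bot_of_coprime ?_
      rw [card_map_of_injective (subtype_injective _), S.card_eq]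
      exact Nat.Coprime.pow_right 2 (ClassK.coprime_card_pPrimeCore (G := K') (p := 3))
    exact (map_eq_bot_iff_of_injective _ (subtype_injective _)).mp hb
  have hcardQ : Nat.card (Y ⧸ zpowers u) = 3 * Nat.card K' := by
    rw [← card_mul_index K', hK'idx, mul_comm]
  by_contra hcon
  have hNbar : normalizer ((P : Subgroup (Y ⧸ zpowers u)) : Set (Y ⧸ zpowers u)) ≠ ⊤ := fun e =>
    hcon (h.normalizer_top (hP ▸ e))
  have hsmall : 18 < Nat.card (Y ⧸ zpowers u) := by
    by_contra hle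
    push Not at hle
    refine hNbar (S.nine.toHyp.normal_of_index ?_)
    rw [S.card_eq]
    have h1 := card_mul_index (normalizer ((P : Subgroup (Y ⧸ zpowers u)) : Set (Y ⧸ zpowers u)))
    have h2 : 9 ≤ Nat.card (normalizer ((P : Subgroup (Y ⧸ zpowers u)) : Set (Y ⧸ zpowers u))) :=
      S.card_eq.ge.trans (card_le_of_le le_normalizer)
    nlinarith
  -- the possible orders
  have hcase : Nat.card K' = 3 ∨ Nat.card K' = 6 ∨ Nat.card K' = 60 ∨ Nat.card K' = 168 := by
    rcases Cfsg.Agent.S3331.result X hX hCX with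
      ⟨M, hM, -, hMc, hq⟩ | ⟨M, hM, -, hM2, ⟨e⟩⟩ | ⟨⟨e⟩⟩
    · obtain rfl := hcore M hM hMc
      have hb : Nat.card (K' ⧸ (⊥ : Subgroup K')) = Nat.card K' :=
        Nat.card_congr QuotientGroup.quotientBot.toEquiv
      rcases hq with hq | ⟨⟨e⟩⟩
      · exact Or.inl (hb ▸ hq)
      · refine Or.inr (Or.inl ?_)
        rw [← hb, Nat.card_congr e.toEquiv, Nat.card_perm, Nat.card_eq_fintype_card,
          Fintype.card_fin]
        rfl
    · have hMc : (Nat.card M).Coprime 3 := by
        rw [Nat.coprime_comm, Nat.prime_three.coprime_iff_not_dvd]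
        intro hd
        obtain ⟨w, hw⟩ := exists_prime_orderOf_dvd_card' 3 hd
        have h2 : w ^ 2 = 1 := Subtype.ext (by simpa using hM2 w w.2)
        have := orderOf_dvd_of_pow_eq_one h2
        rw [hw] at this
        norm_num at this
      obtain rfl := hcore M hM hMc
      refine Or.inr (Or.inr (Or.inl ?_))
      rw [← Nat.card_congr (QuotientGroup.quotientBot (G := K')).toEquiv, Nat.card_congr e.toEquiv,
        Nat.card_eq_fintype_card]
      rfl
    · refine Or.inr (Or.inr (Or.inr ?_))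
      haveI : Fact (Nat.Prime 7) := ⟨by norm_num⟩
      have h7 := CfsgLib.Geom.Moebius.card_psl_two_gcd (F := ZMod 7)
      rw [ZMod.card 7] at h7
      rw [Nat.card_congr e.toEquiv]
      norm_num [← Nat.card_eq_fintype_card] at h7
      omega
  -- the number of Sylow subgroups for the largest prime
  have key : ∀ q : ℕ, q.Prime → q ≠ 2 → q ≠ 3 → ∀ k m : ℕ, Nat.card (Y ⧸ zpowers u) = q * m →
      ¬ q ∣ m → ¬ 3 ^ k ∣ q - 1 →
      (∀ n, n ∣ m / 3 → n ≡ 1 [MOD q] → 3 ^ k * n ∣ q * m) → False := by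
    intro q hq hq2 hq3 k m hm hqm hk harith
    haveI : Fact q.Prime := ⟨hq⟩
    let Q : Sylow q (Y ⧸ zpowers u) := default
    have hQ : Nat.card (Q : Subgroup (Y ⧸ zpowers u)) = q := by
      rw [Q.card_eq_multiplicity, hm,
        Nat.factorization_mul hq.ne_zero (fun e => hqm (by rw [e]; exact dvd_zero q)), Finsupp.add_apply,
        hq.factorization_self, Nat.factorization_eq_zero_of_not_dvd hqm, pow_one]
    have hQK : (Q : Subgroup (Y ⧸ zpowers u)) ≤ K' := by
      intro y hy
      have h3 : y ^ 3 ∈ K' := hK'idx ▸ pow_index_mem K' y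
      have hyq : y ^ q = 1 := by
        have := pow_card_eq_one' (x := (⟨y, hy⟩ : (Q : Subgroup (Y ⧸ zpowers u))))
        rw [hQ] at this
        simpa using congrArg Subtype.val this
      have hg : ((3 : ℕ).gcd q : ℕ) = 1 := (Nat.coprime_primes Nat.prime_three hq).mpr (Ne.symm hq3)
      obtain ⟨i, j, hij⟩ : ∃ i j : ℕ, 3 * i = q * j + 1 := by
        have hcop : Nat.Coprime 3 q := hg
        obtain ⟨i, -, hi⟩ := Nat.exists_mul_mod_eq_one_of_coprime hcop hq.one_lt
        exact ⟨i, 3 * i / q, by conv_lhs => rw [← Nat.div_add_mod (3 * i) q, hi]⟩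
      have hy' : y = (y ^ 3) ^ i := by
        rw [← pow_mul, hij, pow_add, pow_mul, hyq, one_pow, one_mul, pow_one]
      rw [hy']
      exact pow_mem h3 i
    -- conjugation within `K'`
    let QK : Sylow q K' := Q.subtype hQK
    have hn1 : Nat.card (Sylow q (Y ⧸ zpowers u)) ∣ m / 3 := by
      have hsup := Sylow.normalizer_sup_eq_top QK
      rw [Sylow.coe_subtype, map_subgroupOf_eq_of_le hQK] at hsup
      have hrel : (normalizer ((Q : Subgroup (Y ⧸ zpowers u)) : Set (Y ⧸ zpowers u))).index =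
          (normalizer ((Q : Subgroup (Y ⧸ zpowers u)) : Set (Y ⧸ zpowers u))).relIndex K' := by
        have hK3 : K'.relIndex
            (normalizer ((Q : Subgroup (Y ⧸ zpowers u)) : Set (Y ⧸ zpowers u))) = 3 := by
          rw [← relIndex_sup_right, hsup, relIndex_top_right, hK'idx]
        have h1 := relIndex_mul_index (inf_le_left :
          normalizer ((Q : Subgroup (Y ⧸ zpowers u)) : Set (Y ⧸ zpowers u)) ⊓ K' ≤ _)
        have h2 := relIndex_mul_index (inf_le_right :
          normalizer ((Q : Subgroup (Y ⧸ zpowers u)) : Set (Y ⧸ zpowers u)) ⊓ K' ≤ _)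
        rw [inf_relIndex_left, hK3] at h1
        rw [inf_relIndex_right, hK'idx, ← h1] at h2
        omega
      rw [show Nat.card (Sylow q (Y ⧸ zpowers u)) =
          (normalizer ((Q : Subgroup (Y ⧸ zpowers u)) : Set (Y ⧸ zpowers u))).index from
        Sylow.card_eq_index_normalizer Q, hrel]
      have hd : (normalizer ((Q : Subgroup (Y ⧸ zpowers u)) : Set (Y ⧸ zpowers u))).relIndex K' ∣
          (Q : Subgroup (Y ⧸ zpowers u)).relIndex K' := relIndex_dvd_of_le_left _ le_normalizer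
      refine hd.trans (dvd_of_eq ?_)
      have hK : q * ((Q : Subgroup (Y ⧸ zpowers u)).relIndex K') = Nat.card K' := by
        have hh := card_mul_index ((Q : Subgroup (Y ⧸ zpowers u)).subgroupOf K')
        rw [Nat.card_congr (subgroupOfEquivOfLe hQK).toEquiv, hQ] at hh
        exact hh
      have h3m : 3 ∣ m := by
        have h3 : 3 ∣ q * m := ⟨Nat.card K', by rw [← hm, hcardQ]⟩
        exact ((Nat.coprime_primes Nat.prime_three hq).mpr (Ne.symm hq3)).dvd_of_dvd_mul_left h3
      obtain ⟨m', rfl⟩ := h3m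
      rw [Nat.mul_div_cancel_left m' (by norm_num)]
      have : q * ((Q : Subgroup (Y ⧸ zpowers u)).relIndex K') = q * m' := by
        rw [hK]; rw [hcardQ] at hm; linarith [hm, mul_left_comm q 3 m']
      exact Nat.eq_of_mul_eq_mul_left hq.pos this
    have hN := harith _ hn1 (card_sylow_modEq_one q (Y ⧸ zpowers u))
    rw [← hm, ← card_mul_index (normalizer ((Q : Subgroup (Y ⧸ zpowers u)) : Set (Y ⧸ zpowers u))),
      show (normalizer ((Q : Subgroup (Y ⧸ zpowers u)) : Set (Y ⧸ zpowers u))).index =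
        Nat.card (Sylow q (Y ⧸ zpowers u)) from (Sylow.card_eq_index_normalizer Q).symm] at hN
    exact h.no_prime hcard hq2 hq3 Q hQ k hk
      (Nat.dvd_of_mul_dvd_mul_right Nat.card_pos hN)
  have a5 : ∀ n ∈ Finset.range 13, n ∣ 36 / 3 → n % 5 = 1 → 3 ^ 1 * n ∣ 5 * 36 := by decide
  have a7 : ∀ n ∈ Finset.range 25, n ∣ 72 / 3 → n % 7 = 1 → 3 ^ 2 * n ∣ 7 * 72 := by decide
  rcases hcase with e | e | e | e
  · omega
  · omega
  · exact key 5 (by norm_num) (by norm_num) (by norm_num) 1 36 (by omega) (by norm_num)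
      (by norm_num) fun n hn hmod => a5 n (Finset.mem_range.mpr
        (Nat.lt_succ_of_le (Nat.le_of_dvd (by norm_num) hn))) hn hmod
  · exact key 7 (by norm_num) (by norm_num) (by norm_num) 2 72 (by omega) (by norm_num)
      (by norm_num) fun n hn hmod => a7 n (Finset.mem_range.mpr
        (Nat.lt_succ_of_le (Nat.le_of_dvd (by norm_num) hn))) hn hmod

end CentHyp

end CfsgLib.Recog.SymNine.Local
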