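import Cfsg.Agent.Lib.Recog.SymNine.Setup
import Cfsg.Agent.Lib.Recog.SymNine.Local.Bridge

/-!
The local case of the recognition of `S₉`.
-/

set_option autoImplicit false

namespace CfsgLib.Recog.SymNine

universe u

theorem standard_perm {X : Mon → Bool} (hX : IsStandard X) (q : Fin 6) :
    X (q, false, false, false) = true := by
  rcases hX with rfl | rfl | rfl | rfl <;> revert q <;> decide +kernel

/-- A cube with all point centralisers local is normal. -/
theorem normal_of_cube {G : Type u} [Group G] [Finite G] {X : Mon → Bool} (C : Cube G X)
    (hX : IsStandard X) (h : C.Local) : C.J.Normal :=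
  Local.cube_normal C (standard_perm hX) h

end CfsgLib.Recog.SymNine
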