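import Cfsg.Agent.Lib.Recog.SymNine.Local.Fusion

/-!
The transfer to a group of order three inside the kernel of the sign transfers.
-/

set_option autoImplicit false

namespace CfsgLib.Recog.SymNine.Local

open Subgroup CfsgLib.Block.ThreeCube

variable {G : Type*} [Group G] [Finite G] {F : Frame G}

namespace Frame

theorem exists_cubic (hloc : F.Loc) :
    ∃ V : F.K →* Multiplicative (ZMod 3),
      ∀ (k : F.K) (w : W), F.Rel (k : G) w → (V k = 1 ↔ w.right = 1) := by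
  classical
  haveI : Fact (Nat.Prime 3) := ⟨Nat.prime_three⟩
  let H : Subgroup F.K := F.N.subgroupOf F.K
  let wv : H → W := fun n => F.ι ⟨((n : F.K) : G), mem_subgroupOf.mp n.2⟩
  have hwv : ∀ n : H, F.Rel ((n : F.K) : G) (wv n) := fun n => ⟨_, rfl⟩
  have hsign : ∀ n : H, sgnPerm (wv n) = 1 ∧ sgnProd (wv n) = 1 := fun n =>
    (mem_K_iff hloc (hwv n)).mp (n : F.K).2
  have hwv_mul : ∀ m n : H, wv (m * n) = wv m * wv n := fun m n =>
    (hwv (m * n)).unique ((hwv m).mul (hwv n))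
  have hwv_inj : ∀ m n : H, wv m = wv n → m = n := fun m n e =>
    Subtype.ext (Subtype.ext ((hwv m).eq (e ▸ hwv n)))
  let ϕ : H →* Multiplicative (ZMod 3) := MonoidHom.mk' (fun n => muFun (wv n)) fun m n => by
    rw [hwv_mul]
    simp only [muFun, ← ofAdd_add]
    exact congrArg Multiplicative.ofAdd (muFun_perm (wv m).right (wv n).right (hsign m).1 (hsign n).1)
  have hexp : ∀ m : Multiplicative (ZMod 3), m ^ 3 = 1 := CentHyp.mult_three_cube
  haveI : H.FiniteIndex := finiteIndex_of_finite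
  let V : F.K →* Multiplicative (ZMod 3) := MonoidHom.transfer ϕ
  have mk : ∀ w, Mem F.bz F.be w → sgnPerm w = 1 → sgnProd w = 1 → ∃ n : H, wv n = w := by
    intro w hm hp hd
    obtain ⟨g, hg⟩ := F.exists_rel hm
    refine ⟨⟨⟨g, (mem_K_iff hloc hg).mpr ⟨hp, hd⟩⟩, mem_subgroupOf.mpr hg.1⟩, ?_⟩
    exact (hwv _).unique hg
  obtain ⟨x, hx⟩ := F.exists_rel_zero negs_consts.2.2.2.2.1
  have hxJ : x ∈ F.J := hx.inJ_iff.mpr x₀_facts.1
  have hx1 : x ≠ 1 := fun e => x₀_facts.2.1 (hx.eq_one_iff.mp e)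
  have hxK : x ∈ F.K :=
    (mem_K_iff hloc hx).mpr ⟨(mu_of_inJ _ x₀_facts.1).1, (mu_of_inJ _ x₀_facts.1).2.1⟩
  -- the elements of order nine
  have nine : ∀ n : H, negs (wv n) = 0 → wv n * wv n * wv n = x₀ → V n = ϕ n := by
    intro n hn0 hn3
    have h9 : (n : F.K) ^ (3 * 3) = 1 := Subtype.ext (((hwv n).pow 9).eq_one_iff.mpr
      (ninth_of_plus _ hn0 (hsign n).1))
    have hn3' : (n : F.K) ^ 3 = ⟨x, hxK⟩ := by
      refine Subtype.ext ?_
      show ((n : F.K) : G) ^ 3 = x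
      rw [pow_succ, pow_two]
      exact (((hwv n).mul (hwv n)).mul (hwv n)).eq (hn3 ▸ hx)
    let P : Subgroup F.K := H ⊓ centralizer {(⟨x, hxK⟩ : F.K)}
    have hPrel : ∀ a ∈ P, ∃ w, F.Rel (a : G) w ∧ negs w = 0 ∧ sgnPerm w = 1 := by
      rintro a ⟨haH, haC⟩
      refine ⟨wv ⟨a, haH⟩, hwv ⟨a, haH⟩, negs_of_comm_x₀ _ ?_, (hsign ⟨a, haH⟩).1⟩
      exact ((hwv ⟨a, haH⟩).comm_iff hx).mp
        (congrArg Subtype.val (mem_centralizer_singleton_iff.mp haC))
    have hnP : (n : F.K) ∈ P := ⟨n.2, mem_centralizer_singleton_iff.mpr (Subtype.ext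
      (((hwv n).comm_iff hx).mpr (rot_comm _ hn0)))⟩
    refine transfer_of_sq H ϕ 3 h9 n.2 P inf_le_left hnP ?_ (fun h => hexp _) ?_ ?_
    · intro a ha
      rw [hn3']
      exact (mem_centralizer_singleton_iff.mp ha.2).symm
    · intro k hk
      obtain ⟨w, hw⟩ := F.rel_of_mem (mem_subgroupOf.mp hk)
      have e9 : (((k⁻¹ * (n : F.K) * k : F.K) : G)) ^ 9 = 1 := by
        rw [← SubmonoidClass.coe_pow, show (k⁻¹ * (n : F.K) * k) ^ 9 = k⁻¹ * (n : F.K) ^ 9 * k by
          have := conj_pow (a := k⁻¹) (b := (n : F.K)) (i := 9)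
          rw [inv_inv] at this
          exact this, show (n : F.K) ^ 9 = 1 from h9, mul_one, inv_mul_cancel, OneMemClass.coe_one]
      have hJ := (((hw.mul hw).mul hw).inJ_iff).mpr (right_cube w ((hw.pow 9).eq_one_iff.mp e9))
      have e3 : ((k⁻¹ * (n : F.K) * k : F.K) : G) * ((k⁻¹ * (n : F.K) * k : F.K) : G) *
          ((k⁻¹ * (n : F.K) * k : F.K) : G) = (k : G)⁻¹ * x * k := by
        have : (k⁻¹ * (n : F.K) * k) * (k⁻¹ * (n : F.K) * k) * (k⁻¹ * (n : F.K) * k) =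
            k⁻¹ * ⟨x, hxK⟩ * k := by
          rw [← hn3', pow_succ, pow_two]; group
        exact congrArg Subtype.val this
      rw [e3] at hJ
      have := ti hloc (g := (k : G)⁻¹) hxJ hx1 (by rwa [inv_inv])
      exact mem_subgroupOf.mpr (inv_inv (k : G) ▸ inv_mem this)
    · intro k hk hkH
      rw [hn3'] at hk
      have horb : Nat.card (MulAction.orbit P ((k : F.K) : F.K ⧸ H)) =
          (MulAction.stabilizer P ((k : F.K) : F.K ⧸ H)).index := by
        rw [index_eq_card]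
        exact Nat.card_congr (MulAction.orbitEquivQuotientStabilizer P ((k : F.K) : F.K ⧸ H))
      have hP81 : Nat.card P = 3 ^ 4 := by
        have e : Nat.card P = Nat.card (P.map F.K.subtype) :=
          (card_map_of_injective (subtype_injective _)).symm
        rw [e, F.card_eq_filter (P := fun w => negs w = 0 ∧ sgnPerm w = 1) _
          (fun g hg => by
            obtain ⟨a, ha, rfl⟩ := hg
            exact mem_subgroupOf.mp ha.1)
          (fun g w h => ⟨?_, ?_⟩) (fun w hw => Or.inl hw.1), card_rot]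
        · rfl
        · rintro ⟨a, ha, rfl⟩
          obtain ⟨v, hv, hv'⟩ := hPrel a ha
          rwa [h.unique hv]
        · rintro ⟨h0, hp⟩
          have hd : sgnProd w = 1 := by
            show (-1 : ℤˣ) ^ negs w = 1
            rw [h0, pow_zero]
          exact ⟨⟨g, (mem_K_iff hloc h).mpr ⟨hp, hd⟩⟩, ⟨mem_subgroupOf.mpr h.1,
            mem_centralizer_singleton_iff.mpr (Subtype.ext ((h.comm_iff hx).mpr (rot_comm w h0)))⟩,
            rfl⟩
      let Q := MulAction.stabilizer P ((k : F.K) : F.K ⧸ H)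
      have hQ : ∀ a : Q, k⁻¹ * ((a : P) : F.K) * k ∈ H := fun a =>
        (smul_eq_iff H _ k).mp a.2
      let f : Q →* G := ((MulAut.conj (k : G)⁻¹).toMonoidHom.comp F.K.subtype).comp
        (P.subtype.comp Q.subtype)
      have hfapp : ∀ a : Q, f a = ((k⁻¹ * ((a : P) : F.K) * k : F.K) : G) := fun a => by
        show (k : G)⁻¹ * _ * ((k : G)⁻¹)⁻¹ = _
        rw [inv_inv]; rfl
      have hinj : Function.Injective f := by
        intro a b e
        have e' := (MulAut.conj (k : G)⁻¹).injective e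
        exact Subtype.ext (Subtype.ext (Subtype.ext e'))
      have hxQ : (⟨⟨x, hxK⟩, ⟨mem_subgroupOf.mpr hx.1, mem_centralizer_singleton_iff.mpr rfl⟩⟩ : P) ∈
          Q := (smul_eq_iff H (⟨x, hxK⟩ : F.K) k).mpr hk
      have hle : Nat.card Q ≤ 9 := by
        rw [show Nat.card Q = Nat.card f.range from
          Nat.card_congr (MonoidHom.ofInjective hinj).toEquiv]
        refine card_le_nine (F := F) f.range ?_ ?_ (y := f ⟨_, hxQ⟩) ⟨_, rfl⟩ ?_ ?_
        · rintro _ ⟨a, rfl⟩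
          rw [hfapp]
          exact mem_subgroupOf.mp (hQ a)
        · rintro _ ⟨a, rfl⟩
          obtain ⟨v, hv, h0, hp⟩ := hPrel _ (a : P).2
          rw [← map_pow, show a ^ 9 = 1 from Subtype.ext (Subtype.ext (Subtype.ext
            ((hv.pow 9).eq_one_iff.mpr (ninth_of_plus v h0 hp)))), map_one]
        · intro hy
          rw [hfapp] at hy
          have := ti hloc (g := (k : G)⁻¹) hxJ hx1 (by rw [inv_inv]; exact hy)
          exact hkH (mem_subgroupOf.mpr (inv_inv (k : G) ▸ inv_mem this))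
        · rintro _ ⟨a, rfl⟩
          rw [← map_mul, ← map_mul]
          exact congrArg f (Subtype.ext (Subtype.ext
            (mem_centralizer_singleton_iff.mp (a : P).2.2)))
      have hmul : Nat.card Q * Q.index = 3 ^ 4 := (card_mul_index Q).trans hP81
      obtain ⟨i, hi, hi'⟩ := (Nat.dvd_prime_pow Nat.prime_three).mp ⟨_, hmul.symm⟩
      rw [horb]
      rw [hi'] at hle hmul
      have hi2 : i ≤ 2 := by
        by_contra hgt
        have := Nat.pow_le_pow_right (show 0 < 3 by norm_num) (show 3 ≤ i by omega)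
        omega
      refine ⟨3 ^ (2 - i), ?_⟩
      refine Nat.eq_of_mul_eq_mul_left (show 0 < 3 ^ i by positivity) ?_
      rw [hmul, ← pow_add, ← pow_add]
      congr 1
      omega
  -- comparison on `H`
  let χ : H →* Multiplicative (ZMod 3) := V.comp H.subtype / ϕ
  have hχ : ∀ n : H, χ n = 1 → V n = ϕ n := fun n h => div_eq_one.mp h
  let kill : W → Prop := fun w => ∀ n : H, wv n = w → χ n = 1
  have kmul : ∀ a b : H, ∀ v w, wv a = v → wv b = w → χ a = 1 → χ b = 1 → kill (v * w) := by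
    rintro a b _ _ rfl rfl ha hb n hn
    rw [hwv_inj n (a * b) (hn.trans (hwv_mul a b).symm), map_mul, ha, hb, one_mul]
  have hχ3 : ∀ n : H, χ n ^ 3 = 1 := fun n => hexp _
  obtain ⟨a, ha⟩ := mk h₀ (Or.inl negs_consts.2.2.1) mu_h.2.2.2.2.2.2.2.1
    mu_h.2.2.2.2.2.2.2.2.2.2.1
  obtain ⟨b, hb⟩ := mk h₁ (Or.inl negs_consts.2.2.2.1) mu_h.2.2.2.2.2.2.2.2.1
    mu_h.2.2.2.2.2.2.2.2.2.2.2.1
  obtain ⟨s, hs⟩ := mk σ₀ (Or.inl negs_consts.2.1) mu_h.2.2.2.2.2.2.2.2.2.1
    mu_h.2.2.2.2.2.2.2.2.2.2.2.2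
  have hxa : χ a = 1 := div_eq_one.mpr (nine a (ha ▸ negs_consts.2.2.1) (by rw [ha]; exact mu_h.2.2.2.1))
  have hxb : χ b = 1 := div_eq_one.mpr
    (nine b (hb ▸ negs_consts.2.2.2.1) (by rw [hb]; exact mu_h.2.2.2.2.1))
  have hxs : χ s = 1 := by
    have e : s = b * a⁻¹ := by
      rw [eq_mul_inv_iff_mul_eq]
      refine hwv_inj _ _ ?_
      rw [hwv_mul, hs, ha, hb, h₀, h₁, mul_assoc]
    rw [e, map_mul, map_inv, hxa, hxb, inv_one, mul_one]
  have hc : ∀ i, ∃ n : H, wv n = c₀ i ∧ χ n = 1 := by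
    have hc0 : wv (s⁻¹ * a) = c₀ 0 := by
      have h1 : wv s * wv (s⁻¹ * a) = h₀ := by rw [← hwv_mul, mul_inv_cancel_left, ha]
      rw [hs, h₀] at h1
      exact mul_left_cancel h1
    have hc0χ : χ (s⁻¹ * a) = 1 := by rw [map_mul, map_inv, hxs, hxa, inv_one, mul_one]
    have hconj : ∀ t : H, ∀ v, wv t = v → χ t = 1 →
        ∃ n : H, wv n = v * c₀ 0 * v⁻¹ ∧ χ n = 1 := fun t v ht htχ =>
      ⟨t * (s⁻¹ * a) * t⁻¹, by
        rw [hwv_mul, hwv_mul, hc0, ht, (hwv t⁻¹).unique (ht ▸ (hwv t).inv)],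
        by rw [map_mul, map_mul, map_inv, htχ, hc0χ, one_mul, inv_one, one_mul]⟩
    have h' := hconj s⁻¹ σ₀⁻¹ ((hwv s⁻¹).unique (hs ▸ (hwv s).inv))
      (by rw [map_inv, hxs, inv_one])
    rw [inv_inv] at h'
    have h'' := hconj s σ₀ hs hxs
    intro i
    fin_cases i
    · exact ⟨_, hc0, hc0χ⟩
    · rcases conj_c₀ with ⟨e, -⟩ | ⟨-, e⟩
      · exact e ▸ h''
      · exact e ▸ h'
    · rcases conj_c₀ with ⟨-, e⟩ | ⟨e, -⟩
      · exact e ▸ h'
      · exact e ▸ h''
  have hInJ : ∀ n : H, InJ (wv n) → χ n = 1 := by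
    intro n hn
    have e : (⟨(wv n).left, 1⟩ : W) = wv n := SemidirectProduct.ext rfl hn.1.symm
    obtain ⟨a₀, ha₀, ha₀'⟩ := hc 0
    obtain ⟨a₁, ha₁, ha₁'⟩ := hc 1
    obtain ⟨a₂, ha₂, ha₂'⟩ := hc 2
    have hpow : ∀ (m : H) (i : ℕ), wv (m ^ i) = wv m ^ i := fun m i =>
      (hwv (m ^ i)).unique ((hwv m).pow i)
    have key := inJ_word (wv n).left hn.2
    rw [e, ← ha₀, ← ha₁, ← ha₂, ← hpow, ← hpow, ← hpow, ← hwv_mul, ← hwv_mul] at key
    rw [hwv_inj _ _ key, map_mul, map_mul, map_pow, map_pow, map_pow, ha₀', ha₁', ha₂', one_pow,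
      one_pow, one_pow, one_mul, one_mul]
  have hinvol : ∀ n : H, wv n * wv n = 1 → χ n = 1 := by
    intro n hn
    have e : n * n = 1 := hwv_inj _ _ (by rw [hwv_mul, hn, (hwv 1).unique F.rel_one])
    have e2 : χ n ^ 2 = 1 := by rw [pow_two, ← map_mul, e, map_one]
    have e3 := hχ3 n
    rwa [pow_succ, e2, one_mul] at e3
  have hall : ∀ n : H, χ n = 1 := by
    intro n
    obtain ⟨hp, hd⟩ := hsign n
    have hleft : ∀ m : H, (wv m).right = 1 → χ m = 1 := by
      intro m hm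
      obtain ⟨-, hdm⟩ := hsign m
      have hd' : (-1 : ℤˣ) ^ negs (wv m) = 1 := hdm
      rcases negs_range (wv m) with h | h | h | h
      · exact hInJ m (inJ_of_negs _ hm h)
      · rw [h] at hd'; exact absurd hd' (by decide)
      · obtain ⟨v, hv, hcase⟩ := mem_four _ hm h
        obtain ⟨j, -, hj⟩ := F.exists_rel_plus hv
        obtain ⟨hp1, hd1, -⟩ := mu_of_inJ (⟨v, 1⟩ : W) ⟨rfl, hv⟩
        obtain ⟨t, ht⟩ := mk _ hj.mem_set hp1 hd1
        have htχ : χ t = 1 := hInJ t (ht ▸ ⟨rfl, hv⟩)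
        have key : ∀ e : W, e * e = 1 → wv m = (⟨v, 1⟩ : W) * e → χ m = 1 := by
          intro e he hme
          have hr : wv (t⁻¹ * m) = e := by
            rw [hwv_mul, (hwv t⁻¹).unique (ht ▸ (hwv t).inv), hme, inv_mul_cancel_left]
          have := hinvol (t⁻¹ * m) (by rw [hr, he])
          rwa [map_mul, map_inv, htχ, inv_one, one_mul] at this
        rcases hcase with e | e | e
        · exact key _ e₀_prod.2.1 e
        · exact key _ e₀_conj.1 e
        · exact key _ e₀_conj.2 e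
      · rw [h] at hd'; exact absurd hd' (by decide)
    obtain ⟨hdl, hnl⟩ := left_word (wv n) hp hd
    have hml : Mem F.bz F.be (⟨(wv n).left, 1⟩ : W) := by
      have hm := (hwv n).mem_set
      unfold Mem at hm ⊢
      rwa [hnl]
    obtain ⟨m, hm⟩ := mk _ hml (by show Equiv.Perm.sign (1 : Equiv.Perm (Fin 3)) = 1; exact map_one _) hdl
    have hmχ := hleft m (by rw [hm])
    have hpow : wv s * wv s = σ₀ * σ₀ := by rw [hs]
    rcases right_word (wv n) hp with e | e | e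
    · rw [pow_zero, mul_one, ← hm] at e
      rw [hwv_inj _ _ e, hmχ]
    · rw [← hm, ← hs, ← hwv_mul] at e
      rw [hwv_inj _ _ e, map_mul, hmχ, hxs, one_mul]
    · rw [← hm, ← hpow, ← hwv_mul, ← hwv_mul] at e
      rw [hwv_inj _ _ e, map_mul, map_mul, hmχ, hxs, one_mul, one_mul]
  refine ⟨V, fun k w hkw => ?_⟩
  have hkH : k ∈ H := mem_subgroupOf.mpr hkw.1
  rw [show V k = ϕ ⟨k, hkH⟩ from hχ ⟨k, hkH⟩ (hall _)]
  show muFun (wv ⟨k, hkH⟩) = 1 ↔ _
  rw [(hwv ⟨k, hkH⟩).unique hkw]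
  refine ⟨right_of_mu w ((mem_K_iff hloc hkw).mp k.2).1, fun hr => ?_⟩
  show Multiplicative.ofAdd ((w.right 0 : Fin 3) : ZMod 3) = 1
  rw [hr]
  rfl

end Frame

end CfsgLib.Recog.SymNine.Local
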