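import Cfsg.Agent.Lib.Recog.SymNine.Local.Model

/-!
Finite facts about subgroups of the monomial group `S₃ ≀ S₃` that contain all elements without
reflections.
-/

set_option autoImplicit false

namespace CfsgLib.Recog.SymNine.Local

open CfsgLib.Block.ThreeCube

/-- `(1, -1, 0)` -/
def d₀ : W := ⟨(.r 1, .r 2, .r 0), 1⟩
/-- an element of order nine over `σ₀` -/
def h₀ : W := σ₀ * c₀ 0
/-- an element of order nine over `σ₀²` -/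
def h₁ : W := σ₀ * σ₀ * c₀ 0
/-- the two first components translated -/
def a₀ : W := c₀ 0 * c₀ 1

theorem negs_of_inJ : ∀ w : W, InJ w → negs w = 0 := by decide +kernel

theorem negs_consts : negs τ₀ = 0 ∧ negs σ₀ = 0 ∧ negs h₀ = 0 ∧ negs h₁ = 0 ∧ negs x₀ = 0 ∧
    negs d₀ = 0 ∧ negs a₀ = 0 ∧ (∀ i, negs (c₀ i) = 0) := by decide +kernel

theorem mem_zero : ∀ bz be, ∀ w : W, negs w = 0 → Mem bz be w := fun _ _ _ h => Or.inl h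

theorem norm_two : ∀ w : W, negs w = 2 → negs (w⁻¹ * e₀) = 0 ∨
    negs (w⁻¹ * (σ₀ * e₀ * σ₀⁻¹)) = 0 ∨ negs (w⁻¹ * (σ₀⁻¹ * e₀ * σ₀)) = 0 := by decide +kernel

theorem norm_three : ∀ w : W, negs w = 3 → negs (w⁻¹ * z₀) = 0 := by decide +kernel

theorem norm_right : ∀ w : W, negs (⟨1, w.right⁻¹⟩ : W) = 0 ∧
    negs (w * ⟨1, w.right⁻¹⟩) = negs w ∧ (w * ⟨1, w.right⁻¹⟩).right = 1 := by
  decide +kernel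

theorem norm_one : ∀ w : W, negs w = 1 → w.right = 1 →
    negs (w * σ₀ * w * σ₀⁻¹) = 2 ∧
      negs (w * σ₀ * w * σ₀ * w * (σ₀⁻¹ * σ₀⁻¹)) = 3 := by decide +kernel

theorem norm_one' : ∀ w : W, negs w = 1 → negs (w⁻¹ * (e₀ * z₀)) = 0 ∨
    negs (w⁻¹ * (σ₀ * (e₀ * z₀) * σ₀⁻¹)) = 0 ∨
    negs (w⁻¹ * (σ₀⁻¹ * (e₀ * z₀) * σ₀)) = 0 := by decide +kernel

theorem negs_range : ∀ w : W, negs w = 0 ∨ negs w = 1 ∨ negs w = 2 ∨ negs w = 3 := by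
  decide +kernel

theorem inJ_of_right : ∀ w : W, w.right = 1 → w ^ 9 = 1 → InJ w := by decide +kernel

theorem right_cube : ∀ w : W, w ^ 9 = 1 → InJ (w * w * w) := by decide +kernel

theorem ninth_of_plus : ∀ w : W, negs w = 0 → sgnPerm w = 1 → w ^ 9 = 1 := by decide +kernel

theorem card_rot : (Finset.univ.filter fun w : W => negs w = 0 ∧ sgnPerm w = 1).card = 81 := by
  decide +kernel

theorem rot_comm : ∀ w : W, negs w = 0 → w * x₀ = x₀ * w := by decide +kernel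

theorem x₀_facts : InJ x₀ ∧ x₀ ≠ 1 ∧ InJ d₀ ∧ d₀ ≠ 1 := by decide +kernel

/-! ### the centraliser of `τ₀` -/

theorem τ₀_facts : τ₀ ≠ 1 ∧ τ₀ * τ₀ = 1 ∧ sgnPerm τ₀ = -1 ∧ sgnProd τ₀ = 1 ∧ ¬ InJ τ₀ := by
  decide +kernel

theorem card_U : (Finset.univ.filter fun w : W => InJ w ∧ w * τ₀ = τ₀ * w).card = 9 := by
  decide +kernel

theorem self_τ₀ : ∀ w : W, w * τ₀ = τ₀ * w →
    InJ w ∨ InJ (w * τ₀) ∨ ∃ v : Tri, Plus v ∧ (⟨v, 1⟩ : W) * τ₀ = τ₀ * ⟨v, 1⟩ ∧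
      (⟨v, 1⟩ : W) * w ≠ w * ⟨v, 1⟩ := by
  decide +kernel

theorem two_case : ∀ w : W, Mem true false w → w * τ₀ = τ₀ * w →
    InJ w ∨ InJ (w * τ₀) ∨ ∀ v : Tri, Plus v → (⟨v, 1⟩ : W) * τ₀ = τ₀ * ⟨v, 1⟩ →
      w * ⟨v, 1⟩ = (⟨v, 1⟩ : W)⁻¹ * w := by
  decide +kernel

theorem klein_case : ∀ w : W, w * τ₀ = τ₀ * w → InJ (w * w) ∨ InJ (w * w * τ₀) := by
  decide +kernel

/-- the rotation part of the third component -/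
def rot2 (w : W) : ZMod 3 :=
  match w.left.2.2 with
  | .r i => i
  | .sr i => i

theorem rot2_hom : ∀ be, ∀ v : W, Mem false be v → v * τ₀ = τ₀ * v →
    ∀ w : W, Mem false be w → w * τ₀ = τ₀ * w → rot2 (v * w) = rot2 v + rot2 w := by
  decide +kernel

theorem refl_facts : rot2 (c₀ 2) ≠ 0 ∧ rot2 a₀ = 0 ∧ InJ (c₀ 2) ∧ InJ a₀ ∧ a₀ ≠ 1 ∧
    c₀ 2 * τ₀ = τ₀ * c₀ 2 ∧ a₀ * τ₀ = τ₀ * a₀ := by
  decide +kernel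

theorem refl_fix : ∀ be, ∀ w : W, Mem false be w → w * τ₀ = τ₀ * w → rot2 w = 0 →
    w * a₀ = a₀ * w → InJ w ∨ InJ (w * τ₀) := by
  decide +kernel

/-! ### fusion, `z₀` -/

theorem no_three : ∀ be, ∀ w : W, Mem false be w → ¬ (w.right = 1 ∧ negs w = 3) := by
  decide +kernel

theorem no_three' : ∀ w : W, Mem false true w → ¬ (w.right = 1 ∧ negs w = 3) := by
  decide +kernel

theorem invol_klein : ∀ w : W, Mem true false w → w * τ₀ = τ₀ * w → w * w = 1 → w ≠ 1 →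
    w = τ₀ ∨ ∃ v : Tri, Plus v ∧ (⟨v, 1⟩ : W) * τ₀ = τ₀ * ⟨v, 1⟩ ∧
      (w * ⟨v, 1⟩ = (⟨v, 1⟩ : W) * z₀ ∨ w * ⟨v, 1⟩ = (⟨v, 1⟩ : W) * (τ₀ * z₀)) := by
  decide +kernel

theorem cent_T : ∀ w : W, Mem true false w → w * τ₀ = τ₀ * w → w * z₀ = z₀ * w →
    w = 1 ∨ w = τ₀ ∨ w = z₀ ∨ w = τ₀ * z₀ := by
  decide +kernel

theorem norm_d₀ : ∀ w : W, Mem true false w → w * (τ₀ * z₀) = τ₀ * z₀ * w →
    sgnPerm w * sgnProd w = 1 → (w * d₀ = d₀ * w ∨ w * d₀ = d₀⁻¹ * w) →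
    (w = 1 ∨ w = d₀ ∨ w = d₀⁻¹) ∨
      (w * (τ₀ * z₀) = 1 ∨ w * (τ₀ * z₀) = d₀ ∨ w * (τ₀ * z₀) = d₀⁻¹) := by
  decide +kernel

theorem tz_facts : τ₀ * z₀ ≠ 1 ∧ τ₀ * z₀ * (τ₀ * z₀) = 1 ∧ z₀ * τ₀ = τ₀ * z₀ ∧
    τ₀ * d₀ * τ₀ = d₀⁻¹ ∧ d₀ * (τ₀ * z₀) = τ₀ * z₀ * d₀ ∧ sgnPerm (τ₀ * z₀) = -1 ∧
    sgnProd (τ₀ * z₀) = -1 ∧ negs z₀ = 3 ∧ z₀.right = 1 ∧ z₀ ≠ 1 ∧ z₀ * z₀ = 1 ∧
    sgnPerm z₀ = 1 ∧ sgnProd z₀ = -1 ∧ z₀ ≠ τ₀ ∧ τ₀ * z₀ ≠ τ₀ ∧ τ₀ * z₀ ≠ z₀ := by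
  decide +kernel

/-- an involution `(1,-1,0)`-inverting transposition with all signs negative fixes no translation
fixed by `τ₀` -/
theorem no_common : ∀ w : W, Mem true false w → w.right ≠ 1 → sgnProd w = -1 → w * w = 1 →
    ∀ v : Tri, Plus v → v ≠ 1 → (⟨v, 1⟩ : W) * τ₀ = τ₀ * ⟨v, 1⟩ →
      w * ⟨v, 1⟩ ≠ (⟨v, 1⟩ : W) * w := by
  decide +kernel

/-! ### the kernel -/

theorem e₀_prod : σ₀ * e₀ * σ₀⁻¹ * (σ₀⁻¹ * e₀ * σ₀) = e₀ ∧ e₀ * e₀ = 1 ∧ negs e₀ = 2 := by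
  decide +kernel

theorem kill_τ₀ : ∀ w : W, sgnPerm w = -1 →
    sgnPerm (w * τ₀) = 1 ∧ sgnProd (w * τ₀) = sgnProd w := by
  decide +kernel

theorem kill_z₀ : ∀ w : W, sgnPerm w = 1 → sgnProd w = -1 →
    sgnPerm (w * z₀) = 1 ∧ sgnProd (w * z₀) = 1 ∧ (negs w = 1 ∨ negs w = 3) := by
  decide +kernel

/-- the image of the first component under the permutation part -/
def muFun (w : W) : Multiplicative (ZMod 3) := Multiplicative.ofAdd (w.right 0 : ZMod 3)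

theorem muFun_perm : ∀ p q : Equiv.Perm (Fin 3), Equiv.Perm.sign p = 1 → Equiv.Perm.sign q = 1 →
    ((p * q) 0 : ZMod 3) = (p 0 : ZMod 3) + (q 0 : ZMod 3) := by
  decide +kernel

theorem mu_h : muFun h₀ ≠ 1 ∧ muFun h₁ = muFun h₀ * muFun h₀ ∧ muFun σ₀ = muFun h₀ ∧
    h₀ * h₀ * h₀ = x₀ ∧ h₁ * h₁ * h₁ = x₀ ∧ h₀ ^ 9 = 1 ∧ h₁ ^ 9 = 1 ∧
    sgnPerm h₀ = 1 ∧ sgnPerm h₁ = 1 ∧ sgnPerm σ₀ = 1 ∧ sgnProd h₀ = 1 ∧ sgnProd h₁ = 1 ∧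
    sgnProd σ₀ = 1 := by
  decide +kernel

theorem conj_c₀ : (c₀ 1 = σ₀ * c₀ 0 * σ₀⁻¹ ∧ c₀ 2 = σ₀⁻¹ * c₀ 0 * σ₀) ∨
    (c₀ 2 = σ₀ * c₀ 0 * σ₀⁻¹ ∧ c₀ 1 = σ₀⁻¹ * c₀ 0 * σ₀) := by
  decide +kernel

theorem cube_c₀ : σ₀ * σ₀ * σ₀ = 1 ∧ c₀ 0 * c₀ 0 * c₀ 0 = 1 := by decide +kernel

theorem inJ_word : ∀ v : Tri, Plus v → (⟨v, 1⟩ : W) =
    c₀ 0 ^ (ridx v.1).val * c₀ 1 ^ (ridx v.2.1).val * c₀ 2 ^ (ridx v.2.2).val := by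
  decide +kernel

theorem right_word : ∀ w : W, sgnPerm w = 1 →
    w = ⟨w.left, 1⟩ * σ₀ ^ 0 ∨ w = ⟨w.left, 1⟩ * σ₀ ∨ w = ⟨w.left, 1⟩ * (σ₀ * σ₀) := by
  decide +kernel

theorem evn_of_mem : ∀ w : W, w.right = 1 → sgnProd w = 1 → Evn w.left := by decide +kernel

theorem mem_of_evn : ∀ a : Tri, Evn a → ∀ bz, Mem bz true (⟨a, 1⟩ : W) ∧
    sgnProd (⟨a, 1⟩ : W) = 1 ∧ sgnPerm (⟨a, 1⟩ : W) = 1 ∧ muFun (⟨a, 1⟩ : W) = 1 := by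
  decide +kernel

theorem inJ_of_mem : ∀ bz, ∀ w : W, Mem bz false w → w.right = 1 → sgnProd w = 1 → InJ w := by
  decide +kernel

theorem right_of_mu : ∀ w : W, sgnPerm w = 1 → muFun w = 1 → w.right = 1 := by decide +kernel

end CfsgLib.Recog.SymNine.Local
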