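import Cfsg.Agent.Lib.Recog.SymNine.Local.FactsTwist

/-!
Finite facts for the kernels of the transfers.
-/

set_option autoImplicit false

namespace CfsgLib.Recog.SymNine.Local

open CfsgLib.Block.ThreeCube

/-- the four group of `τ₀` and `z₀` -/
def Four (w : W) : Prop := w = 1 ∨ w = τ₀ ∨ w = z₀ ∨ w = τ₀ * z₀

instance : DecidablePred Four := fun w => inferInstanceAs (Decidable (_ ∨ _))

theorem four_closed : ∀ v : W, Four v → v * v = 1 ∧ v⁻¹ = v ∧ v * z₀ = z₀ * v ∧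
    ∀ w : W, Four w → Four (v * w) := by
  decide +kernel

theorem four_consts : Four 1 ∧ Four τ₀ ∧ Four z₀ := by decide +kernel

theorem mu_of_inJ : ∀ w : W, InJ w → sgnPerm w = 1 ∧ sgnProd w = 1 ∧ muFun w = 1 := by
  decide +kernel

theorem h₀_not : ¬ InJ h₀ ∧ ¬ InJ h₁ := by decide +kernel

theorem two_e₀ : ∀ bz be, Mem bz be e₀ → be = true := by decide +kernel

theorem left_word : ∀ w : W, sgnPerm w = 1 → sgnProd w = 1 →
    sgnProd (⟨w.left, 1⟩ : W) = 1 ∧ negs (⟨w.left, 1⟩ : W) = negs w := by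
  decide +kernel

theorem inJ_of_negs : ∀ w : W, w.right = 1 → negs w = 0 → InJ w := by decide +kernel

theorem e₀_conj : (σ₀ * e₀ * σ₀⁻¹) * (σ₀ * e₀ * σ₀⁻¹) = 1 ∧
    (σ₀⁻¹ * e₀ * σ₀) * (σ₀⁻¹ * e₀ * σ₀) = 1 := by
  decide +kernel

end CfsgLib.Recog.SymNine.Local
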