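import Cfsg.Agent.Lib.Recog.SymNine.Local.Facts

/-!
Finite facts for the exclusion of the fusion of `τ₀` with `z₀`.
-/

set_option autoImplicit false

namespace CfsgLib.Recog.SymNine.Local

open CfsgLib.Block.ThreeCube

/-- the cyclic group of order six generated by `d₀` and `τ₀ z₀` -/
def Six (w : W) : Prop :=
  w = 1 ∨ w = d₀ ∨ w = d₀⁻¹ ∨ w * (τ₀ * z₀) = 1 ∨ w * (τ₀ * z₀) = d₀ ∨ w * (τ₀ * z₀) = d₀⁻¹

instance : DecidablePred Six := fun w => inferInstanceAs (Decidable (_ ∨ _))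

/-- the exponent of `d₀` in `Six` -/
def dval (w : W) : ZMod 3 :=
  if w = d₀ ∨ w * (τ₀ * z₀) = d₀ then 1
  else if w = d₀⁻¹ ∨ w * (τ₀ * z₀) = d₀⁻¹ then 2 else 0

theorem six_hom : ∀ v : W, Six v → ∀ w : W, Six w → dval (v * w) = dval v + dval w := by
  decide +kernel

theorem six_facts : ∀ w : W, Six w → (w * w * w = 1 → InJ w) ∧ w * d₀ = d₀ * w ∧
    (dval w = 0 → w = 1 ∨ w = τ₀ * z₀) := by
  decide +kernel

theorem six_consts : Six d₀ ∧ Six (τ₀ * z₀) ∧ dval d₀ = 1 ∧ dval (τ₀ * z₀) = 0 ∧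
    d₀ * d₀ * d₀ = 1 ∧ d₀ ≠ d₀⁻¹ := by
  decide +kernel

theorem six_of_comm : ∀ w : W, Mem true false w → w * (τ₀ * z₀) = τ₀ * z₀ * w →
    sgnPerm w * sgnProd w = 1 → Six w := by
  decide +kernel

theorem conj_tz_inj : ∀ v : Tri, Plus v → (⟨v, 1⟩ : W) * τ₀ = τ₀ * ⟨v, 1⟩ →
    ∀ v' : Tri, Plus v' → (⟨v', 1⟩ : W) * τ₀ = τ₀ * ⟨v', 1⟩ →
    (⟨v, 1⟩ : W) * (τ₀ * z₀) * (⟨v, 1⟩ : W)⁻¹ = (⟨v', 1⟩ : W) * (τ₀ * z₀) * (⟨v', 1⟩ : W)⁻¹ →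
    v = v' := by
  decide +kernel

theorem z₀_inverts : ∀ v : Tri, Plus v → z₀ * ⟨v, 1⟩ = (⟨v, 1⟩ : W)⁻¹ * z₀ := by decide +kernel

theorem rot_centre : ∀ w : W, w * h₀ = h₀ * w → w * c₀ 0 = c₀ 0 * w → InJ w := by decide +kernel

theorem negs_of_comm_x₀ : ∀ w : W, w * x₀ = x₀ * w → negs w = 0 := by decide +kernel

theorem rot_facts : sgnPerm (c₀ 0) = 1 ∧ sgnPerm x₀ = 1 ∧ (Fintype.card W = 1296) := by
  decide +kernel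

end CfsgLib.Recog.SymNine.Local
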