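import Cfsg.Agent.Lib.Recog.SymNine.Local.Facts

/-!
A subgroup `J` whose normaliser embeds in `S₃ ≀ S₃`, the translations going to `J` and every
element without reflections being hit.
-/

set_option autoImplicit false

namespace CfsgLib.Recog.SymNine.Local

open Subgroup CfsgLib.Block.ThreeCube

/-- The standing data: the normaliser of `J` inside the monomial group. -/
structure Frame (G : Type*) [Group G] where
  /-- the subgroup of order 27 -/
  J : Subgroup G
  /-- the action of the normaliser -/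
  ι : ↥(normalizer (J : Set G)) →* W
  inj : Function.Injective ι
  mem_J : ∀ g : ↥(normalizer (J : Set G)), (g : G) ∈ J ↔ InJ (ι g)
  lift : ∀ w : W, negs w = 0 → ∃ g, ι g = w

variable {G : Type*} [Group G]

namespace Frame

/-- the normaliser -/
abbrev N (F : Frame G) : Subgroup G := normalizer (F.J : Set G)

/-- the centralisers of the nontrivial elements of `J` lie in the normaliser -/
def Loc (F : Frame G) : Prop := ∀ j ∈ F.J, j ≠ 1 → centralizer ({j} : Set G) ≤ F.N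

/-- `g` normalises `J` and has image `w` -/
def Rel (F : Frame G) (g : G) (w : W) : Prop := ∃ hg : g ∈ F.N, F.ι ⟨g, hg⟩ = w

variable {F : Frame G}

theorem Rel.mem {g : G} {w : W} (h : F.Rel g w) : g ∈ F.N := h.1

theorem rel_of_mem {g : G} (hg : g ∈ F.N) : ∃ w, F.Rel g w := ⟨_, hg, rfl⟩

theorem Rel.mul {g h : G} {v w : W} (hg : F.Rel g v) (hh : F.Rel h w) :
    F.Rel (g * h) (v * w) := by
  obtain ⟨a, rfl⟩ := hg
  obtain ⟨b, rfl⟩ := hh
  exact ⟨mul_mem a b, map_mul F.ι ⟨g, a⟩ ⟨h, b⟩⟩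

theorem Rel.inv {g : G} {v : W} (hg : F.Rel g v) : F.Rel g⁻¹ v⁻¹ := by
  obtain ⟨a, rfl⟩ := hg
  exact ⟨inv_mem a, map_inv F.ι ⟨g, a⟩⟩

theorem rel_one (F : Frame G) : F.Rel 1 1 := ⟨one_mem _, map_one F.ι⟩

theorem Rel.pow {g : G} {v : W} (hg : F.Rel g v) : ∀ n : ℕ, F.Rel (g ^ n) (v ^ n)
  | 0 => by rw [pow_zero, pow_zero]; exact F.rel_one
  | n + 1 => by rw [pow_succ, pow_succ]; exact (Rel.pow hg n).mul hg

theorem Rel.unique {g : G} {v w : W} (hv : F.Rel g v) (hw : F.Rel g w) : v = w := by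
  obtain ⟨_, rfl⟩ := hv
  obtain ⟨_, rfl⟩ := hw
  rfl

theorem Rel.eq {g h : G} {w : W} (hg : F.Rel g w) (hh : F.Rel h w) : g = h := by
  obtain ⟨a, ha⟩ := hg
  obtain ⟨b, hb⟩ := hh
  exact congrArg Subtype.val (F.inj (ha.trans hb.symm))

theorem Rel.eq_iff {g h : G} {v w : W} (hg : F.Rel g v) (hh : F.Rel h w) : g = h ↔ v = w :=
  ⟨fun e => hg.unique (e ▸ hh), fun e => hg.eq (e ▸ hh)⟩

theorem Rel.eq_one_iff {g : G} {v : W} (hg : F.Rel g v) : g = 1 ↔ v = 1 := hg.eq_iff F.rel_one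

theorem Rel.comm_iff {g h : G} {v w : W} (hg : F.Rel g v) (hh : F.Rel h w) :
    g * h = h * g ↔ v * w = w * v := (hg.mul hh).eq_iff (hh.mul hg)

theorem Rel.inJ_iff {g : G} {w : W} (hg : F.Rel g w) : g ∈ F.J ↔ InJ w := by
  obtain ⟨a, rfl⟩ := hg
  exact F.mem_J ⟨g, a⟩

theorem rel_of_J {g : G} (hg : g ∈ F.J) : ∃ v : Tri, Plus v ∧ F.Rel g ⟨v, 1⟩ := by
  obtain ⟨w, hw⟩ := F.rel_of_mem (le_normalizer hg)
  have h := hw.inJ_iff.mp hg
  refine ⟨w.left, h.2, ?_⟩
  rwa [show (⟨w.left, 1⟩ : W) = w from SemidirectProduct.ext rfl h.1.symm]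

theorem exists_rel_zero (F : Frame G) {w : W} (hw : negs w = 0) : ∃ g, F.Rel g w := by
  obtain ⟨g, hg⟩ := F.lift w hw
  exact ⟨g, g.2, hg⟩

theorem exists_rel_plus (F : Frame G) {v : Tri} (hv : Plus v) :
    ∃ g ∈ F.J, F.Rel g ⟨v, 1⟩ := by
  have hw : InJ (⟨v, 1⟩ : W) := ⟨rfl, hv⟩
  obtain ⟨g, hg⟩ := F.exists_rel_zero (negs_of_inJ _ hw)
  exact ⟨g, hg.inJ_iff.mpr hw, hg⟩

open scoped Classical in
/-- is `z₀` an image -/
noncomputable def bz (F : Frame G) : Bool := decide (z₀ ∈ F.ι.range)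

open scoped Classical in
/-- is `e₀` an image -/
noncomputable def be (F : Frame G) : Bool := decide (e₀ ∈ F.ι.range)

theorem bz_iff (F : Frame G) : F.bz = true ↔ z₀ ∈ F.ι.range := by
  classical exact decide_eq_true_iff

theorem be_iff (F : Frame G) : F.be = true ↔ e₀ ∈ F.ι.range := by
  classical exact decide_eq_true_iff

theorem mem_range_iff_of_zero (F : Frame G) {w c : W} (h : negs (w⁻¹ * c) = 0) :
    w ∈ F.ι.range ↔ c ∈ F.ι.range := by
  have hz : w⁻¹ * c ∈ F.ι.range := F.lift _ h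
  refine ⟨fun hw => ?_, fun hc => ?_⟩
  · have := mul_mem hw hz
    rwa [mul_inv_cancel_left] at this
  · have := mul_mem hc (inv_mem hz)
    rwa [mul_inv_rev, inv_inv, mul_inv_cancel_left] at this

theorem conj_range_iff (F : Frame G) {s c : W} (hs : s ∈ F.ι.range) :
    s * c * s⁻¹ ∈ F.ι.range ↔ c ∈ F.ι.range := by
  refine ⟨fun h => ?_, fun h => mul_mem (mul_mem hs h) (inv_mem hs)⟩
  have := mul_mem (mul_mem (inv_mem hs) h) hs
  rwa [show s⁻¹ * (s * c * s⁻¹) * s = c by group] at this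

theorem range_two (F : Frame G) {w : W} (h : negs w = 2) : w ∈ F.ι.range ↔ e₀ ∈ F.ι.range := by
  have hs : σ₀ ∈ F.ι.range := F.lift _ negs_consts.2.1
  rcases norm_two w h with e | e | e
  · exact F.mem_range_iff_of_zero e
  · exact (F.mem_range_iff_of_zero e).trans (F.conj_range_iff hs)
  · refine (F.mem_range_iff_of_zero e).trans ?_
    have := F.conj_range_iff (c := e₀) (inv_mem hs)
    rwa [inv_inv] at this

theorem range_three (F : Frame G) {w : W} (h : negs w = 3) : w ∈ F.ι.range ↔ z₀ ∈ F.ι.range :=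
  F.mem_range_iff_of_zero (norm_three w h)

theorem mem_range_iff (F : Frame G) (w : W) : w ∈ F.ι.range ↔ Mem F.bz F.be w := by
  have hs : σ₀ ∈ F.ι.range := F.lift _ negs_consts.2.1
  unfold Mem
  rcases negs_range w with h | h | h | h
  · exact iff_of_true (F.lift _ h) (Or.inl h)
  · simp only [h, F.be_iff, F.bz_iff]
    constructor
    · intro hw
      obtain ⟨hp, hn, hr⟩ := norm_right w
      have hw' : w * ⟨1, w.right⁻¹⟩ ∈ F.ι.range := mul_mem hw (F.lift _ hp)
      obtain ⟨h2, h3⟩ := norm_one _ (hn.trans h) hr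
      refine Or.inr (Or.inr (Or.inr ⟨trivial, (F.range_two h2).mp ?_, (F.range_three h3).mp ?_⟩))
      · exact mul_mem (mul_mem (mul_mem hw' hs) hw') (inv_mem hs)
      · exact mul_mem (mul_mem (mul_mem (mul_mem (mul_mem hw' hs) hw') hs) hw')
          (mul_mem (inv_mem hs) (inv_mem hs))
    · rintro (h' | ⟨h', -⟩ | ⟨h', -⟩ | ⟨-, he, hz⟩)
      · omega
      · omega
      · omega
      · rcases norm_one' w h with e | e | e
        · exact (F.mem_range_iff_of_zero e).mpr (mul_mem he hz)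
        · exact (F.mem_range_iff_of_zero e).mpr ((F.conj_range_iff hs).mpr (mul_mem he hz))
        · refine (F.mem_range_iff_of_zero e).mpr ?_
          exact mul_mem (mul_mem (inv_mem hs) (mul_mem he hz)) hs
  · simp only [h, F.range_two h, F.be_iff]; simp
  · simp only [h, F.range_three h, F.bz_iff]; simp

theorem Rel.mem_set {g : G} {w : W} (hg : F.Rel g w) : Mem F.bz F.be w :=
  (F.mem_range_iff w).mp ⟨⟨g, hg.1⟩, hg.2⟩

theorem exists_rel (F : Frame G) {w : W} (hw : Mem F.bz F.be w) : ∃ g, F.Rel g w := by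
  obtain ⟨g, hg⟩ := (F.mem_range_iff w).mpr hw
  exact ⟨g, g.2, hg⟩

theorem card_eq_filter {P : W → Prop} [DecidablePred P] (A : Subgroup G) (hA : A ≤ F.N)
    (h : ∀ g w, F.Rel g w → (g ∈ A ↔ P w)) (hP : ∀ w, P w → Mem F.bz F.be w) :
    Nat.card A = (Finset.univ.filter P).card := by
  rw [← Fintype.card_subtype, ← Nat.card_eq_fintype_card]
  refine Nat.card_congr (Equiv.ofBijective (fun a : A =>
    (⟨F.ι ⟨a, hA a.2⟩, (h a _ ⟨hA a.2, rfl⟩).mp a.2⟩ : {w : W // P w})) ⟨?_, ?_⟩)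
  · exact fun a b e => Subtype.ext (congrArg (fun n : F.N => (n : G)) (F.inj (congrArg Subtype.val e)))
  · rintro ⟨w, hw⟩
    obtain ⟨g, hg⟩ := F.exists_rel (hP w hw)
    exact ⟨⟨g, (h g w hg).mpr hw⟩, Subtype.ext hg.2⟩

theorem card_J (F : Frame G) : Nat.card F.J = 27 := by
  rw [← card_inJ]
  exact card_eq_filter _ le_normalizer (fun g w h => h.inJ_iff)
    fun w hw => Or.inl (negs_of_inJ w hw)

theorem J_comm {a b : G} (ha : a ∈ F.J) (hb : b ∈ F.J) : a * b = b * a := by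
  obtain ⟨v, hv, hva⟩ := F.rel_of_J ha
  obtain ⟨v', hv', hvb⟩ := F.rel_of_J hb
  refine (hva.comm_iff hvb).mpr (SemidirectProduct.ext ?_ rfl)
  simpa using plus_comm v v' hv hv'

theorem J_cube {a : G} (ha : a ∈ F.J) : a * a * a = 1 := by
  obtain ⟨w, hw⟩ := F.rel_of_mem (le_normalizer ha)
  exact ((hw.mul hw).mul hw).eq_one_iff.mpr (inJ_cube w (hw.inJ_iff.mp ha))

/-- A group of exponent dividing nine with a central element outside `J` has order at most nine. -/
theorem card_le_nine [Finite G] (A : Subgroup G) (hA : A ≤ F.N) (h9 : ∀ a ∈ A, a ^ 9 = 1) {y : G}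
    (hy : y ∈ A) (hyJ : y ∉ F.J) (hcomm : ∀ a ∈ A, a * y = y * a) : Nat.card A ≤ 9 := by
  classical
  haveI : Fact (Nat.Prime 3) := ⟨Nat.prime_three⟩
  let f : A →* Equiv.Perm (Fin 3) :=
    SemidirectProduct.rightHom.comp (F.ι.comp (Subgroup.inclusion hA))
  obtain ⟨wy, hwy⟩ := F.rel_of_mem (hA hy)
  have hwy9 : wy ^ 9 = 1 := (hwy.pow 9).eq_one_iff.mp (h9 y hy)
  have hsmall := fixed_small wy (fun h => hyJ (hwy.inJ_iff.mpr h)) hwy9
  have hker : Nat.card f.ker ≤ 3 := by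
    refine le_trans ?_ hsmall
    rw [← Fintype.card_subtype, ← Nat.card_eq_fintype_card]
    have key : ∀ a : f.ker, ∃ w : W, F.Rel (a : A) w ∧ InJ w := fun a => by
      obtain ⟨w, hw⟩ := F.rel_of_mem (hA (a : A).2)
      refine ⟨w, hw, inJ_of_right w ?_ ((hw.pow 9).eq_one_iff.mp (h9 _ (a : A).2))⟩
      have : (F.ι ⟨_, hA (a : A).2⟩).right = 1 := MonoidHom.mem_ker.mp a.2
      rwa [hw.unique ⟨hA (a : A).2, rfl⟩]
    choose w hw hwJ using key
    refine Nat.card_le_card_of_injective (fun a => (⟨(w a).left, (hwJ a).2, ?_⟩ :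
      {v : Tri // Plus v ∧ (⟨v, 1⟩ : W) * wy = wy * ⟨v, 1⟩})) ?_
    · have e : (⟨(w a).left, 1⟩ : W) = w a := SemidirectProduct.ext rfl (hwJ a).1.symm
      rw [e]
      exact ((hw a).comm_iff hwy).mp (hcomm _ (a : A).2)
    · intro a b e
      have e' : w a = w b := SemidirectProduct.ext (congrArg Subtype.val e)
        ((hwJ a).1.trans (hwJ b).1.symm)
      exact Subtype.ext (Subtype.ext ((hw a).eq (e' ▸ hw b)))
  have hrange : Nat.card f.range ≤ 3 := by
    have hA3 : IsPGroup 3 A := fun a => ⟨2, Subtype.ext (h9 a a.2)⟩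
    obtain ⟨k, hk⟩ := IsPGroup.iff_card.mp (hA3.of_surjective f.rangeRestrict
      f.rangeRestrict_surjective)
    have hd : Nat.card f.range ∣ 6 := by
      have := card_subgroup_dvd_card f.range
      rw [Nat.card_perm, Nat.card_fin] at this
      simpa [Nat.factorial] using this
    rw [hk] at hd ⊢
    rcases k with _ | _ | k
    · norm_num
    · norm_num
    · exfalso
      have : 9 ∣ 6 := dvd_trans (Dvd.intro_left (3 ^ k) (by ring)) hd
      norm_num at this
  calc Nat.card A = Nat.card f.ker * Nat.card f.range := by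
        rw [← index_ker, card_mul_index]
    _ ≤ 3 * 3 := Nat.mul_le_mul hker hrange

theorem ti [Finite G] (hloc : F.Loc) {g t : G} (ht : t ∈ F.J) (ht1 : t ≠ 1)
    (hg : g * t * g⁻¹ ∈ F.J) : g ∈ F.N := by
  let A := F.J.map (MulAut.conj g).toMonoidHom
  have hcard : Nat.card A = 27 :=
    (card_map_of_injective (MulAut.conj g).injective).trans F.card_J
  have hmemA : ∀ j ∈ F.J, g * j * g⁻¹ ∈ A := fun j hj => ⟨j, hj, rfl⟩
  have hcommA : ∀ a ∈ A, ∀ b ∈ A, a * b = b * a := by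
    rintro _ ⟨a, ha, rfl⟩ _ ⟨b, hb, rfl⟩
    rw [← map_mul, ← map_mul, F.J_comm ha hb]
  have h9 : ∀ a ∈ A, a ^ 9 = 1 := by
    rintro _ ⟨a, ha, rfl⟩
    have e3 : a ^ 3 = 1 := by rw [pow_succ, pow_two, F.J_cube ha]
    rw [← map_pow, show (9 : ℕ) = 3 * 3 from rfl, pow_mul, e3, one_pow, map_one]
  have hne : g * t * g⁻¹ ≠ 1 := fun e => ht1 (by
    rw [show t = g⁻¹ * (g * t * g⁻¹) * g by group, e, mul_one, inv_mul_cancel])
  have hAN : A ≤ F.N := fun a ha => hloc _ hg hne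
    (mem_centralizer_singleton_iff.mpr (hcommA a ha _ (hmemA t ht)))
  have hle : A ≤ F.J := fun a ha => by
    by_contra haJ
    have := card_le_nine A hAN h9 ha haJ fun b hb => hcommA b hb a ha
    omega
  have heq : A = F.J := eq_of_le_of_card_ge hle (by rw [hcard, F.card_J])
  refine mem_normalizer_iff.mpr fun j => ⟨fun hj => heq.le (hmemA j hj), fun hj => ?_⟩
  rw [← heq] at hj
  obtain ⟨i, hi, e⟩ := hj
  rwa [← mul_left_cancel (mul_right_cancel (e : g * i * g⁻¹ = g * j * g⁻¹))]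

end Frame

end CfsgLib.Recog.SymNine.Local
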