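import Cfsg.Agent.Lib.Recog.SymNine.Local.Twist
import Cfsg.Agent.Lib.Recog.SymNine.Local.FactsMain

/-!
The involutions fused with `τ₀` and the kernel of the two sign transfers.
-/

set_option autoImplicit false

namespace CfsgLib.Recog.SymNine.Local

open Subgroup CfsgLib.Block.ThreeCube

variable {G : Type*} [Group G] [Finite G] {F : Frame G} {τ : G}

namespace Frame

theorem no_z (hloc : F.Loc) (hτ : F.Rel τ τ₀) {z : G} (hz : F.Rel z z₀) (k : G) :
    k * z * k⁻¹ ≠ τ := by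
  intro e
  have hbz : F.bz = true := F.bz_iff.mpr ⟨⟨z, hz.1⟩, hz.2⟩
  cases hbe : F.be with
  | false =>
    obtain ⟨d, hd⟩ := F.exists_rel_zero negs_consts.2.2.2.2.2.1
    exact Twist.false (τ := τ) (z := z) (d := d) ⟨hloc, hτ, hz, hd, hbz, hbe, ⟨k, e⟩⟩
  | true =>
    have hC : Nat.card (centralizer ({τ} : Set G)) = 72 := by
      rw [show (72 : ℕ) = 18 * (if F.be then 2 else 1) * (if F.bz then 2 else 1) by simp [hbe, hbz],
        ← card_centralizer_τ₀]
      exact F.card_eq_filter _ (cent_tau hloc hτ)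
        (fun g w h => ⟨fun hg => ⟨h.mem_set, (mem_cent_iff h hτ).mp hg⟩,
          fun hw => (mem_cent_iff h hτ).mpr hw.2⟩) fun w hw => hw.1
    have hZ : Nat.card (F.N ⊓ centralizer ({z} : Set G) : Subgroup G) = 48 := by
      rw [show (48 : ℕ) = 6 * (if F.be then 4 else 1) * (if F.bz then 2 else 1) by simp [hbe, hbz],
        ← centralizer_z₀]
      exact F.card_eq_filter _ inf_le_left
        (fun g w h => ⟨fun hg => ⟨h.mem_set,
          (h.comm_iff hz).mp (mem_centralizer_singleton_iff.mp hg.2)⟩,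
          fun hw => ⟨h.mem, mem_centralizer_singleton_iff.mpr ((h.comm_iff hz).mpr hw.2)⟩⟩)
        fun w hw => hw.1
    have hle : (F.N ⊓ centralizer ({z} : Set G)).map (MulAut.conj k).toMonoidHom ≤
        centralizer ({τ} : Set G) := by
      rintro _ ⟨g, hg, rfl⟩
      refine mem_centralizer_singleton_iff.mpr ?_
      show k * g * k⁻¹ * τ = τ * (k * g * k⁻¹)
      rw [← e, show k * g * k⁻¹ * (k * z * k⁻¹) = k * (g * z) * k⁻¹ by group,
        mem_centralizer_singleton_iff.mp hg.2]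
      group
    have h := card_dvd_of_le hle
    rw [card_map_of_injective (MulAut.conj k).injective, hZ, hC] at h
    norm_num at h

theorem fusion (hloc : F.Loc) (hτ : F.Rel τ τ₀) {g i : G} (hi : i ∈ F.N)
    (hg : g * i * g⁻¹ = τ) : g ∈ F.N :=
  (fusion_or hloc hτ hi hg).elim id fun ⟨⟨h, _, hz, he⟩, _⟩ => absurd he (no_z hloc hτ hz h)

theorem signV_tau' (hloc : F.Loc) (hτ : F.Rel τ τ₀) (l : W →* ℤˣ) : F.signV l τ = l τ₀ :=
  signV_tau hloc hτ l (Or.inl fun _ hz k => no_z hloc hτ hz k)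

theorem signV_z (hloc : F.Loc) (hτ : F.Rel τ τ₀) {z : G} (hz : F.Rel z z₀) (l : W →* ℤˣ) :
    F.signV l z = l z₀ := by
  haveI : Fact (Nat.Prime 2) := ⟨Nat.prime_two⟩
  haveI : F.N.FiniteIndex := finiteIndex_of_finite
  let S : Subgroup G :=
    { carrier := {g | ∃ w, F.Rel g w ∧ Four w}
      one_mem' := ⟨1, F.rel_one, four_consts.1⟩
      mul_mem' := by
        rintro a b ⟨v, hv, hv'⟩ ⟨w, hw, hw'⟩
        exact ⟨v * w, hv.mul hw, (four_closed v hv').2.2.2 w hw'⟩
      inv_mem' := by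
        rintro a ⟨v, hv, hv'⟩
        exact ⟨v⁻¹, hv.inv, by rw [(four_closed v hv').2.1]; exact hv'⟩ }
  have hS : IsPGroup 2 S := fun g => by
    obtain ⟨w, hw, hw'⟩ := g.2
    exact ⟨1, Subtype.ext ((hw.pow 2).eq_one_iff.mpr (by rw [pow_two, (four_closed w hw').1]))⟩
  refine (transfer_of_central F.N (l.comp F.ι) 2 S hS (fun g hg => hg.choose_spec.1.1)
    (by rw [pow_two]; exact (hz.mul hz).eq_one_iff.mpr tz_facts.2.2.2.2.2.2.2.2.2.2.1)
    ⟨z₀, hz, four_consts.2.2⟩ ?_ (fun h => Int.units_sq _) ?_).trans (congrArg l hz.2)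
  · rintro g ⟨w, hw, hw'⟩
    exact ((hw.comm_iff hz).mpr (four_closed w hw').2.2.1).symm
  · exact fun k hk => fusion hloc hτ (g := k) (hk τ ⟨τ₀, hτ, four_consts.2.1⟩) (by group)

/-- the kernel of the transfers of the two signs -/
noncomputable def K (F : Frame G) : Subgroup G :=
  (F.signV sgnPerm).ker ⊓ (F.signV sgnProd).ker

theorem K_normal : F.K.Normal := inferInstanceAs ((F.signV sgnPerm).ker ⊓ _).Normal

theorem mem_K_iff (hloc : F.Loc) {g : G} {w : W} (hg : F.Rel g w) :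
    g ∈ F.K ↔ sgnPerm w = 1 ∧ sgnProd w = 1 := by
  obtain ⟨τ, hτ⟩ := F.exists_rel_zero negs_consts.1
  have hp : F.signV sgnPerm τ = -1 := (signV_tau' hloc hτ _).trans τ₀_facts.2.2.1
  have hq : F.signV sgnProd τ = 1 := (signV_tau' hloc hτ _).trans τ₀_facts.2.2.2.1
  refine ⟨fun ⟨h1, h2⟩ => ?_, fun ⟨h1, h2⟩ => ⟨sign_kill _ hg h1 h2, sign_kill _ hg h1 h2⟩⟩
  replace h1 : F.signV sgnPerm g = 1 := h1
  replace h2 : F.signV sgnProd g = 1 := h2
  rcases sign_eval (F.signV sgnProd) hτ hg with ⟨hd, -⟩ | ⟨hd, z, hz, e⟩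
  · refine ⟨?_, hd⟩
    rcases sign_eval (F.signV sgnPerm) hτ hg with ⟨-, e⟩ | ⟨hd', -⟩
    · by_contra hne
      rw [if_neg hne, h1, hp] at e
      exact absurd e (by decide)
    · rw [hd] at hd'; exact absurd hd' (by decide)
  · rw [h2, hq, signV_z hloc hτ hz, tz_facts.2.2.2.2.2.2.2.2.2.2.2.2.1] at e
    split_ifs at e <;> exact absurd e (by decide)

end Frame

end CfsgLib.Recog.SymNine.Local
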