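import Mathlib
import Cfsg.Agent.Lib.Block.ThreeCubeModel

/-!
The monomial group `S₃ ≀ S₃` of order 1296, as triples of elements of `D₆` extended by the
permutations of the three components.
-/

set_option autoImplicit false

namespace CfsgLib.Recog.SymNine.Local

open CfsgLib.Block.ThreeCube

/-- the component of `a` at `i` after permuting by `p` -/
def permTri (p : Equiv.Perm (Fin 3)) (a : Tri) : Tri :=
  (comp (p.symm 0) a, comp (p.symm 1) a, comp (p.symm 2) a)

theorem comp_permTri (p : Equiv.Perm (Fin 3)) (a : Tri) (i : Fin 3) :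
    comp i (permTri p a) = comp (p.symm i) a := by
  fin_cases i <;> rfl

theorem tri_ext {a b : Tri} (h : ∀ i, comp i a = comp i b) : a = b :=
  Prod.ext (h 0) (Prod.ext (h 1) (h 2))

/-- permutations of the components -/
def permAut : Equiv.Perm (Fin 3) →* MulAut Tri where
  toFun p :=
    { toFun := permTri p
      invFun := permTri p.symm
      left_inv := fun a => tri_ext fun i => by simp [comp_permTri]
      right_inv := fun a => tri_ext fun i => by simp [comp_permTri]
      map_mul' := fun a b => tri_ext fun i => by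
        have h : ∀ (j : Fin 3) (u v : Tri), comp j (u * v) = comp j u * comp j v := by
          intro j u v; fin_cases j <;> rfl
        simp [comp_permTri, h] }
  map_one' := MulEquiv.ext fun a => tri_ext fun i => by
    show comp i (permTri 1 a) = comp i a
    rw [comp_permTri]; rfl
  map_mul' p q := MulEquiv.ext fun a => tri_ext fun i => by
    show comp i (permTri (p * q) a) = comp i (permTri p (permTri q a))
    simp only [comp_permTri]; rfl

/-- the group `S₃ ≀ S₃` -/
abbrev W := Tri ⋊[permAut] Equiv.Perm (Fin 3)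

instance : DecidableEq W := fun a b =>
  decidable_of_iff (a.left = b.left ∧ a.right = b.right)
    ⟨fun h => SemidirectProduct.ext h.1 h.2, fun h => by simp [h]⟩

instance : Fintype W := Fintype.ofEquiv _ SemidirectProduct.equivProd.symm

/-- the translations -/
def InJ (w : W) : Prop := w.right = 1 ∧ Plus w.left

instance : DecidablePred InJ := fun w => inferInstanceAs (Decidable (_ ∧ _))

/-- the product of the three standard three-cycles -/
def x₀ : W := ⟨(.r 1, .r 1, .r 1), 1⟩
/-- the transposition of the first two components -/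
def τ₀ : W := ⟨1, Equiv.swap 0 1⟩
/-- the cycle of the components -/
def σ₀ : W := ⟨1, Equiv.swap 0 1 * Equiv.swap 1 2⟩
/-- inversion of all translations -/
def z₀ : W := ⟨(.sr 0, .sr 0, .sr 0), 1⟩
/-- inversion of the first two coordinates -/
def e₀ : W := ⟨(.sr 0, .sr 0, .r 0), 1⟩
/-- translations by the coordinates -/
def c₀ (i : Fin 3) : W :=
  ⟨(if i = 0 then .r 1 else .r 0, if i = 1 then .r 1 else .r 0, if i = 2 then .r 1 else .r 0), 1⟩

/-- the number of reflections among the components -/
def negs (w : W) : ℕ := (fidx w.left.1).val + (fidx w.left.2.1).val + (fidx w.left.2.2).val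

/-- membership in the four possible normalisers, `bz` for `z₀`, `be` for `e₀` -/
def Mem (bz be : Bool) (w : W) : Prop :=
  negs w = 0 ∨ (negs w = 2 ∧ be = true) ∨ (negs w = 3 ∧ bz = true) ∨
    (negs w = 1 ∧ be = true ∧ bz = true)

instance (bz be : Bool) : DecidablePred (Mem bz be) :=
  fun w => inferInstanceAs (Decidable (_ ∨ _))

/-- sign of the permutation of the components -/
def sgnPerm : W →* ℤˣ := Equiv.Perm.sign.comp SemidirectProduct.rightHom

/-- the product of the three signs -/
def sgnProdFun (w : W) : ℤˣ := (-1) ^ negs w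

theorem sgnProd_split : ∀ a : Tri, ∀ p : Equiv.Perm (Fin 3),
    sgnProdFun ⟨permTri p a, 1⟩ = sgnProdFun ⟨a, 1⟩ := by decide +kernel

theorem sgn_dmul : ∀ a b : DihedralGroup 3,
    (-1 : ℤˣ) ^ (fidx (a * b)).val = (-1) ^ (fidx a).val * (-1) ^ (fidx b).val := by decide +kernel

/-- the product of the three signs as a homomorphism -/
def sgnProd : W →* ℤˣ :=
  MonoidHom.mk' sgnProdFun fun u v => by
    have h : ∀ a b : Tri, sgnProdFun ⟨a * b, 1⟩ = sgnProdFun ⟨a, 1⟩ * sgnProdFun ⟨b, 1⟩ := by
      intro a b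
      simp only [sgnProdFun, negs, pow_add, Prod.fst_mul, Prod.snd_mul, sgn_dmul]
      ac_rfl
    have h2 : ∀ w : W, sgnProdFun w = sgnProdFun ⟨w.left, 1⟩ := fun w => rfl
    rw [h2 (u * v), h2 u, h2 v, SemidirectProduct.mul_left, h]
    exact congrArg _ (sgnProd_split v.left u.right)

theorem InJ.right {w : W} (h : InJ w) : w.right = 1 := h.1

theorem inJ_mul {v w : W} (hv : InJ v) (hw : InJ w) : InJ (v * w) := by
  have h : ∀ a b : DihedralGroup 3, dsgn a = 1 → dsgn b = 1 → dsgn (a * b) = 1 := by decide +kernel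
  refine ⟨by rw [SemidirectProduct.mul_right, hv.1, hw.1, one_mul], fun i => ?_⟩
  rw [SemidirectProduct.mul_left, hv.1, map_one, MulAut.one_apply]
  fin_cases i
  exacts [h _ _ (hv.2 0) (hw.2 0), h _ _ (hv.2 1) (hw.2 1), h _ _ (hv.2 2) (hw.2 2)]

theorem inJ_cube : ∀ w : W, InJ w → w * w * w = 1 := by decide +kernel

theorem card_inJ : (Finset.univ.filter InJ).card = 27 := by decide +kernel

theorem card_centralizer_x₀ : (Finset.univ.filter fun w : W => w * x₀ = x₀ * w).card = 162 := by
  decide +kernel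

theorem mem_of_commute_x₀ : ∀ bz be, ∀ w : W, w * x₀ = x₀ * w → Mem bz be w := by decide +kernel

theorem cube_commute_τ₀ : ∀ w : W, w * w * w = 1 → w * τ₀ = τ₀ * w → InJ w := by decide +kernel

/-- an involution fixes a translation or inverts all of them -/
theorem invol_cases : ∀ w : W, w * w = 1 →
    (∃ v : Tri, Plus v ∧ v ≠ 1 ∧ w * ⟨v, 1⟩ = (⟨v, 1⟩ : W) * w) ∨
      (w.right = 1 ∧ negs w = 3) := by
  decide +kernel

theorem fixed_small : ∀ w : W, ¬ InJ w → w ^ 9 = 1 →
    (Finset.univ.filter fun v : Tri => Plus v ∧ (⟨v, 1⟩ : W) * w = w * ⟨v, 1⟩).card ≤ 3 := by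
  decide +kernel

theorem card_centralizer_τ₀ : ∀ bz be,
    (Finset.univ.filter fun w : W => Mem bz be w ∧ w * τ₀ = τ₀ * w).card =
      18 * (if be then 2 else 1) * (if bz then 2 else 1) := by
  decide +kernel

theorem centralizer_z₀ : ∀ bz be,
    (Finset.univ.filter fun w : W => Mem bz be w ∧ w * z₀ = z₀ * w).card =
      6 * (if be then 4 else 1) * (if bz then 2 else 1) := by
  decide +kernel

theorem conj_z₀ : ∀ w : W, w.right = 1 → negs w = 3 → w * w = 1 →
    ∃ v : Tri, Plus v ∧ (⟨v, 1⟩ : W) * z₀ = w * ⟨v, 1⟩ := by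
  decide +kernel

theorem mem_four : ∀ w : W, w.right = 1 → negs w = 2 → ∃ v : Tri, Plus v ∧
    (w = ⟨v, 1⟩ * e₀ ∨ w = ⟨v, 1⟩ * (σ₀ * e₀ * σ₀⁻¹) ∨ w = ⟨v, 1⟩ * (σ₀⁻¹ * e₀ * σ₀)) := by
  decide +kernel

end CfsgLib.Recog.SymNine.Local
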