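import Cfsg.Agent.Lib.Recog.SymNine.Local.Tau
import Cfsg.Agent.Lib.Recog.SymNine.Local.FactsTwist

/-!
Homomorphisms to `{±1}` on the normaliser, their transfers, and the Sylow bound.
-/

set_option autoImplicit false

namespace CfsgLib.Recog.SymNine.Local

open Subgroup CfsgLib.Block.ThreeCube

variable {G : Type*} [Group G] [Finite G] {F : Frame G} {τ : G}

namespace Frame

theorem sign_eq_one_of_ninth {f : G →* ℤˣ} {g : G} (h : g ^ 9 = 1) : f g = 1 := by
  have e := congrArg f h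
  rw [map_pow, map_one] at e
  rcases Int.units_eq_one_or (f g) with h' | h'
  · exact h'
  · rw [h'] at e; exact absurd e (by decide)

/-- every homomorphism to `{±1}` kills the elements with both signs trivial -/
theorem sign_kill (f : G →* ℤˣ) {g : G} {w : W} (hg : F.Rel g w) (hp : sgnPerm w = 1)
    (hd : sgnProd w = 1) : f g = 1 := by
  have zero : ∀ {g : G} {w : W}, F.Rel g w → sgnPerm w = 1 → negs w = 0 → f g = 1 :=
    fun hg hp hn => sign_eq_one_of_ninth ((hg.pow 9).eq_one_iff.mpr (ninth_of_plus _ hn hp))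
  have hd' : (-1 : ℤˣ) ^ negs w = 1 := hd
  rcases negs_range w with h | h | h | h
  · exact zero hg hp h
  · rw [h] at hd'; exact absurd hd' (by decide)
  · obtain ⟨s, hs⟩ := F.exists_rel_zero negs_consts.2.1
    obtain ⟨e, he⟩ := F.exists_rel (w := e₀) ((F.mem_range_iff e₀).mp
      ((F.range_two h).mp ⟨⟨g, hg.1⟩, hg.2⟩))
    have hs1 : sgnPerm σ₀ = 1 := mu_h.2.2.2.2.2.2.2.2.2.1
    have he1 : f e = 1 := by
      have := congrArg f (((((hs.mul he).mul hs.inv)).mul ((hs.inv.mul he).mul hs)).eq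
        (e₀_prod.1.symm ▸ he))
      simp only [map_mul, map_inv] at this
      rw [mul_inv_cancel_comm, inv_mul_cancel_comm] at this
      rcases Int.units_eq_one_or (f e) with h' | h'
      · exact h'
      · rw [h'] at this; exact absurd this (by decide)
    have key : ∀ {c : G} {v : W}, F.Rel c v → sgnPerm v = 1 → f c = 1 → negs (w⁻¹ * v) = 0 →
        f g = 1 := fun hc hv hfc hn => by
      have := zero (hg.inv.mul hc) (by rw [map_mul, map_inv, hp, hv, inv_one, one_mul]) hn
      rw [map_mul, map_inv, hfc, mul_one, inv_eq_one] at this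
      exact this
    have pe : sgnPerm e₀ = 1 := by rfl
    rcases norm_two w h with e' | e' | e'
    · exact key he pe he1 e'
    · exact key ((hs.mul he).mul hs.inv) (by rw [map_mul, map_mul, map_inv, pe, hs1]; simp)
        (by rw [map_mul, map_mul, map_inv, he1]; simp) e'
    · exact key ((hs.inv.mul he).mul hs) (by rw [map_mul, map_mul, map_inv, pe, hs1]; simp)
        (by rw [map_mul, map_mul, map_inv, he1]; simp) e'
  · rw [h] at hd'; exact absurd hd' (by decide)

/-- the value of a homomorphism to `{±1}` on the normaliser -/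
theorem sign_eval (f : G →* ℤˣ) (hτ : F.Rel τ τ₀) {g : G} {w : W} (hg : F.Rel g w) :
    (sgnProd w = 1 ∧ f g = if sgnPerm w = 1 then 1 else f τ) ∨
      (sgnProd w = -1 ∧ ∃ z, F.Rel z z₀ ∧
        f g = (if sgnPerm w = 1 then 1 else f τ) * f z) := by
  have base : ∀ {g : G} {w : W}, F.Rel g w → sgnProd w = 1 →
      f g = if sgnPerm w = 1 then 1 else f τ := by
    intro g w hg hd
    split_ifs with hp
    · exact sign_kill f hg hp hd
    · have hp' := (Int.units_eq_one_or (sgnPerm w)).resolve_left hp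
      obtain ⟨h1, h2⟩ := kill_τ₀ w hp'
      have := sign_kill f (hg.mul hτ) h1 (h2.trans hd)
      rw [map_mul] at this
      rw [mul_eq_one_iff_eq_inv.mp this, Int.units_inv_eq_self]
  rcases Int.units_eq_one_or (sgnProd w) with hd | hd
  · exact Or.inl ⟨hd, base hg hd⟩
  · have hz : z₀ ∈ F.ι.range := by
      have hbz : F.bz = true := by
        have hd' : (-1 : ℤˣ) ^ negs w = -1 := hd
        have hm := hg.mem_set
        unfold Mem at hm
        rcases hm with h | ⟨h, -⟩ | ⟨-, h⟩ | ⟨-, -, h⟩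
        · rw [h] at hd'; exact absurd hd' (by decide)
        · rw [h] at hd'; exact absurd hd' (by decide)
        · exact h
        · exact h
      exact F.bz_iff.mp hbz
    obtain ⟨⟨z, hz'⟩, hzw⟩ := hz
    refine Or.inr ⟨hd, z, ⟨hz', hzw⟩, ?_⟩
    have hrel : F.Rel (g * z) (w * z₀) := hg.mul ⟨hz', hzw⟩
    have e := base hrel (by rw [map_mul, hd, tz_facts.2.2.2.2.2.2.2.2.2.2.2.2.1]; decide)
    rw [map_mul sgnPerm, tz_facts.2.2.2.2.2.2.2.2.2.2.2.1, mul_one, map_mul] at e
    rw [← e, mul_assoc, Int.units_mul_self, mul_one]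

/-- the transfer of a sign of the normaliser -/
noncomputable def signV (F : Frame G) (l : W →* ℤˣ) : G →* ℤˣ :=
  haveI : F.N.FiniteIndex := finiteIndex_of_finite
  MonoidHom.transfer (l.comp F.ι)

theorem signV_tau (hloc : F.Loc) (hτ : F.Rel τ τ₀) (l : W →* ℤˣ)
    (h : (∀ z, F.Rel z z₀ → ∀ k, k * z * k⁻¹ ≠ τ) ∨
      ∀ w : W, w.right = 1 ∧ negs w = 3 → l w = 1) :
    F.signV l τ = l τ₀ := by
  haveI : Fact (Nat.Prime 2) := ⟨Nat.prime_two⟩
  haveI : F.N.FiniteIndex := finiteIndex_of_finite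
  refine (transfer_of_prime_single F.N (l.comp F.ι) 2 (by rw [pow_two, tau_sq hτ]) hτ.1
    fun k hk hkN => ?_).trans (congrArg l hτ.2)
  rcases fusion_or hloc hτ (g := k) hk (by group) with h' | ⟨⟨a, z, hz, he⟩, h'⟩
  · exact absurd h' hkN
  · exact h.elim (fun h1 => absurd he (h1 z hz a)) fun h1 => h1 _ (h' _ ⟨hk, rfl⟩)

/-- the elements without reflection over the three-cycles form a group of order 81 with local
normaliser, so `3⁵` does not divide the order of `G` -/
theorem not_pow_five_dvd (hloc : F.Loc) : ¬ 3 ^ 5 ∣ Nat.card G := by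
  haveI : Fact (Nat.Prime 3) := ⟨Nat.prime_three⟩
  intro hd
  obtain ⟨x, hx⟩ := F.exists_rel_zero negs_consts.2.2.2.2.1
  obtain ⟨P, hPN, hP⟩ : ∃ P : Subgroup G, P ≤ F.N ∧
      ∀ g w, F.Rel g w → (g ∈ P ↔ negs w = 0 ∧ sgnPerm w = 1) := by
    refine ⟨(sgnPerm.comp F.ι).ker.map F.N.subtype ⊓ centralizer {x}, inf_le_left.trans
      (map_subtype_le _), fun g w h => ⟨fun hg => ?_, fun hw => ⟨?_, ?_⟩⟩⟩
    · obtain ⟨⟨n, hn, rfl⟩, hc⟩ := hg
      have hp : sgnPerm w = 1 := by
        rw [h.unique ⟨n.2, rfl⟩]; exact MonoidHom.mem_ker.mp hn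
      have hc' := (h.comm_iff hx).mp (mem_centralizer_singleton_iff.mp hc)
      exact ⟨negs_of_comm_x₀ w hc', hp⟩
    · exact ⟨⟨g, h.1⟩, MonoidHom.mem_ker.mpr (show sgnPerm _ = 1 by rw [h.2]; exact hw.2), rfl⟩
    · exact mem_centralizer_singleton_iff.mpr ((h.comm_iff hx).mpr (rot_comm w hw.1))
  have hcard : Nat.card P = 3 ^ 4 := by
    rw [F.card_eq_filter P hPN hP (fun w hw => Or.inl hw.1), card_rot]
    rfl
  have hq := Sylow.prime_dvd_card_quotient_normalizer (H := P) hd hcard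
  have hNP : normalizer (P : Set G) ≤ F.N := by
    intro g hg
    have hxP : x ∈ P := (hP x x₀ hx).mpr ⟨negs_consts.2.2.2.2.1, rot_facts.2.1⟩
    have hgx := (mem_normalizer_iff.mp hg x).mp hxP
    obtain ⟨v, hv⟩ := F.rel_of_mem (hPN hgx)
    refine ti hloc (hx.inJ_iff.mpr x₀_facts.1) (fun e => x₀_facts.2.1 (hx.eq_one_iff.mp e))
      (hv.inJ_iff.mpr ?_)
    suffices key : ∀ w : W, negs w = 0 → sgnPerm w = 1 → v * w = w * v from
      rot_centre v (key h₀ negs_consts.2.2.1 mu_h.2.2.2.2.2.2.2.1)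
        (key (c₀ 0) (negs_consts.2.2.2.2.2.2.2 0) rot_facts.1)
    intro w hw0 hw1
    obtain ⟨a, ha⟩ := F.exists_rel_zero hw0
    refine (hv.comm_iff ha).mp ?_
    have haP : a ∈ P := (hP a _ ha).mpr ⟨hw0, hw1⟩
    have h1 : g⁻¹ * a * g ∈ P := (mem_normalizer_iff'.mp hg _).mpr (by simpa [mul_assoc] using haP)
    obtain ⟨b, hb⟩ := F.rel_of_mem (hPN h1)
    have h2 : g⁻¹ * a * g * x = x * (g⁻¹ * a * g) :=
      (hb.comm_iff hx).mpr (rot_comm b ((hP _ b hb).mp h1).1)
    calc g * x * g⁻¹ * a = g * (x * (g⁻¹ * a * g)) * g⁻¹ := by group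
      _ = a * (g * x * g⁻¹) := by rw [← h2]; group
  have h243 : 3 ^ 5 ∣ Nat.card F.N := by
    refine dvd_trans ?_ (card_dvd_of_le hNP)
    rw [← card_mul_index (P.subgroupOf (normalizer (P : Set G))),
      Nat.card_congr (subgroupOfEquivOfLe le_normalizer).toEquiv, hcard, index_eq_card]
    exact mul_dvd_mul_left (3 ^ 4) hq
  have h1296 := dvd_trans h243 (card_dvd_of_injective F.ι F.inj)
  rw [Nat.card_eq_fintype_card, rot_facts.2.2] at h1296
  norm_num at h1296

end Frame

end CfsgLib.Recog.SymNine.Local
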