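import Cfsg.Agent.Lib.Recog.SymNine.Local.CentInvol
import Cfsg.Agent.Lib.Recog.SymNine.Local.Frame

/-!
If all centralisers of elements of `J` are local, the centraliser of the transposition of two
components is local too, and its conjugates with a fixed translation are fused in the normaliser.
-/

set_option autoImplicit false

namespace CfsgLib.Recog.SymNine.Local

open Subgroup CfsgLib.Block.ThreeCube

variable {G : Type*} [Group G] [Finite G] {F : Frame G} {τ : G}

namespace Frame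

theorem tau_ne (hτ : F.Rel τ τ₀) : τ ≠ 1 := fun e => τ₀_facts.1 (hτ.eq_one_iff.mp e)

theorem tau_sq (hτ : F.Rel τ τ₀) : τ * τ = 1 := (hτ.mul hτ).eq_one_iff.mpr τ₀_facts.2.1

theorem mem_cent_iff {g : G} {w : W} (hg : F.Rel g w) (hτ : F.Rel τ τ₀) :
    g ∈ centralizer ({τ} : Set G) ↔ w * τ₀ = τ₀ * w :=
  mem_centralizer_singleton_iff.trans (hg.comm_iff hτ)

/-- the part of `J` in the centraliser of `τ` -/
abbrev U (F : Frame G) (τ : G) : Subgroup (centralizer ({τ} : Set G)) :=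
  F.J.subgroupOf (centralizer ({τ} : Set G))

theorem card_subgroupOf (A Y : Subgroup G) : Nat.card (A.subgroupOf Y) = Nat.card (A ⊓ Y : Subgroup G) := by
  rw [← inf_subgroupOf_right]
  exact Nat.card_congr (subgroupOfEquivOfLe inf_le_right).toEquiv

theorem card_U' (hτ : F.Rel τ τ₀) : Nat.card (F.U τ) = 9 := by
  rw [card_subgroupOf, ← card_U]
  refine F.card_eq_filter _ (inf_le_left.trans le_normalizer) (fun g w h => ?_)
    fun w hw => Or.inl (negs_of_inJ w hw.1)
  exact and_congr h.inJ_iff (mem_cent_iff h hτ)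

theorem exists_U_ne (hτ : F.Rel τ τ₀) : ∃ t ∈ F.U τ, t ≠ 1 := by
  by_contra hcon
  push Not at hcon
  have h := card_U' hτ
  rw [(Subgroup.eq_bot_iff_forall _).mpr hcon, Subgroup.card_bot] at h
  omega

theorem normalizer_U (hloc : F.Loc) (hτ : F.Rel τ τ₀) :
    normalizer (F.U τ : Set (centralizer ({τ} : Set G))) =
      F.N.subgroupOf (centralizer ({τ} : Set G)) := by
  refine le_antisymm (fun y hy => ?_) (fun y hy => mem_normalizer_iff.mpr fun t => ?_)
  · obtain ⟨t, ht, ht1⟩ := exists_U_ne hτ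
    exact ti hloc (t := (t : G)) ht (fun e => ht1 (Subtype.ext e)) ((mem_normalizer_iff.mp hy t).mp ht)
  · exact mem_normalizer_iff.mp hy (t : G)

theorem card_normalizer_U (hloc : F.Loc) (hτ : F.Rel τ τ₀) :
    Nat.card (normalizer (F.U τ : Set (centralizer ({τ} : Set G)))) =
      18 * (if F.be then 2 else 1) * (if F.bz then 2 else 1) := by
  rw [normalizer_U hloc hτ, card_subgroupOf, ← card_centralizer_τ₀]
  refine F.card_eq_filter _ inf_le_left (fun g w h => ?_) fun w hw => hw.1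
  exact ⟨fun hg => ⟨h.mem_set, (mem_cent_iff h hτ).mp hg.2⟩,
    fun hw => ⟨h.mem, (mem_cent_iff h hτ).mpr hw.2⟩⟩

theorem centHyp (hloc : F.Loc) (hτ : F.Rel τ τ₀) :
    CentHyp (⟨τ, mem_centralizer_singleton_iff.mpr rfl⟩ : centralizer ({τ} : Set G)) (F.U τ) where
  u_ne e := tau_ne hτ (congrArg Subtype.val e)
  u_sq := Subtype.ext (tau_sq hτ)
  central y := Subtype.ext (mem_centralizer_singleton_iff.mp y.2).symm
  card := card_U' hτ
  cube t ht := Subtype.ext (J_cube (mem_subgroupOf.mp ht))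
  self y hy := by
    obtain ⟨t, ht, ht1⟩ := exists_U_ne hτ
    have hyN : (y : G) ∈ F.N := hloc t ht (fun e => ht1 (Subtype.ext e))
      (mem_centralizer_singleton_iff.mpr (congrArg Subtype.val (hy t ht)).symm)
    obtain ⟨w, hw⟩ := F.rel_of_mem hyN
    rcases self_τ₀ w ((mem_cent_iff hw hτ).mp y.2) with h | h | ⟨v, hv, hvc, hne⟩
    · exact ⟨y, hw.inJ_iff.mpr h, Or.inl rfl⟩
    · refine ⟨y * ⟨τ, mem_centralizer_singleton_iff.mpr rfl⟩, (hw.mul hτ).inJ_iff.mpr h,
        Or.inr (Subtype.ext ?_)⟩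
      show (y : G) = (y : G) * τ * τ
      rw [mul_assoc, tau_sq hτ, mul_one]
    · obtain ⟨j, hj, hjr⟩ := F.exists_rel_plus hv
      exact absurd ((hjr.comm_iff hw).mp (congrArg Subtype.val
        (hy ⟨j, (mem_cent_iff hjr hτ).mpr hvc⟩ hj))) hne
  loc t ht ht1 y hy := by
    rw [normalizer_U hloc hτ]
    exact hloc t ht (fun e => ht1 (Subtype.ext e))
      (mem_centralizer_singleton_iff.mpr (congrArg Subtype.val (mem_centralizer_singleton_iff.mp hy)))
  norm27 := by
    rw [card_normalizer_U hloc hτ]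
    cases F.be <;> cases F.bz <;> norm_num

theorem cases_mul {u y : centralizer ({τ} : Set G)} (hu : (u : G) = τ) (hτ : F.Rel τ τ₀) {w : W}
    (hy : F.Rel y w) (h : InJ w ∨ InJ (w * τ₀)) :
    ∃ t ∈ F.U τ, y = t ∨ y = t * u := by
  rcases h with h | h
  · exact ⟨y, hy.inJ_iff.mpr h, Or.inl rfl⟩
  · refine ⟨y * u, ?_, Or.inr (Subtype.ext ?_)⟩
    · show (y : G) * (u : G) ∈ F.J
      rw [hu]
      exact (hy.mul hτ).inJ_iff.mpr h
    · show (y : G) = (y : G) * (u : G) * (u : G)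
      rw [hu, mul_assoc, tau_sq hτ, mul_one]

theorem normalizer_U_eq_top (hloc : F.Loc) (hτ : F.Rel τ τ₀) :
    normalizer (F.U τ : Set (centralizer ({τ} : Set G))) = ⊤ := by
  have h := centHyp hloc hτ
  have hcard := card_normalizer_U hloc hτ
  have hrel : ∀ n ∈ normalizer (F.U τ : Set (centralizer ({τ} : Set G))),
      ∃ w, F.Rel (n : G) w ∧ Mem F.bz F.be w ∧ w * τ₀ = τ₀ * w := fun n hn => by
    rw [normalizer_U hloc hτ] at hn
    obtain ⟨w, hw⟩ := F.rel_of_mem (mem_subgroupOf.mp hn)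
    exact ⟨w, hw, hw.mem_set, (mem_cent_iff hw hτ).mp n.2⟩
  cases hbz : F.bz with
  | true =>
    cases hbe : F.be with
    | false =>
      rw [hbz, hbe] at hcard
      refine h.top_two hcard fun n hn => ?_
      obtain ⟨w, hw, hwm, hwc⟩ := hrel n hn
      rw [hbz, hbe] at hwm
      rcases two_case w hwm hwc with e | e | e
      · exact Or.inl (cases_mul rfl hτ hw (Or.inl e))
      · exact Or.inl (cases_mul rfl hτ hw (Or.inr e))
      · refine Or.inr fun t ht => Subtype.ext ?_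
        obtain ⟨v, hv, htv⟩ := F.rel_of_J (mem_subgroupOf.mp ht)
        show (n : G) * (t : G) * (n : G)⁻¹ = (t : G)⁻¹
        refine ((hw.mul htv).mul hw.inv).eq_iff htv.inv |>.mpr ?_
        rw [e v hv ((mem_cent_iff htv hτ).mp t.2), mul_inv_cancel_right]
    | true =>
      rw [hbz, hbe] at hcard
      refine h.top_klein hcard fun n hn => ?_
      obtain ⟨w, hw, -, hwc⟩ := hrel n hn
      exact cases_mul (y := n * n) rfl hτ (hw.mul hw) (klein_case w hwc)
  | false =>
    rw [hbz] at hcard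
    have hd : Nat.card (normalizer (F.U τ : Set (centralizer ({τ} : Set G)))) ∣ 36 := by
      rw [hcard]; cases F.be <;> norm_num
    let wv : normalizer (F.U τ : Set (centralizer ({τ} : Set G))) → W := fun n =>
      Classical.choose (hrel n n.2)
    have hwv : ∀ n : normalizer (F.U τ : Set (centralizer ({τ} : Set G))),
        F.Rel ((n : centralizer ({τ} : Set G)) : G) (wv n) ∧ Mem F.bz F.be (wv n) ∧
        wv n * τ₀ = τ₀ * wv n := fun n => Classical.choose_spec (hrel n n.2)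
    let ψ : normalizer (F.U τ : Set (centralizer ({τ} : Set G))) →* Multiplicative (ZMod 3) :=
      MonoidHom.mk' (fun n => Multiplicative.ofAdd (rot2 (wv n))) fun m n => by
        rw [← ofAdd_add, ← rot2_hom F.be _ (hbz ▸ (hwv m).2.1) (hwv m).2.2 _ (hbz ▸ (hwv n).2.1) (hwv n).2.2]
        exact congrArg (fun w => Multiplicative.ofAdd (rot2 w))
          ((hwv (m * n)).1.unique ((hwv m).1.mul (hwv n).1))
    obtain ⟨hc2, ha0, hcJ, haJ, ha1, hcc, hac⟩ := refl_facts
    obtain ⟨c, hcr⟩ := F.exists_rel_zero (negs_of_inJ _ hcJ)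
    obtain ⟨a, har⟩ := F.exists_rel_zero (negs_of_inJ _ haJ)
    have hcU : (⟨c, (mem_cent_iff hcr hτ).mpr hcc⟩ : centralizer ({τ} : Set G)) ∈ F.U τ :=
      hcr.inJ_iff.mpr hcJ
    have haU : (⟨a, (mem_cent_iff har hτ).mpr hac⟩ : centralizer ({τ} : Set G)) ∈ F.U τ :=
      har.inJ_iff.mpr haJ
    refine h.top_refl hd ψ _ hcU ?_ _ haU (fun e => ha1 ?_) ?_ fun n hn hna => ?_
    · intro e
      have e' : rot2 (wv ⟨_, le_normalizer hcU⟩) = 0 := by
        simpa [ψ] using e
      rw [(hwv _).1.unique hcr] at e'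
      exact hc2 e'
    · exact har.eq_one_iff.mp (congrArg Subtype.val e)
    · show Multiplicative.ofAdd (rot2 (wv ⟨_, le_normalizer haU⟩)) = 1
      rw [(hwv _).1.unique har, ha0, ofAdd_zero]
    · refine cases_mul rfl hτ (hwv n).1 (refl_fix F.be _ (hbz ▸ (hwv n).2.1) (hwv n).2.2 ?_ ?_)
      · simpa [ψ] using hn
      · exact ((hwv n).1.comm_iff har).mp (congrArg Subtype.val hna)

/-- the centraliser of `τ` normalises `J` -/
theorem cent_tau (hloc : F.Loc) (hτ : F.Rel τ τ₀) : centralizer ({τ} : Set G) ≤ F.N := by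
  intro y hy
  have h := (normalizer_U hloc hτ).symm.trans (normalizer_U_eq_top hloc hτ)
  exact mem_subgroupOf.mp (show (⟨y, hy⟩ : centralizer ({τ} : Set G)) ∈ F.N.subgroupOf _ from
    h ▸ mem_top _)

/-- conjugates of `τ` with a fixed element of `J` -/
theorem fusion_fixed (hloc : F.Loc) (hτ : F.Rel τ τ₀) {g i t : G} (ht : t ∈ F.J) (ht1 : t ≠ 1)
    (hit : i * t = t * i) (hg : g * i * g⁻¹ = τ) : g ∈ F.N := by
  have hc : g * t * g⁻¹ ∈ centralizer ({τ} : Set G) := mem_centralizer_singleton_iff.mpr (by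
    rw [← hg, show g * t * g⁻¹ * (g * i * g⁻¹) = g * (t * i) * g⁻¹ by group, ← hit]
    group)
  obtain ⟨w, hw⟩ := F.rel_of_mem (cent_tau hloc hτ hc)
  refine ti hloc ht ht1 (hw.inJ_iff.mpr (cube_commute_τ₀ w ?_ ((mem_cent_iff hw hτ).mp hc)))
  refine ((hw.mul hw).mul hw).eq_one_iff.mp ?_
  rw [show g * t * g⁻¹ * (g * t * g⁻¹) * (g * t * g⁻¹) = g * (t * t * t) * g⁻¹ by group,
    J_cube ht, mul_one, mul_inv_cancel]

/-- an involution of the normaliser conjugate to `τ` is conjugate within it, or is like `z₀` -/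
theorem fusion_or (hloc : F.Loc) (hτ : F.Rel τ τ₀) {g i : G} (hi : i ∈ F.N)
    (hg : g * i * g⁻¹ = τ) : g ∈ F.N ∨ ((∃ h z, F.Rel z z₀ ∧ h * z * h⁻¹ = τ) ∧
      ∀ w, F.Rel i w → w.right = 1 ∧ negs w = 3) := by
  obtain ⟨w, hw⟩ := F.rel_of_mem hi
  have hii : i * i = 1 := by
    rw [show i * i = g⁻¹ * (g * i * g⁻¹ * (g * i * g⁻¹)) * g by group, hg, tau_sq hτ]
    group
  rcases invol_cases w ((hw.mul hw).eq_one_iff.mp hii) with ⟨v, hv, hv1, hwv⟩ | ⟨hr, hn⟩
  · obtain ⟨j, hj, hjr⟩ := F.exists_rel_plus hv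
    refine Or.inl (fusion_fixed hloc hτ hj (fun e => hv1 ?_) ((hw.comm_iff hjr).mpr hwv) hg)
    exact congrArg SemidirectProduct.left (hjr.eq_one_iff.mp e)
  · obtain ⟨v, hv, he⟩ := conj_z₀ w hr hn ((hw.mul hw).eq_one_iff.mp hii)
    obtain ⟨j, -, hjr⟩ := F.exists_rel_plus hv
    refine Or.inr ⟨⟨g * j, j⁻¹ * i * j, ?_, ?_⟩, fun w' hw' => hw.unique hw' ▸ ⟨hr, hn⟩⟩
    · have := (hjr.inv.mul hw).mul hjr
      rwa [mul_assoc (⟨v, 1⟩ : W)⁻¹, ← he, inv_mul_cancel_left] at this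
    · rw [← hg]; group

end Frame

end CfsgLib.Recog.SymNine.Local
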