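import Cfsg.Agent.Lib.Recog.SymNine.Local.Sign

/-!
`z₀` is not fused with `τ₀`: otherwise the class of `τ₀ z₀` would have exactly 81 elements.
-/

set_option autoImplicit false

namespace CfsgLib.Recog.SymNine.Local

open Subgroup CfsgLib.Block.ThreeCube

variable {G : Type*} [Group G] [Finite G] {F : Frame G}

/-- The configuration: `z₀` conjugate to `τ₀`, without `e₀`. -/
structure Twist (F : Frame G) (τ z d : G) : Prop where
  loc : F.Loc
  hτ : F.Rel τ τ₀
  hz : F.Rel z z₀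
  hd : F.Rel d d₀
  bz : F.bz = true
  be : F.be = false
  conj : ∃ g : G, g * z * g⁻¹ = τ

variable {τ z d : G}

theorem mul_cube_central {M : Type*} [Group M] {q c : M} (h1 : q * c = c * q) (h2 : c * c = 1)
    (h3 : q * q * q = 1) : q * c * (q * c) * (q * c) = c := by
  have h : (q * c) ^ 3 = q ^ 3 * c ^ 3 := Commute.mul_pow h1 3
  simp only [pow_succ, pow_zero, one_mul] at h
  rw [h, h3, h2, one_mul, one_mul]

namespace Twist

theorem sqz (T : Twist F τ z d) : z * z = 1 :=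
  (T.hz.mul T.hz).eq_one_iff.mpr tz_facts.2.2.2.2.2.2.2.2.2.2.1

theorem comm_tz (T : Twist F τ z d) : z * τ = τ * z :=
  (T.hz.comm_iff T.hτ).mpr tz_facts.2.2.1

theorem sq_c (T : Twist F τ z d) : τ * z * (τ * z) = 1 :=
  ((T.hτ.mul T.hz).mul (T.hτ.mul T.hz)).eq_one_iff.mpr tz_facts.2.1

theorem not_conj (T : Twist F τ z d) (h : G) : h * (τ * z) * h⁻¹ ≠ τ := by
  intro e
  have hdt : τ * z * d = d * (τ * z) :=
    ((T.hd.comm_iff (T.hτ.mul T.hz)).mpr tz_facts.2.2.2.2.1).symm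
  obtain ⟨w, hw⟩ := F.rel_of_mem (Frame.fusion_fixed T.loc T.hτ (T.hd.inJ_iff.mpr x₀_facts.2.2.1)
    (fun e' => x₀_facts.2.2.2 (T.hd.eq_one_iff.mp e')) hdt e)
  have := congrArg sgnProd (((hw.mul (T.hτ.mul T.hz)).mul hw.inv).unique (e ▸ T.hτ))
  rw [map_mul, map_mul sgnProd w, map_inv, mul_inv_cancel_comm, τ₀_facts.2.2.2.1,
    tz_facts.2.2.2.2.2.2.1] at this
  exact absurd this (by decide)

theorem mem_set (T : Twist F τ z d) {g : G} {w : W} (h : F.Rel g w) : Mem true false w := by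
  have := h.mem_set
  rwa [T.bz, T.be] at this

theorem class_cent (T : Twist F τ z d) {i : G} (hi : i * i = 1) (hi1 : i ≠ 1)
    (hc : i * τ = τ * i) :
    i = τ ∨ ∃ u ∈ F.J, u * τ = τ * u ∧ (u⁻¹ * i * u = z ∨ u⁻¹ * i * u = τ * z) := by
  obtain ⟨w, hw⟩ := F.rel_of_mem
    (Frame.cent_tau T.loc T.hτ (mem_centralizer_singleton_iff.mpr hc))
  rcases invol_klein w (T.mem_set hw) ((hw.comm_iff T.hτ).mp hc) ((hw.mul hw).eq_one_iff.mp hi)
    (fun e => hi1 (hw.eq_one_iff.mpr e)) with h | ⟨v, hv, hvc, h⟩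
  · exact Or.inl (hw.eq (h ▸ T.hτ))
  · obtain ⟨u, hu, hur⟩ := F.exists_rel_plus hv
    refine Or.inr ⟨u, hu, (hur.comm_iff T.hτ).mpr hvc, ?_⟩
    rcases h with h | h
    · exact Or.inl (((hur.inv.mul hw).mul hur).eq
        (by rw [mul_assoc (⟨v, 1⟩ : W)⁻¹, h, inv_mul_cancel_left]; exact T.hz))
    · exact Or.inr (((hur.inv.mul hw).mul hur).eq
        (by rw [mul_assoc (⟨v, 1⟩ : W)⁻¹, h, inv_mul_cancel_left]; exact T.hτ.mul T.hz))

theorem cent_four (T : Twist F τ z d) {y : G} (hy : y * τ = τ * y) (hy' : y * z = z * y) :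
    y = 1 ∨ y = τ ∨ y = z ∨ y = τ * z := by
  obtain ⟨w, hw⟩ := F.rel_of_mem
    (Frame.cent_tau T.loc T.hτ (mem_centralizer_singleton_iff.mpr hy))
  rcases cent_T w (T.mem_set hw) ((hw.comm_iff T.hτ).mp hy) ((hw.comm_iff T.hz).mp hy') with
    h | h | h | h
  · exact Or.inl (hw.eq_one_iff.mpr h)
  · exact Or.inr (Or.inl (hw.eq (h ▸ T.hτ)))
  · exact Or.inr (Or.inr (Or.inl (hw.eq (h ▸ T.hz))))
  · exact Or.inr (Or.inr (Or.inr (hw.eq (h ▸ T.hτ.mul T.hz))))

/-- the transfer of the sign of the permutation -/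
theorem signV_facts (T : Twist F τ z d) :
    F.signV sgnPerm τ = -1 ∧ F.signV sgnPerm z = -1 ∧
      ∀ {g : G} {w : W}, F.Rel g w → F.signV sgnPerm g = sgnPerm w * sgnProd w := by
  have h1 : F.signV sgnPerm τ = -1 := by
    rw [Frame.signV_tau T.loc T.hτ sgnPerm (Or.inr fun w hw => by
      show Equiv.Perm.sign w.right = 1
      rw [hw.1, map_one]), τ₀_facts.2.2.1]
  have h2 : F.signV sgnPerm z = -1 := by
    obtain ⟨g, hg⟩ := T.conj
    rw [← h1, ← hg, map_mul, map_mul, map_inv, mul_inv_cancel_comm]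
  refine ⟨h1, h2, fun {g w} hg => ?_⟩
  rcases Frame.sign_eval (F.signV sgnPerm) T.hτ hg with ⟨hd, e⟩ | ⟨hd, z', hz', e⟩
  · rw [e, hd, h1, mul_one]
    rcases Int.units_eq_one_or (sgnPerm w) with h | h <;> rw [h] <;> rfl
  · rw [e, hd, h1, hz'.eq T.hz, h2]
    rcases Int.units_eq_one_or (sgnPerm w) with h | h <;> rw [h] <;> rfl

theorem exists_swap (T : Twist F τ z d) :
    ∃ s : G, s * τ * s⁻¹ = z ∧ s * z * s⁻¹ = τ ∧ F.signV sgnPerm s = 1 := by
  obtain ⟨g, hg⟩ := T.conj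
  have hc : g * τ * g⁻¹ * τ = τ * (g * τ * g⁻¹) := by
    calc g * τ * g⁻¹ * τ = g * τ * g⁻¹ * (g * z * g⁻¹) := by rw [hg]
      _ = g * (τ * z) * g⁻¹ := by group
      _ = g * z * g⁻¹ * (g * τ * g⁻¹) := by rw [← T.comm_tz]; group
      _ = τ * (g * τ * g⁻¹) := by rw [hg]
  have hi : g * τ * g⁻¹ * (g * τ * g⁻¹) = 1 := by
    rw [show g * τ * g⁻¹ * (g * τ * g⁻¹) = g * (τ * τ) * g⁻¹ by group, Frame.tau_sq T.hτ]
    group
  obtain ⟨hτv, hzv, -⟩ := T.signV_facts
  rcases T.class_cent hi (fun e => Frame.tau_ne T.hτ (conj_eq_one_iff.mp e)) hc with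
    h | ⟨u, hu, hut, h | h⟩
  · have hzt : z = τ := mul_left_cancel (mul_right_cancel (hg.trans h.symm))
    exact absurd (hzt ▸ T.hz : F.Rel τ z₀) (fun e =>
      tz_facts.2.2.2.2.2.2.2.2.2.2.2.2.2.1 (e.unique T.hτ))
  · have key : (u⁻¹ * g) * τ * (u⁻¹ * g)⁻¹ = z ∧ (u⁻¹ * g) * z * (u⁻¹ * g)⁻¹ = τ := by
      refine ⟨by rw [← h]; group, ?_⟩
      calc u⁻¹ * g * z * (u⁻¹ * g)⁻¹ = u⁻¹ * (g * z * g⁻¹) * u := by group
        _ = τ := by rw [hg, mul_assoc, ← hut]; group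
    rcases Int.units_eq_one_or (F.signV sgnPerm (u⁻¹ * g)) with e | e
    · exact ⟨_, key.1, key.2, e⟩
    · refine ⟨u⁻¹ * g * τ, ?_, ?_, by rw [map_mul, e, hτv]; decide⟩
      · calc u⁻¹ * g * τ * τ * (u⁻¹ * g * τ)⁻¹ = (u⁻¹ * g) * τ * (u⁻¹ * g)⁻¹ := by group
          _ = z := key.1
      · calc u⁻¹ * g * τ * z * (u⁻¹ * g * τ)⁻¹ = (u⁻¹ * g) * (τ * z * τ⁻¹) * (u⁻¹ * g)⁻¹ := by
              group
          _ = τ := by rw [← T.comm_tz, mul_inv_cancel_right]; exact key.2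
  · exfalso
    apply T.not_conj (g⁻¹ * u)
    rw [← h]; group

/-- cubes of `s d` for an involution-like `s` in the centraliser of `τ z` -/
theorem cube_sd (T : Twist F τ z d) {s : G} (hsc : s * (τ * z) = τ * z * s)
    (hsv : F.signV sgnPerm s = 1) (hs4 : s ^ 4 = 1) :
    s * d * (s * d) * (s * d) = 1 ∨ s * d * (s * d) * (s * d) = τ * z := by
  classical
  haveI : Fact (Nat.Prime 3) := ⟨Nat.prime_three⟩
  obtain ⟨-, -, hval⟩ := T.signV_facts
  have hcr : F.Rel (τ * z) (τ₀ * z₀) := T.hτ.mul T.hz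
  let Y : Subgroup G := centralizer {τ * z} ⊓ (F.signV sgnPerm).ker
  have hsY : s ∈ Y := ⟨mem_centralizer_singleton_iff.mpr hsc, MonoidHom.mem_ker.mpr hsv⟩
  have hYsix : ∀ y ∈ Y, ∀ w, F.Rel y w → Six w := fun y hy w hw =>
    six_of_comm w (T.mem_set hw) ((hw.comm_iff hcr).mp (mem_centralizer_singleton_iff.mp hy.1))
      ((hval hw).symm.trans (MonoidHom.mem_ker.mp hy.2))
  have hdY : d ∈ Y := ⟨mem_centralizer_singleton_iff.mpr ((T.hd.comm_iff hcr).mpr
    tz_facts.2.2.2.2.1), MonoidHom.mem_ker.mpr (Frame.sign_eq_one_of_ninth (by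
      have e3 : d ^ 3 = 1 := by
        rw [pow_succ, pow_two, Frame.J_cube (T.hd.inJ_iff.mpr x₀_facts.2.2.1)]
      rw [show (9 : ℕ) = 3 * 3 from rfl, pow_mul, e3, one_pow]))⟩
  have hcY : τ * z ∈ Y := ⟨mem_centralizer_singleton_iff.mpr rfl, MonoidHom.mem_ker.mpr (by
    rw [hval hcr, tz_facts.2.2.2.2.2.1, tz_facts.2.2.2.2.2.2.1]; decide)⟩
  let H : Subgroup Y := F.N.subgroupOf Y
  let wv : H → W := fun n => F.ι ⟨((n : Y) : G), mem_subgroupOf.mp n.2⟩
  have hwv : ∀ n : H, F.Rel ((n : Y) : G) (wv n) := fun n => ⟨_, rfl⟩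
  have hsix : ∀ n : H, Six (wv n) := fun n => hYsix _ (n : Y).2 _ (hwv n)
  let ϕ : H →* Multiplicative (ZMod 3) :=
    MonoidHom.mk' (fun n => Multiplicative.ofAdd (dval (wv n))) fun m n => by
      rw [← ofAdd_add, ← six_hom _ (hsix m) _ (hsix n)]
      exact congrArg (fun w => Multiplicative.ofAdd (dval w))
        ((hwv (m * n)).unique ((hwv m).mul (hwv n)))
  haveI : H.FiniteIndex := finiteIndex_of_finite
  let V : Y →* Multiplicative (ZMod 3) := MonoidHom.transfer ϕ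
  have hd1 : d ≠ 1 := fun e => x₀_facts.2.2.2 (T.hd.eq_one_iff.mp e)
  have hdJ : d ∈ F.J := T.hd.inJ_iff.mpr x₀_facts.2.2.1
  have hd3 : d * d * d = 1 := Frame.J_cube hdJ
  let dY : Y := ⟨d, hdY⟩
  have hVd : V dY ≠ 1 := by
    rw [show V dY = ϕ ⟨dY, mem_subgroupOf.mpr T.hd.1⟩ from
      transfer_of_prime_single H ϕ 3 (Subtype.ext (by
        show d ^ 3 = 1
        rw [pow_succ, pow_two, hd3])) (mem_subgroupOf.mpr T.hd.1) fun k hk hkH => ?_]
    · intro e
      have e' : dval (wv ⟨dY, mem_subgroupOf.mpr T.hd.1⟩) = 0 := Multiplicative.ofAdd.injective e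
      rw [(hwv _).unique T.hd, six_consts.2.2.1] at e'
      exact one_ne_zero e'
    · exfalso
      apply hkH
      let kd : G := (k : G)⁻¹ * d * (k : G)
      obtain ⟨w, hw⟩ := F.rel_of_mem (show kd ∈ F.N from mem_subgroupOf.mp hk)
      have hkd3 : kd * kd * kd = 1 := by
        show (k : G)⁻¹ * d * k * ((k : G)⁻¹ * d * k) * ((k : G)⁻¹ * d * k) = 1
        rw [show (k : G)⁻¹ * d * k * ((k : G)⁻¹ * d * k) * ((k : G)⁻¹ * d * k) =
          (k : G)⁻¹ * (d * d * d) * k by group, hd3]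
        group
      have hJ := hw.inJ_iff.mpr ((six_facts w (hYsix kd (Subtype.prop (k⁻¹ * dY * k)) w hw)).1
        (((hw.mul hw).mul hw).eq_one_iff.mp hkd3))
      have := Frame.ti T.loc (g := (k : G)⁻¹) hdJ hd1 (by rwa [inv_inv])
      exact mem_subgroupOf.mpr (inv_inv (k : G) ▸ inv_mem this)
  have hexp : ∀ m : Multiplicative (ZMod 3), m ^ 3 = 1 := CentHyp.mult_three_cube
  let cY : Y := ⟨τ * z, hcY⟩
  have hVc : V cY = 1 := by
    have e : V cY ^ 2 = 1 := by
      rw [pow_two, ← map_mul, show cY * cY = 1 from Subtype.ext T.sq_c, map_one]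
    have e3 := hexp (V cY)
    rwa [pow_succ, e, one_mul] at e3
  let sY : Y := ⟨s, hsY⟩
  have hVs : V sY = 1 := by
    have e : V sY ^ 4 = 1 := by rw [← map_pow, show sY ^ 4 = 1 from Subtype.ext hs4, map_one]
    rwa [pow_succ, hexp, one_mul] at e
  -- the map on the kernel
  have hccent : ∀ y : Y, (y : G) * (τ * z) = τ * z * y := fun y =>
    mem_centralizer_singleton_iff.mp y.2.1
  have hker : ∀ m : Y, V m = 1 → (m : G) * d = d * m → m = 1 ∨ m = cY := by
    intro m hm1 hm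
    have hN : (m : G) ∈ F.N := T.loc d hdJ hd1 (mem_centralizer_singleton_iff.mpr hm)
    obtain ⟨w, hw⟩ := F.rel_of_mem hN
    have hcc : cY * cY = 1 := Subtype.ext T.sq_c
    rcases hYsix _ m.2 w hw with h | h | h | h | h | h
    · exact Or.inl (Subtype.ext (hw.eq_one_iff.mpr h))
    · refine absurd ?_ hVd
      rw [← hm1]; exact congrArg V (Subtype.ext (hw.eq (h ▸ T.hd)).symm)
    · refine absurd (inv_eq_one.mp ?_) hVd
      rw [← map_inv, ← hm1]
      exact congrArg V (Subtype.ext (hw.eq (h ▸ T.hd.inv)).symm)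
    · refine Or.inr ?_
      have e : m * cY = 1 := Subtype.ext ((hw.mul hcr).eq_one_iff.mpr h)
      rw [eq_inv_of_mul_eq_one_left e, inv_eq_of_mul_eq_one_left hcc]
    · refine absurd ?_ hVd
      rw [show dY = m * cY from Subtype.ext ((hw.mul hcr).eq (h ▸ T.hd)).symm, map_mul, hm1, hVc,
        one_mul]
    · refine absurd (inv_eq_one.mp ?_) hVd
      rw [← map_inv, show dY⁻¹ = m * cY from Subtype.ext ((hw.mul hcr).eq (h ▸ T.hd.inv)).symm,
        map_mul, hm1, hVc, one_mul]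
  let E : Subgroup V.ker := zpowers (⟨cY, MonoidHom.mem_ker.mpr hVc⟩ : V.ker)
  let rep : V.ker → V.ker := fun m => ((m : V.ker ⧸ E)).out
  have hrep : ∀ m : V.ker, (rep m)⁻¹ * m ∈ E := fun m =>
    QuotientGroup.eq.mp (QuotientGroup.out_eq' (m : V.ker ⧸ E))
  let Φ : V.ker → V.ker := fun m => ⟨(m : Y) * dY * (m : Y)⁻¹ * dY⁻¹ * ((rep m)⁻¹ * m : V.ker),
    MonoidHom.mem_ker.mpr (by
      rw [map_mul, map_mul, map_mul, map_mul, map_inv, map_inv,
        MonoidHom.mem_ker.mp (((rep m)⁻¹ * m : V.ker)).2, MonoidHom.mem_ker.mp m.2]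
      simp)⟩
  have hE : ∀ e ∈ E, ((e : Y) = 1 ∨ (e : Y) = cY) := by
    intro e he
    obtain ⟨i, rfl⟩ := mem_zpowers_iff.mp he
    rw [SubgroupClass.coe_zpow]
    rcases Int.even_or_odd' i with ⟨n, rfl | rfl⟩
    · left; rw [zpow_mul, zpow_two, show cY * cY = 1 from Subtype.ext T.sq_c, one_zpow]
    · right; rw [zpow_add, zpow_mul, zpow_two, show cY * cY = 1 from Subtype.ext T.sq_c, one_zpow,
        one_mul, zpow_one]
  have hΦ : Function.Injective Φ := by
    intro m m' e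
    have e' : (m : Y) * dY * (m : Y)⁻¹ * dY⁻¹ * ((rep m)⁻¹ * m : V.ker) =
        (m' : Y) * dY * (m' : Y)⁻¹ * dY⁻¹ * ((rep m')⁻¹ * m' : V.ker) := congrArg Subtype.val e
    have hcen : ∀ e ∈ E, ∀ y : Y, (e : Y) * y = y * (e : Y) := fun e he y => by
      rcases hE e he with h | h <;> rw [h]
      · rw [one_mul, mul_one]
      · exact Subtype.ext (hccent y).symm
    -- cubing separates the conjugates
    have hq : ∀ {a b : Y} (ea eb : Y), (ea = 1 ∨ ea = cY) → (eb = 1 ∨ eb = cY) → a * a * a = 1 →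
        b * b * b = 1 → a * ea = b * eb → a = b ∧ ea = eb := by
      intro a b ea eb hea heb ha hb h
      have cube : ∀ (q e : Y), (e = 1 ∨ e = cY) → q * q * q = 1 →
          q * e * (q * e) * (q * e) = e := by
        intro q e he hq3
        rcases he with rfl | rfl
        · simpa using hq3
        · exact mul_cube_central (Subtype.ext (hccent q)) (Subtype.ext T.sq_c) hq3
      have he : ea = eb := by rw [← cube a ea hea ha, ← cube b eb heb hb, h]
      exact ⟨mul_right_cancel (he ▸ h : a * eb = b * eb), he⟩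
    have hd3' : dY * dY * dY = 1 := Subtype.ext hd3
    have conj3 : ∀ q : Y, q * dY * q⁻¹ * (q * dY * q⁻¹) * (q * dY * q⁻¹) = 1 := fun q => by
      rw [show q * dY * q⁻¹ * (q * dY * q⁻¹) * (q * dY * q⁻¹) = q * (dY * dY * dY) * q⁻¹ by group,
        hd3']
      group
    have e'' : (m : Y) * dY * (m : Y)⁻¹ * ((rep m)⁻¹ * m : V.ker) =
        (m' : Y) * dY * (m' : Y)⁻¹ * ((rep m')⁻¹ * m' : V.ker) := by
      have h1 := hcen _ (hrep m) dY
      have h2 := hcen _ (hrep m') dY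
      calc _ = (m : Y) * dY * (m : Y)⁻¹ * dY⁻¹ *
            (dY * (((rep m)⁻¹ * m : V.ker) : Y)) := by group
        _ = (m : Y) * dY * (m : Y)⁻¹ * dY⁻¹ * (((rep m)⁻¹ * m : V.ker) : Y) * dY := by
            rw [← h1]; group
        _ = (m' : Y) * dY * (m' : Y)⁻¹ * dY⁻¹ * (((rep m')⁻¹ * m' : V.ker) : Y) * dY := by
            rw [e']
        _ = (m' : Y) * dY * (m' : Y)⁻¹ * dY⁻¹ * (dY * (((rep m')⁻¹ * m' : V.ker) : Y)) := by
            rw [← h2]; group
        _ = _ := by group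
    obtain ⟨hcj, hee⟩ := hq _ _ (hE _ (hrep m)) (hE _ (hrep m')) (conj3 m) (conj3 m') e''
    have hcomm : ((m' : Y)⁻¹ * m) * dY = dY * ((m' : Y)⁻¹ * m) := by
      calc (m' : Y)⁻¹ * m * dY = (m' : Y)⁻¹ * ((m : Y) * dY * (m : Y)⁻¹) * m := by group
        _ = dY * ((m' : Y)⁻¹ * m) := by rw [hcj]; group
    have hmem : m'⁻¹ * m ∈ E := by
      rcases hker ((m' : Y)⁻¹ * m) (MonoidHom.mem_ker.mp (m'⁻¹ * m).2)
        (congrArg Subtype.val hcomm) with h | h
      · rw [show m'⁻¹ * m = 1 from Subtype.ext h]; exact one_mem _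
      · rw [show m'⁻¹ * m = ⟨cY, MonoidHom.mem_ker.mpr hVc⟩ from Subtype.ext h]
        exact mem_zpowers _
    have hrr : rep m' = rep m := congrArg Quotient.out (QuotientGroup.eq.mpr hmem)
    have he2 : (rep m)⁻¹ * m = (rep m')⁻¹ * m' := Subtype.ext hee
    rw [hrr] at he2
    exact mul_left_cancel he2
  obtain ⟨m, hm⟩ := (Finite.injective_iff_surjective.mp hΦ) ⟨sY, MonoidHom.mem_ker.mpr hVs⟩
  have hm' : (m : Y) * dY * (m : Y)⁻¹ * dY⁻¹ * ((rep m)⁻¹ * m : V.ker) = sY :=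
    congrArg Subtype.val hm
  have hee := hE _ (hrep m)
  set e : Y := (((rep m)⁻¹ * m : V.ker) : Y)
  have hsd : sY * dY = (m : Y) * dY * (m : Y)⁻¹ * e := by
    have hce : e * dY = dY * e := by
      rcases hee with h | h <;> rw [h]
      · rw [one_mul, mul_one]
      · exact Subtype.ext (hccent dY).symm
    rw [← hm', mul_assoc _ e dY, hce]; group
  have hG : s * d = ((m : Y) : G) * d * ((m : Y) : G)⁻¹ * (e : G) := congrArg Subtype.val hsd
  rcases hee with h | h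
  · left
    rw [hG, h, OneMemClass.coe_one, mul_one]
    rw [show ((m : Y) : G) * d * ((m : Y) : G)⁻¹ * (((m : Y) : G) * d * ((m : Y) : G)⁻¹) *
      (((m : Y) : G) * d * ((m : Y) : G)⁻¹) = ((m : Y) : G) * (d * d * d) * ((m : Y) : G)⁻¹ by group,
      hd3]
    group
  · right
    rw [hG, h]
    show ((m : Y) : G) * d * ((m : Y) : G)⁻¹ * (τ * z) * _ * _ = τ * z
    have hcd := hccent ((m : Y) * dY * (m : Y)⁻¹)
    exact mul_cube_central hcd T.sq_c (by
      rw [show ((m : Y) : G) * d * ((m : Y) : G)⁻¹ * (((m : Y) : G) * d * ((m : Y) : G)⁻¹) *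
        (((m : Y) : G) * d * ((m : Y) : G)⁻¹) = ((m : Y) : G) * (d * d * d) * ((m : Y) : G)⁻¹ by group,
        hd3]
      group)

/-- the data of a swap -/
structure Swap (F : Frame G) (τ z s : G) : Prop where
  tz : s * τ * s⁻¹ = z
  zt : s * z * s⁻¹ = τ
  sign : F.signV sgnPerm s = 1

theorem swap_comm {s : G} (T : Twist F τ z d) (hs : Swap F τ z s) :
    s * (τ * z) = τ * z * s := by
  calc s * (τ * z) = s * τ * s⁻¹ * (s * z * s⁻¹) * s := by group
    _ = τ * z * s := by rw [hs.tz, hs.zt, T.comm_tz]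

theorem tau_conj_d (T : Twist F τ z d) : τ * d * τ = d⁻¹ :=
  ((T.hτ.mul T.hd).mul T.hτ).eq (tz_facts.2.2.2.1 ▸ T.hd.inv)

theorem swap_sq {s : G} (T : Twist F τ z d) (hs : Swap F τ z s) : s * s = τ * z := by
  have hc := T.swap_comm hs
  have h1 : s * s * τ = τ * (s * s) := by
    calc s * s * τ = s * (s * τ * s⁻¹) * s⁻¹ * (s * s) := by group
      _ = τ * (s * s) := by rw [hs.tz, hs.zt]
  have h2 : s * s * z = z * (s * s) := by
    calc s * s * z = s * (s * z * s⁻¹) * s⁻¹ * (s * s) := by group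
      _ = z * (s * s) := by rw [hs.zt, hs.tz]
  have hne : s * τ ≠ τ * s := fun e => by
    have h3 := hs.tz
    rw [e, mul_inv_cancel_right] at h3
    exact tz_facts.2.2.2.2.2.2.2.2.2.2.2.2.2.1 (T.hz.unique (h3 ▸ T.hτ))
  have hcomm : s * (s * s) = s * s * s := by group
  rcases T.cent_four h1 h2 with e | e | e | e
  rotate_left
  · rw [e] at hcomm; exact absurd hcomm hne
  · rw [e] at hcomm
    refine absurd ?_ hne
    calc s * τ = s * τ * s⁻¹ * s := by group
      _ = z * s := by rw [hs.tz]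
      _ = s * z := hcomm.symm
      _ = s * z * s⁻¹ * s := by group
      _ = τ * s := by rw [hs.zt]
  · exact e
  exfalso
  -- `s` is an involution
  have hsi : s⁻¹ = s := inv_eq_of_mul_eq_one_right e
  have hτs : τ * s * τ = s * (τ * z) := by
    calc τ * s * τ = τ * (s * τ * s⁻¹) * s := by group
      _ = τ * z * s := by rw [hs.tz]
      _ = s * (τ * z) := hc.symm
  have hs4 : s ^ 4 = 1 := by
    rw [show (4 : ℕ) = 2 + 2 from rfl, pow_add, pow_two, e, one_mul]
  have hcube := T.cube_sd hc hs.sign hs4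
  have hd3 : d * d * d = 1 := Frame.J_cube (T.hd.inJ_iff.mpr x₀_facts.2.2.1)
  have hdinv : d⁻¹ = d * d := inv_eq_of_mul_eq_one_right (by rw [← mul_assoc, hd3])
  have hcd : τ * z * d = d * (τ * z) :=
    ((T.hd.comm_iff (T.hτ.mul T.hz)).mpr tz_facts.2.2.2.2.1).symm
  set c := τ * z with hcdef
  let q₁ := d * s * d⁻¹
  let q₂ := d⁻¹ * s * d
  obtain ⟨ζ, hζdef⟩ : ∃ ζ, s * d * (s * d) * (s * d) = ζ := ⟨_, rfl⟩
  rw [hζdef] at hcube
  have hζ : s * q₁ * q₂ = ζ := by
    show s * (d * s * d⁻¹) * (d⁻¹ * s * d) = _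
    rw [show s * (d * s * d⁻¹) * (d⁻¹ * s * d) = s * d * s * (d⁻¹ * d⁻¹) * s * d by group,
      show d⁻¹ * d⁻¹ = d by rw [hdinv, show d * d * (d * d) = d * d * d * d by group, hd3, one_mul],
      ← hζdef]
    simp only [mul_assoc]
  have hq₁ : q₁ * q₁ = 1 := by
    show d * s * d⁻¹ * (d * s * d⁻¹) = 1
    rw [show d * s * d⁻¹ * (d * s * d⁻¹) = d * (s * s) * d⁻¹ by group, e]; group
  have hq₂ : q₂ * q₂ = 1 := by
    show d⁻¹ * s * d * (d⁻¹ * s * d) = 1
    rw [show d⁻¹ * s * d * (d⁻¹ * s * d) = d⁻¹ * (s * s) * d by group, e]; group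
  have hζc : ∀ g, (g * c = c * g) → g * ζ = ζ * g := fun g hg => by
    rcases hcube with h | h <;> rw [h]
    · rw [one_mul, mul_one]
    · exact hg
  have hζsq : ζ * ζ = 1 := by
    rcases hcube with h | h <;> rw [h]
    · rw [one_mul]
    · exact T.sq_c
  have hcd' : d⁻¹ * c = c * d⁻¹ := ((Commute.inv_left (show Commute d c from hcd.symm)))
  have hτd : τ * d⁻¹ * τ = d := by
    rw [← T.tau_conj_d]
    have := Frame.tau_sq T.hτ
    rw [show τ * (τ * d * τ) * τ = τ * τ * d * (τ * τ) by group, this, one_mul, mul_one]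
  have ht : ∀ a b : G, τ * (a * b) * τ = τ * a * τ * (τ * b * τ) := fun a b => by
    rw [show τ * a * τ * (τ * b * τ) = τ * a * (τ * τ) * b * τ by group, Frame.tau_sq T.hτ]
    group
  have htq₁ : τ * q₁ * τ = q₂ * c := by
    show τ * (d * s * d⁻¹) * τ = d⁻¹ * s * d * c
    rw [ht, ht, T.tau_conj_d, hτs, hτd, mul_assoc (d⁻¹ * s) d c, ← hcd]
    group
  have htq₂ : τ * q₂ * τ = q₁ * c := by
    show τ * (d⁻¹ * s * d) * τ = d * s * d⁻¹ * c
    rw [ht, ht, T.tau_conj_d, hτs, hτd, mul_assoc (d * s) d⁻¹ c, hcd']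
    group
  have hτc : τ * c = c * τ := by
    rw [hcdef, ← mul_assoc, mul_assoc (τ) z τ, T.comm_tz, ← mul_assoc]
  have hτζ : τ * ζ * τ = ζ := by
    rw [hζc τ hτc, mul_assoc, Frame.tau_sq T.hτ, mul_one]
  rw [← hζ, ht, ht, htq₁, htq₂, hτs] at hτζ
  -- now `q₁ q₂` is an involution
  have hc₁ : c * q₁ = q₁ * c := by
    show c * (d * s * d⁻¹) = d * s * d⁻¹ * c
    rw [show c * (d * s * d⁻¹) = c * d * s * d⁻¹ by group, hcd, mul_assoc d c s, ← hc,
      mul_assoc (d * s) d⁻¹ c, hcd']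
    group
  have hc₂ : c * q₂ = q₂ * c := by
    show c * (d⁻¹ * s * d) = d⁻¹ * s * d * c
    rw [show c * (d⁻¹ * s * d) = c * d⁻¹ * s * d by group, ← hcd', mul_assoc d⁻¹ c s, ← hc,
      mul_assoc (d⁻¹ * s) d c, ← hcd]
    group
  have hq21 : q₁ * q₂ = q₂ * q₁ * c := by
    have h4 : s * c * (q₂ * c) * (q₁ * c) = s * (q₂ * q₁ * c) := by
      calc s * c * (q₂ * c) * (q₁ * c) = s * (c * q₂) * (c * q₁) * c := by group
        _ = s * q₂ * (c * (q₁ * c)) * c := by rw [hc₂, hc₁]; group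
        _ = s * q₂ * (c * q₁) * (c * c) := by group
        _ = s * (q₂ * q₁ * c) := by rw [hc₁, T.sq_c]; group
    rw [h4] at hτζ
    exact mul_left_cancel (show s * (q₁ * q₂) = s * (q₂ * q₁ * c) by rw [← mul_assoc, hτζ, mul_assoc])
  have hinv : q₁ * q₂ * (q₁ * q₂) = 1 := by
    have e12 : q₁ * q₂ = s * ζ := by
      calc q₁ * q₂ = s * s * (q₁ * q₂) := by rw [e, one_mul]
        _ = s * ζ := by rw [← hζ]; simp only [mul_assoc]
    rw [e12, show s * ζ * (s * ζ) = s * (ζ * s) * ζ by group, ← hζc s hc,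
      show s * (s * ζ) * ζ = s * s * (ζ * ζ) by group, e, hζsq, one_mul]
  have hcc : c = 1 := by
    have h5 : q₁ * q₂ = q₂ * q₁ := by
      calc q₁ * q₂ = (q₁ * q₂)⁻¹ := (inv_eq_of_mul_eq_one_right hinv).symm
        _ = q₂ * q₁ := by
          rw [mul_inv_rev, inv_eq_of_mul_eq_one_right hq₁, inv_eq_of_mul_eq_one_right hq₂]
    rw [h5] at hq21
    exact (left_eq_mul.mp hq21)
  exact tz_facts.1 ((T.hτ.mul T.hz).eq_one_iff.mp hcc)

/-- conjugate to `τ z` -/
abbrev InClass (τ z x : G) : Prop := ∃ h : G, h * (τ * z) * h⁻¹ = x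

theorem class_sq {x : G} (T : Twist F τ z d) (hx : InClass τ z x) : x * x = 1 := by
  obtain ⟨h, rfl⟩ := hx
  rw [show h * (τ * z) * h⁻¹ * (h * (τ * z) * h⁻¹) = h * (τ * z * (τ * z)) * h⁻¹ by group, T.sq_c]
  group

omit [Finite G] in
theorem class_conj {x : G} (hx : InClass τ z x) (g : G) : InClass τ z (g * x * g⁻¹) := by
  obtain ⟨h, rfl⟩ := hx
  exact ⟨g * h, by group⟩

theorem class_ne_tau {x : G} (T : Twist F τ z d) (hx : InClass τ z x) (g : G) :
    g * x * g⁻¹ ≠ τ := by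
  obtain ⟨h, rfl⟩ := hx
  intro e
  exact T.not_conj (g * h) (Eq.trans (by group) e)

theorem class_ne_z {x : G} (T : Twist F τ z d) (hx : InClass τ z x) (g : G) :
    g * x * g⁻¹ ≠ z := by
  obtain ⟨k, hk⟩ := T.conj
  exact fun e => T.class_ne_tau hx (k * g) (by rw [← hk, ← e]; group)

omit [Finite G] in
theorem dihedral_cases [Finite G] {a b : G} (ha : a * a = 1) (hb : b * b = 1) :
    (∃ k, k * b * k⁻¹ = a) ∨ ∃ i e : G, i ≠ 1 ∧ i * i = 1 ∧ i * a = a * i ∧ i * b = b * i ∧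
      (∀ g, g * a = a * g → g * b = b * g → g * i = i * g ∧ g * e = e * g) ∧
      ((∃ k, k * b * k⁻¹ = i * a) ∨ (e * e = i ∧ a * e * a = e⁻¹ ∧ b * e * b = e⁻¹)) := by
  have hai : a⁻¹ = a := inv_eq_of_mul_eq_one_right ha
  have hbi : b⁻¹ = b := inv_eq_of_mul_eq_one_right hb
  obtain ⟨r, hr⟩ : ∃ r, r = a * b := ⟨_, rfl⟩
  have hra : ∀ n : ℕ, a * r ^ n * a = (r ^ n)⁻¹ := fun n => by
    rw [← inv_pow, show r⁻¹ = a * r * a⁻¹ by rw [hr, mul_inv_rev, hbi, hai, ← mul_assoc, ha, one_mul],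
      conj_pow, hai]
  have hrb : ∀ n : ℕ, b * r ^ n * b = (r ^ n)⁻¹ := fun n => by
    rw [← inv_pow, show r⁻¹ = b * r * b⁻¹ by
      rw [hr, mul_inv_rev, hbi, hai, mul_assoc b (a * b) b, mul_assoc a b b, hb, mul_one],
      conj_pow, hbi]
  have hconj : ∀ m : ℕ, r ^ m * b * (r ^ m)⁻¹ = r ^ (m + m) * b := fun m => by
    rw [← hrb, pow_add, show r ^ m * b * (b * r ^ m * b) = r ^ m * (b * b) * r ^ m * b by group, hb,
      mul_one]
  have hrab : r * b = a := by rw [hr, mul_assoc, hb, mul_one]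
  rcases Nat.even_or_odd' (orderOf r) with ⟨k, hk | hk⟩
  · right
    have hii : r ^ k * r ^ k = 1 := by rw [← pow_add, ← two_mul, ← hk, pow_orderOf_eq_one]
    have hk0 : k ≠ 0 := fun e => (orderOf_pos r).ne' (by omega)
    have hcomm : ∀ g, g * a = a * g → g * b = b * g → ∀ n : ℕ, g * r ^ n = r ^ n * g :=
      fun g h1 h2 n => by
        have h : Commute g r := hr.symm ▸ (show Commute g a from h1).mul_right h2
        exact h.pow_right n
    obtain ⟨m, hm | hm⟩ := Nat.even_or_odd' k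
    all_goals refine ⟨r ^ k, r ^ m, ?_, hii, ?_, ?_, fun g h1 h2 => ⟨hcomm g h1 h2 k, hcomm g h1 h2 m⟩, ?_⟩
    all_goals
      first
        | exact pow_ne_one_of_lt_orderOf hk0 (by omega)
        | (calc r ^ k * a = a * a * (r ^ k * a) := by rw [ha, one_mul]
             _ = a * (a * r ^ k * a) := by simp only [mul_assoc]
             _ = a * r ^ k := by rw [hra, inv_eq_of_mul_eq_one_right hii])
        | (calc r ^ k * b = b * b * (r ^ k * b) := by rw [hb, one_mul]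
             _ = b * (b * r ^ k * b) := by simp only [mul_assoc]
             _ = b * r ^ k := by rw [hrb, inv_eq_of_mul_eq_one_right hii])
        | skip
    · exact Or.inr ⟨by rw [← pow_add, ← two_mul, hm], hra m, hrb m⟩
    · refine Or.inl ⟨r ^ (m + 1), ?_⟩
      rw [hconj, show m + 1 + (m + 1) = k + 1 by omega, pow_succ, mul_assoc, hrab]
  · refine Or.inl ⟨r ^ (k + 1), ?_⟩
    rw [hconj, show k + 1 + (k + 1) = orderOf r + 1 by omega, pow_succ, pow_orderOf_eq_one, one_mul,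
      hrab]

/-- the class of `τ z` meets the centraliser of `τ z` only in `τ z` -/
theorem no_mate {x s : G} (T : Twist F τ z d) (hs : Swap F τ z s) (hx : InClass τ z x)
    (hxc : x * (τ * z) = τ * z * x) : x = τ * z := by
  by_contra hne
  have hτ2 := Frame.tau_sq T.hτ
  have hsc := T.swap_comm hs
  have hss := T.swap_sq hs
  have hcz : ∀ g, g * τ = τ * g → g * (τ * z) = τ * z * g → g * z = z * g := fun g h1 h2 => by
    calc g * z = g * τ * τ⁻¹ * z := by group
      _ = g * τ * (τ * z) := by rw [inv_eq_of_mul_eq_one_right hτ2]; group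
      _ = τ * (g * (τ * z)) := by rw [h1]; group
      _ = τ * τ * z * g := by rw [h2]; group
      _ = z * g := by rw [hτ2, one_mul]
  have inverts : ∀ y : G, InClass τ z y → y * (τ * z) = τ * z * y → y ≠ τ * z →
      y * s * y = s⁻¹ := by
    intro y hy hyc hyne
    have hy1 : y ≠ 1 := by
      rintro rfl
      obtain ⟨h, hh⟩ := hy
      exact tz_facts.1 ((T.hτ.mul T.hz).eq_one_iff.mp (conj_eq_one_iff.mp hh))
    have hyτ : y * τ ≠ τ * y := fun e => by
      rcases T.cent_four e (hcz y e hyc) with h | h | h | h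
      · exact hy1 h
      · exact T.class_ne_tau hy 1 (by simpa using h)
      · exact T.class_ne_z hy 1 (by simpa using h)
      · exact hyne h
    rcases dihedral_cases hτ2 (T.class_sq hy) with ⟨k, hk⟩ | ⟨i, e, hi1, -, hia, hib, hcom, hcase⟩
    · exact absurd hk (T.class_ne_tau hy k)
    have hcτ : τ * z * τ = τ * (τ * z) := by rw [mul_assoc τ z τ, T.comm_tz]
    obtain ⟨hci, hce⟩ := hcom (τ * z) hcτ hyc.symm
    have hic : i = τ * z := by
      rcases T.cent_four hia (hcz i hia hci.symm) with h | h | h | h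
      · exact absurd h hi1
      · exact absurd (h ▸ hib).symm hyτ
      · refine absurd ?_ hyτ
        rw [h] at hib
        calc y * τ = y * (τ * z) * z⁻¹ := by group
          _ = τ * z * y * z := by rw [hyc, inv_eq_of_mul_eq_one_right T.sqz]
          _ = τ * z * z * y := by rw [mul_assoc (τ * z) y z, ← hib]; group
          _ = τ * y := by rw [mul_assoc τ z z, T.sqz, mul_one]
      · exact h
    rcases hcase with ⟨k, hk⟩ | ⟨hee, heτ, hey⟩
    · refine absurd (hk.trans ?_) (T.class_ne_z hy k)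
      rw [hic, hcτ, ← mul_assoc, hτ2, one_mul]
    have h1 : e * s⁻¹ * τ = τ * (e * s⁻¹) := by
      have he' : τ * e = e⁻¹ * τ := by
        rw [← heτ, mul_assoc (τ * e), hτ2, mul_one]
      have hez : e⁻¹ * τ * e = z := by
        calc e⁻¹ * τ * e = τ * (e * e) := by rw [← he']; group
          _ = z := by rw [hee, hic, ← mul_assoc, hτ2, one_mul]
      calc e * s⁻¹ * τ = e * (s⁻¹ * τ * s) * s⁻¹ := by group
        _ = e * z * s⁻¹ := by rw [show s⁻¹ * τ * s = z by rw [← hs.zt]; group]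
        _ = τ * (e * s⁻¹) := by rw [← hez]; group
    have h2 : e * s⁻¹ * (τ * z) = τ * z * (e * s⁻¹) := by
      have : Commute (τ * z) (e * s⁻¹) :=
        (show Commute (τ * z) e from hce).mul_right (show Commute (τ * z) s from hsc.symm).inv_right
      exact this.eq.symm
    have hsq : ∀ w : G, w * w = 1 → w * (s * w * s⁻¹) = τ * z → e ≠ w * s := by
      rintro w - hw rfl
      rw [show w * s * (w * s) = w * (s * w * s⁻¹) * (s * s) by group, hw, hss, T.sq_c] at hee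
      exact hi1 hee.symm
    rcases T.cent_four h1 (hcz _ h1 h2) with h | h | h | h
    · rw [mul_inv_eq_one.mp h] at hey; exact hey
    · exact absurd (mul_inv_eq_iff_eq_mul.mp h) (hsq τ hτ2 (by rw [hs.tz]))
    · exact absurd (mul_inv_eq_iff_eq_mul.mp h) (hsq z T.sqz (by rw [hs.zt, T.comm_tz]))
    · rw [mul_inv_eq_iff_eq_mul.mp h] at hey
      have hci' : (τ * z)⁻¹ = τ * z := inv_eq_of_mul_eq_one_right T.sq_c
      calc y * s * y = (τ * z)⁻¹ * (τ * z * y) * s * y := by group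
        _ = (τ * z)⁻¹ * (y * (τ * z * s) * y) := by rw [← hyc]; group
        _ = s⁻¹ := by
          rw [hey, hci', mul_inv_rev, hci', (show Commute s (τ * z) from hsc).inv_left.eq,
            ← mul_assoc, T.sq_c, one_mul]
  have hcd : d * (τ * z) = τ * z * d := (T.hd.comm_iff (T.hτ.mul T.hz)).mpr tz_facts.2.2.2.2.1
  have inv_conj : ∀ g : G, g * (τ * z) = τ * z * g →
      x * (g * s * g⁻¹) * x = (g * s * g⁻¹)⁻¹ := by
    intro g hg
    have hg' : g⁻¹ * (τ * z) = τ * z * g⁻¹ := (show Commute g (τ * z) from hg).inv_left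
    have h := inverts (g⁻¹ * x * g) (by simpa using class_conj hx g⁻¹) (by
      calc g⁻¹ * x * g * (τ * z) = g⁻¹ * (x * (τ * z)) * g := by
            rw [mul_assoc (g⁻¹ * x), hg]; group
        _ = g⁻¹ * (τ * z) * x * g := by rw [hxc]; group
        _ = τ * z * (g⁻¹ * x * g) := by rw [hg']; group) (fun e => hne (by
      calc x = g * (g⁻¹ * x * g) * g⁻¹ := by group
        _ = g * (τ * z) * g⁻¹ := by rw [e]
        _ = τ * z := by rw [hg, mul_inv_cancel_right]))
    calc x * (g * s * g⁻¹) * x = g * (g⁻¹ * x * g * s * (g⁻¹ * x * g)) * g⁻¹ := by group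
      _ = (g * s * g⁻¹)⁻¹ := by rw [h]; group
  have hd3 : d * d * d = 1 := Frame.J_cube (T.hd.inJ_iff.mpr x₀_facts.2.2.1)
  have hs4 : s ^ 4 = 1 := by
    rw [show (4 : ℕ) = 2 + 2 from rfl, pow_add, pow_two, hss, T.sq_c]
  have hcube := T.cube_sd hsc hs.sign hs4
  have i0 := inv_conj 1 (by simp)
  have i1 := inv_conj d hcd
  have i2 := inv_conj d⁻¹ ((show Commute d (τ * z) from hcd).inv_left)
  simp only [one_mul, inv_one, mul_one] at i0
  rw [inv_inv] at i2
  obtain ⟨ζ, hζdef⟩ : ∃ ζ, s * d * (s * d) * (s * d) = ζ := ⟨_, rfl⟩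
  rw [hζdef] at hcube
  have hζ : s * (d * s * d⁻¹) * (d⁻¹ * s * d) = ζ := by
    have hdd : d⁻¹ * d⁻¹ = d := by
      rw [← mul_inv_rev]; exact inv_eq_of_mul_eq_one_right hd3
    rw [← hζdef, show s * (d * s * d⁻¹) * (d⁻¹ * s * d) = s * d * s * (d⁻¹ * d⁻¹) * s * d by group,
      hdd]
    simp only [mul_assoc]
  have hxx := T.class_sq hx
  have hsi : s⁻¹ = τ * z * s := by
    refine inv_eq_of_mul_eq_one_right ?_
    rw [← mul_assoc, hsc, mul_assoc, hss, T.sq_c]
  have hx3 : x * ζ * x = s⁻¹ * (d * s * d⁻¹)⁻¹ * (d⁻¹ * s * d)⁻¹ := by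
    rw [← i0, ← i1, ← i2, ← hζ]
    calc x * (s * (d * s * d⁻¹) * (d⁻¹ * s * d)) * x =
        x * s * 1 * (d * s * d⁻¹) * 1 * (d⁻¹ * s * d) * x := by simp only [mul_one, mul_assoc]
      _ = _ := by rw [← hxx]; simp only [mul_assoc]
  have hfix : x * ζ * x = ζ := by
    rcases hcube with h | h <;> rw [h]
    · rw [mul_one, hxx]
    · rw [hxc, mul_assoc, hxx, mul_one]
  have hq : ∀ g : G, g * (τ * z) = τ * z * g → (g * s * g⁻¹)⁻¹ = τ * z * (g * s * g⁻¹) := by
    intro g hg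
    rw [show (g * s * g⁻¹)⁻¹ = g * s⁻¹ * g⁻¹ by group, hsi, ← mul_assoc g, hg]; group
  have hdinv := hq d⁻¹ ((show Commute d (τ * z) from hcd).inv_left)
  rw [inv_inv] at hdinv
  rw [hfix, hsi, hq d hcd, hdinv] at hx3
  obtain ⟨c, hc⟩ : ∃ c, τ * z = c := ⟨_, rfl⟩
  have hc1 : Commute c s := hc ▸ hsc.symm
  have hc2 : Commute c (d * s * d⁻¹) := by
    have hdc : Commute c d := hc ▸ hcd.symm
    exact (hdc.mul_right hc1).mul_right hdc.inv_right
  rw [hc] at hx3
  have key : c * s * (c * (d * s * d⁻¹)) * (c * (d⁻¹ * s * d)) = c * ζ := by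
    calc c * s * (c * (d * s * d⁻¹)) * (c * (d⁻¹ * s * d))
        = c * (s * c) * ((d * s * d⁻¹) * c) * (d⁻¹ * s * d) := by group
      _ = c * c * c * (s * (d * s * d⁻¹) * (d⁻¹ * s * d)) := by
          rw [← hc1.eq, ← hc2.eq]
          calc c * (c * s) * (c * (d * s * d⁻¹)) * (d⁻¹ * s * d)
              = c * c * (s * c) * (d * s * d⁻¹) * (d⁻¹ * s * d) := by group
            _ = _ := by rw [← hc1.eq]; group
      _ = c * ζ := by rw [hζ, ← hc, T.sq_c, one_mul]
  rw [key, right_eq_mul, ← hc] at hx3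
  exact tz_facts.1 ((T.hτ.mul T.hz).eq_one_iff.mp hx3)

/-- The configuration is impossible. -/
theorem false (T : Twist F τ z d) : False := by
  classical
  obtain ⟨s, hst, hsz, hsv⟩ := T.exists_swap
  have hs : Swap F τ z s := ⟨hst, hsz, hsv⟩
  have hτ2 := Frame.tau_sq T.hτ
  have hzc : z * (τ * z) = τ * z * z := by rw [← mul_assoc, T.comm_tz]
  have hτc : τ * z * τ = τ * (τ * z) := by rw [mul_assoc τ z τ, T.comm_tz]
  obtain ⟨hfτ, hfz, hfN⟩ := T.signV_facts
  let A : Subgroup G := F.J ⊓ centralizer {τ}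
  have hA : Nat.card A = 9 := by
    rw [← card_U]
    exact F.card_eq_filter A (inf_le_left.trans le_normalizer)
      (fun g w h => and_congr h.inJ_iff (Frame.mem_cent_iff h T.hτ))
      (fun w hw => Or.inl (negs_of_inJ w hw.1))
  have hAτ : ∀ u : A, (u : G) * τ = τ * u := fun u => mem_centralizer_singleton_iff.mp u.2.2
  have hsτ : s⁻¹ * τ * s = z := by rw [← hsz]; group
  let Ψ : A × A → G := fun p =>
    (p.1 : G) * (s⁻¹ * ((p.2 : G) * (τ * z) * (p.2 : G)⁻¹) * s) * (p.1 : G)⁻¹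
  have hΨclass : ∀ p, InClass τ z (Ψ p) := fun p =>
    ⟨(p.1 : G) * s⁻¹ * p.2, by show _ = _ * (_ * _ * _) * _; group⟩
  have hΨcomm : ∀ p, Ψ p * ((p.1 : G) * z * (p.1 : G)⁻¹) = (p.1 : G) * z * (p.1 : G)⁻¹ * Ψ p := by
    intro p
    have h1 : Commute ((p.2 : G) * (τ * z) * (p.2 : G)⁻¹) τ :=
      ((show Commute (p.2 : G) τ from hAτ p.2).mul_left (show Commute (τ * z) τ from hτc)).mul_left
        (show Commute (p.2 : G) τ from hAτ p.2).inv_left
    simp only [Ψ]
    calc (p.1 : G) * (s⁻¹ * ((p.2 : G) * (τ * z) * (p.2 : G)⁻¹) * s) * (p.1 : G)⁻¹ *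
          ((p.1 : G) * z * (p.1 : G)⁻¹)
        = (p.1 : G) * (s⁻¹ * ((p.2 : G) * (τ * z) * (p.2 : G)⁻¹ * τ) * s) * (p.1 : G)⁻¹ := by
          rw [← hsτ]; group
      _ = (p.1 : G) * (s⁻¹ * (τ * ((p.2 : G) * (τ * z) * (p.2 : G)⁻¹)) * s) * (p.1 : G)⁻¹ := by
          rw [h1.eq]
      _ = _ := by rw [← hsτ]; group
  have hinv : ∀ j ∈ F.J, z * j * z = j⁻¹ := fun j hj => by
    obtain ⟨v, hv, hjr⟩ := F.rel_of_J hj
    refine ((T.hz.mul hjr).mul T.hz).eq ?_
    rw [z₀_inverts v hv, mul_assoc, tz_facts.2.2.2.2.2.2.2.2.2.2.1, mul_one]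
    exact hjr.inv
  have hΨinj : Function.Injective Ψ := by
    rintro ⟨u, v⟩ ⟨u', v'⟩ e
    have hx := hΨclass (u, v)
    have c1 := hΨcomm (u, v)
    have c2 := hΨcomm (u', v')
    rw [← e] at c2
    obtain ⟨x, hxdef⟩ : ∃ x, Ψ (u, v) = x := ⟨_, rfl⟩
    rw [hxdef] at hx c1 c2
    simp only at c1 c2
    obtain ⟨w, hwdef⟩ : ∃ w, (u : G) * (u' : G)⁻¹ = w := ⟨_, rfl⟩
    have hwJ : w ∈ F.J := hwdef ▸ mul_mem u.2.1 (inv_mem u'.2.1)
    have hwτ : w * τ = τ * w := hwdef ▸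
      ((show Commute (u : G) τ from hAτ u).mul_left (show Commute (u' : G) τ from hAτ u').inv_left)
    have hw2 : (u : G) * z * (u : G)⁻¹ * ((u' : G) * z * (u' : G)⁻¹) = w * w := by
      calc (u : G) * z * (u : G)⁻¹ * ((u' : G) * z * (u' : G)⁻¹)
          = (u : G) * (z * ((u : G)⁻¹ * u') * z) * (u' : G)⁻¹ := by group
        _ = w * w := by rw [hinv _ (mul_mem (inv_mem u.2.1) u'.2.1), ← hwdef]; group
    have hxw : x * w = w * x := by
      have h : Commute x (w * w) := hw2 ▸ (show Commute x _ from c1).mul_right c2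
      have h4 : Commute x (w * w * (w * w)) := h.mul_right h
      rwa [show w * w * (w * w) = w * w * w * w by group, Frame.J_cube hwJ, one_mul] at h4
    have hw1 : w = 1 := by
      by_contra hne
      obtain ⟨wx, hwx⟩ := F.rel_of_mem (T.loc w hwJ hne (mem_centralizer_singleton_iff.mpr hxw))
      obtain ⟨v₀, hv₀, hwr⟩ := F.rel_of_J hwJ
      have hxx := (hwx.mul hwx).eq_one_iff.mp (T.class_sq hx)
      have hval : sgnPerm wx * sgnProd wx = 1 := by
        rw [← hfN hwx]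
        obtain ⟨h, rfl⟩ := hx
        rw [map_mul, map_mul _ h, map_inv, mul_inv_cancel_comm, map_mul, hfτ, hfz]
        decide
      have hx1 : wx ≠ 1 := fun h => by
        obtain ⟨k, hk⟩ := hx
        rw [hwx.eq_one_iff.mpr h, conj_eq_one_iff] at hk
        exact tz_facts.1 ((T.hτ.mul T.hz).eq_one_iff.mp hk)
      have hd1 : sgnProd wx = -1 := by
        refine (Int.units_eq_one_or _).resolve_left fun hd => hx1 ?_
        rw [hd, mul_one] at hval
        have hn : negs wx = 0 := by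
          have hd' : (-1 : ℤˣ) ^ negs wx = 1 := hd
          have hm := T.mem_set hwx
          unfold Mem at hm
          rcases hm with h | ⟨-, h⟩ | ⟨h, -⟩ | ⟨-, h, -⟩
          · exact h
          · exact absurd h Bool.false_ne_true
          · rw [h] at hd'; exact absurd hd' (by decide)
          · exact absurd h Bool.false_ne_true
        have h9 := ninth_of_plus wx hn hval
        rw [show (9 : ℕ) = 2 * 4 + 1 from rfl, pow_succ, pow_mul, pow_two, hxx, one_pow, one_mul]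
          at h9
        exact h9
      refine no_common wx (T.mem_set hwx) (fun hr => ?_) hd1 hxx v₀ hv₀
        (fun e => hne (hwr.eq_one_iff.mpr (by rw [e]; rfl))) ((hwr.comm_iff T.hτ).mp hwτ)
        ((hwx.comm_iff hwr).mp hxw)
      rw [hd1, show sgnPerm wx = 1 from by show Equiv.Perm.sign wx.right = 1; rw [hr, map_one]] at hval
      exact absurd hval (by decide)
    have huu : u = u' := Subtype.ext (by
      rw [← hwdef, mul_inv_eq_one] at hw1; exact hw1)
    subst huu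
    refine Prod.ext rfl (Subtype.ext ?_)
    have e' : (v : G) * (τ * z) * (v : G)⁻¹ = (v' : G) * (τ * z) * (v' : G)⁻¹ :=
      mul_left_cancel (mul_right_cancel (mul_left_cancel (mul_right_cancel e)))
    obtain ⟨a, ha, har⟩ := F.rel_of_J v.2.1
    obtain ⟨b, hb, hbr⟩ := F.rel_of_J v'.2.1
    have hcr : F.Rel (τ * z) (τ₀ * z₀) := T.hτ.mul T.hz
    have := conj_tz_inj a ha ((har.comm_iff T.hτ).mp (hAτ v)) b hb ((hbr.comm_iff T.hτ).mp (hAτ v'))
      (((har.mul hcr).mul har.inv).unique (e' ▸ (hbr.mul hcr).mul hbr.inv))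
    exact har.eq (this ▸ hbr)
  have hΨsurj : ∀ x, InClass τ z x → ∃ p, Ψ p = x := by
    intro x hx
    obtain ⟨u, hu, hux⟩ : ∃ u : G, (u ∈ F.J ∧ u * τ = τ * u) ∧
        x * (u * z * u⁻¹) = u * z * u⁻¹ * x := by
      have hx1 : x ≠ 1 := by
        rintro rfl
        obtain ⟨h, hh⟩ := hx
        exact tz_facts.1 ((T.hτ.mul T.hz).eq_one_iff.mp (conj_eq_one_iff.mp hh))
      by_cases hxτ : x * τ = τ * x
      · rcases T.class_cent (T.class_sq hx) hx1 hxτ with h | ⟨u, hu, hut, h | h⟩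
        · exact absurd (by simpa using h) (T.class_ne_tau hx 1)
        · exact absurd (by simpa using h) (T.class_ne_z hx u⁻¹)
        · refine ⟨u, ⟨hu, hut⟩, ?_⟩
          rw [show x = u * (τ * z) * u⁻¹ by rw [← h]; group,
            show u * (τ * z) * u⁻¹ * (u * z * u⁻¹) = u * (τ * z * z) * u⁻¹ by group, ← hzc]
          group
      · rcases dihedral_cases hτ2 (T.class_sq hx) with ⟨k, hk⟩ |
          ⟨i, e, hi1, hii, hia, hib, -, -⟩
        · exact absurd hk (T.class_ne_tau hx k)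
        rcases T.class_cent hii hi1 hia with h | ⟨u, hu, hut, h | h⟩
        · exact absurd (h ▸ hib).symm hxτ
        · refine ⟨u, ⟨hu, hut⟩, ?_⟩
          rw [← h, show u * (u⁻¹ * i * u) * u⁻¹ = i by group, hib]
        · exfalso
          have hm : u⁻¹ * x * u = τ * z := T.no_mate hs (by simpa using class_conj hx u⁻¹) (by
            rw [← h, show u⁻¹ * x * u * (u⁻¹ * i * u) = u⁻¹ * (x * i) * u by group, ← hib]; group)
          have hxi : x = i := by
            calc x = u * (u⁻¹ * x * u) * u⁻¹ := by group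
              _ = i := by rw [hm, ← h]; group
          exact hxτ (hxi ▸ hia)
    -- move `z` to `τ`
    let y := s * (u⁻¹ * x * u) * s⁻¹
    have hy : InClass τ z y := class_conj (by simpa using class_conj hx u⁻¹) s
    have hyτ : y * τ = τ * y := by
      show s * (u⁻¹ * x * u) * s⁻¹ * τ = τ * (s * (u⁻¹ * x * u) * s⁻¹)
      calc s * (u⁻¹ * x * u) * s⁻¹ * τ = s * u⁻¹ * (x * (u * z * u⁻¹)) * u * s⁻¹ := by
            rw [← hsz]; group
        _ = _ := by rw [hux, ← hsz]; group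
    have hy1 : y ≠ 1 := fun e => by
      obtain ⟨h, hh⟩ := hy
      rw [e, conj_eq_one_iff] at hh
      exact tz_facts.1 ((T.hτ.mul T.hz).eq_one_iff.mp hh)
    rcases T.class_cent (T.class_sq hy) hy1 hyτ with h | ⟨v, hv, hvt, h | h⟩
    · exact absurd (by simpa using h) (T.class_ne_tau hy 1)
    · exact absurd (by simpa using h) (T.class_ne_z hy v⁻¹)
    · refine ⟨(⟨u, hu.1, mem_centralizer_singleton_iff.mpr hu.2⟩,
        ⟨v, hv, mem_centralizer_singleton_iff.mpr hvt⟩), ?_⟩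
      show u * (s⁻¹ * (v * (τ * z) * v⁻¹) * s) * u⁻¹ = x
      rw [← h]
      show u * (s⁻¹ * (v * (v⁻¹ * (s * (u⁻¹ * x * u) * s⁻¹) * v) * v⁻¹) * s) * u⁻¹ = x
      group
  -- the class has 81 elements
  let C : Subgroup G := centralizer {τ * z}
  let f : G ⧸ C → G := fun q => q.out * (τ * z) * q.out⁻¹
  have hfinj : Function.Injective f := fun p q e => by
    rw [← QuotientGroup.out_eq' p, ← QuotientGroup.out_eq' q]
    refine QuotientGroup.eq.mpr (mem_centralizer_singleton_iff.mpr ?_)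
    calc p.out⁻¹ * q.out * (τ * z) = p.out⁻¹ * (q.out * (τ * z) * q.out⁻¹) * q.out := by group
      _ = τ * z * (p.out⁻¹ * q.out) := by rw [← (show p.out * (τ * z) * p.out⁻¹ = q.out * (τ * z) * q.out⁻¹ from e)]; group
  have hrange : Set.range f = Set.range Ψ := by
    ext x
    constructor
    · rintro ⟨q, rfl⟩
      exact hΨsurj _ ⟨q.out, rfl⟩
    · rintro ⟨p, rfl⟩
      obtain ⟨h, hh⟩ := hΨclass p
      refine ⟨(h : G ⧸ C), ?_⟩
      obtain ⟨n, hn⟩ := QuotientGroup.mk_out_eq_mul C h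
      show _ * _ * _ = _
      rw [← hh, hn, show h * (n : G) * (τ * z) * (h * (n : G))⁻¹ =
        h * ((n : G) * (τ * z)) * (n : G)⁻¹ * h⁻¹ by group, mem_centralizer_singleton_iff.mp n.2]
      group
  have h81 : C.index = 81 := by
    rw [index_eq_card, ← Nat.card_range_of_injective hfinj, hrange,
      Nat.card_range_of_injective hΨinj, Nat.card_prod, hA]
  refine Frame.not_pow_five_dvd T.loc (F := F) ?_
  rw [← card_mul_index C, h81, show (3 : ℕ) ^ 5 = 3 * 81 from rfl]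
  refine mul_dvd_mul_right ?_ _
  have hd1 : d ≠ 1 := fun e => x₀_facts.2.2.2 (T.hd.eq_one_iff.mp e)
  have hdC : d ∈ C := mem_centralizer_singleton_iff.mpr
    ((T.hd.comm_iff (T.hτ.mul T.hz)).mpr tz_facts.2.2.2.2.1)
  haveI : Fact (Nat.Prime 3) := ⟨Nat.prime_three⟩
  have h3 : orderOf (⟨d, hdC⟩ : C) = 3 := orderOf_eq_prime (Subtype.ext (by
    show d ^ 3 = 1
    rw [pow_succ, pow_two, Frame.J_cube (T.hd.inJ_iff.mpr x₀_facts.2.2.1)]))
    (fun e => hd1 (congrArg Subtype.val e))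
  rw [← h3]
  exact orderOf_dvd_natCard _

end Twist

end CfsgLib.Recog.SymNine.Local
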